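import Cfsg.Agent.Chev.GTwoOdd.ReeS.Borel
import Cfsg.Agent.Chev.Springer.TorusAt
import Cfsg.Agent.Chev.Springer.AllData

/-! Elements of prime order dividing `q² - q + 1`. -/

set_option autoImplicit false
set_option linter.dupNamespace false
set_option linter.unusedSectionVars false

open Cfsg.Lie

namespace Cfsg.Lib.ReeStruct

open Cfsg.Lib.Chev
open Cfsg.Lib.Chev.Ree (Ree SG)

variable {K : Type*} [Field K] [Fintype K] (X : Ree K)

/-- The cyclotomic value `q² - q + 1`. -/
noncomputable def NN (_ : Ree K) : ℕ := Fintype.card K ^ 2 - Fintype.card K + 1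

theorem NN_cast : (NN X : ℤ) = (Fintype.card K : ℤ) ^ 2 - Fintype.card K + 1 := by
  rw [NN]
  push_cast [Nat.le_self_pow (two_ne_zero) (Fintype.card K)]
  ring

theorem not_two_dvd_NN : ¬ 2 ∣ NN X := by
  intro h
  have h' : ((2 : ℕ) : ℤ) ∣ (NN X : ℤ) := Int.natCast_dvd_natCast.2 h
  rw [NN_cast] at h'
  obtain ⟨k, hk⟩ := h'
  have he : Even ((Fintype.card K : ℤ) ^ 2 - Fintype.card K) := by
    rw [show (Fintype.card K : ℤ) ^ 2 - Fintype.card K = (Fintype.card K - 1) * Fintype.card K by ring]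
    simpa using Int.even_mul_succ_self ((Fintype.card K : ℤ) - 1)
  obtain ⟨j, hj⟩ := he
  omega

theorem not_three_dvd_NN : ¬ 3 ∣ NN X := by
  intro h
  have h' : ((3 : ℕ) : ℤ) ∣ (NN X : ℤ) := Int.natCast_dvd_natCast.2 h
  rw [NN_cast, X.hK] at h'
  push_cast at h'
  rw [show ((3 : ℤ) ^ (2 * X.m + 1)) ^ 2 - 3 ^ (2 * X.m + 1) + 1 =
    3 * (3 ^ (2 * X.m) * (3 ^ (2 * X.m + 1) - 1)) + 1 by ring] at h'
  omega

theorem five_le {r : ℕ} (hr : r.Prime) (hrN : r ∣ NN X) : 5 ≤ r := by
  have h2 := hr.two_le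
  by_contra h
  interval_cases r
  · exact not_two_dvd_NN X hrN
  · exact not_three_dvd_NN X hrN
  · exact absurd hr (by norm_num)

theorem G2_exponent : ∀ w ∈ Cfsg.Lib.Chev.Springer.G2_dat.S.WG, w ^ 6 = 1 := by
  intro w hw
  obtain ⟨L, rfl⟩ := Cfsg.Lib.Chev.Springer.G2_dat.S.exists_wpL hw
  have hsix : ∀ P ∈ Cfsg.Lib.Chev.Ree.Ree.permList, ∀ r < 12,
      P.getD (P.getD (P.getD (P.getD (P.getD (P.getD r 0) 0) 0) 0) 0) 0 = r := by decide +kernel
  have hmem : ∀ L : List (Fin chevG2.rank),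
      (List.range 12).map (fun r => G2.cert.wWord (L.map fun i => i.val) r) ∈ Cfsg.Lib.Chev.Ree.Ree.permList := by
    intro L
    induction L with
    | nil => simpa [Cert.wWord] using Cfsg.Lib.Chev.Ree.Ree.permList_facts.1
    | cons i L ih =>
      have := Cfsg.Lib.Chev.Ree.Ree.permList_facts.2.1 _ ih i.val i.isLt
      rw [List.map_map] at this
      exact this
  set P := (List.range 12).map (fun r => G2.cert.wWord (L.map fun i => i.val) r) with hP
  have hget : ∀ r : Fin chevG2.nroots, P.getD r.val 0 = (SG.wpL L r).val := fun r => by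
    rw [hP, List.getD_eq_getElem _ _ (by simp only [List.length_map, List.length_range]; exact r.isLt)]
    simp only [List.getElem_map, List.getElem_range]
    exact SG.wWord_eq L r
  ext r
  have h := hsix P (hmem L) r.val r.isLt
  simp only [hget] at h
  simp only [pow_succ, pow_zero, one_mul, Equiv.Perm.mul_apply, Equiv.Perm.one_apply]
  exact h

theorem amb {r : ℕ} (hr : r.Prime) (hrN : r ∣ NN X) {z : ↥X.G1} (hz : orderOf z = r) :
    IsCyclic ↥(Subgroup.centralizer {z}) ∧ Nat.card ↥(Subgroup.centralizer {z}) ∣ NN X ∧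
      ∀ (n : ↥X.G1) (j : ℕ), n * z * n⁻¹ = z ^ j → z ^ (j ^ 6) = z := by
  classical
  haveI : Fact r.Prime := ⟨hr⟩
  have h5 := five_le X hr hrN
  let inc : ↥X.G1 →* ↥(chevG2.group K) := Subgroup.inclusion fun g hg => (X.G1_le hg).1
  have hinc : Function.Injective inc := Subgroup.inclusion_injective _
  have hev : (Polynomial.cyclotomic 6 ℤ).eval (Fintype.card K : ℤ) = (NN X : ℤ) := by
    rw [Polynomial.cyclotomic_six, NN_cast]; simp
  have h6 : ∀ p : ℕ, p.Prime → p ∣ 12 → p ≤ 3 := by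
    intro p hp hd
    have := Nat.le_of_dvd (by norm_num) hd
    by_contra h
    interval_cases p <;> first | omega | exact absurd hp (by norm_num)
  obtain ⟨⟨hcyc, hcard⟩, hnorm⟩ := Cfsg.Lib.Chev.Springer.torus_at' (F := K) Cfsg.Lib.Chev.Springer.G2_dat
    Cfsg.Lib.Chev.St.okTorus_G2 (e := 6) (by norm_num) (by decide) (by decide) hev (by simp [NN])
    (fun ℓ hℓ hℓN => Or.inl fun h => by
      have := five_le X hℓ hℓN; have := h6 ℓ hℓ (h.trans ⟨2, rfl⟩); omega)
    hr hrN (fun h => by have := h6 r hr (h.trans ⟨2, rfl⟩); omega)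
    (fun h => by
      rw [Cfsg.Lib.Chev.Springer.G2_natCard_WG] at h
      have := h6 r hr (by simpa using h); omega)
    (inc z) ((orderOf_injective inc hinc z).trans hz)
  refine ⟨?_, ?_, fun n j h => hinc ?_⟩
  · haveI := hcyc
    refine isCyclic_of_injective ((inc.comp (Subgroup.centralizer {z}).subtype).codRestrict
      (Subgroup.centralizer {inc z}) fun g => ?_) fun a b h => Subtype.ext (hinc (congrArg Subtype.val h))
    rw [Subgroup.mem_centralizer_singleton_iff]
    show inc g.1 * inc z = inc z * inc g.1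
    rw [← map_mul, ← map_mul, Subgroup.mem_centralizer_singleton_iff.1 g.2]
  · rw [← hcard, ← Subgroup.card_map_of_injective (K := Subgroup.centralizer {z}) hinc]
    refine Subgroup.card_dvd_of_le ?_
    rintro _ ⟨g, hg, rfl⟩
    rw [Subgroup.mem_centralizer_singleton_iff, ← map_mul, ← map_mul, Subgroup.mem_centralizer_singleton_iff.1 hg]
  · rw [map_pow]
    exact hnorm 6 G2_exponent (inc n) j (by rw [← map_inv, ← map_mul, ← map_mul, h, map_pow])

end Cfsg.Lib.ReeStruct
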