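import Mathlib

/-! Counting conjugates, fusion by transfer, and small facts about finite groups. -/

set_option autoImplicit false

namespace Cfsg.Lib.ReeStruct

variable {G : Type*} [Group G]

/-- A `p`-element has a conjugate in each subgroup of index prime to `p`. -/
theorem exists_conj_mem [Finite G] (H : Subgroup G) {r : ℕ} [hr : Fact r.Prime] (hidx : ¬ r ∣ H.index) {z : G}
    {n : ℕ} (hz : z ^ r ^ n = 1) : ∃ g : G, g⁻¹ * z * g ∈ H := by
  have hP : IsPGroup r ↥(Subgroup.zpowers z) := by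
    rintro ⟨y, k, rfl⟩
    refine ⟨n, Subtype.ext ?_⟩
    show (z ^ k) ^ r ^ n = 1
    rw [← zpow_natCast, ← zpow_mul, mul_comm, zpow_mul, zpow_natCast, hz, one_zpow]
  obtain ⟨p, hp⟩ := hP.nonempty_fixed_point_of_prime_not_dvd_card (G ⧸ H) (by rwa [← Subgroup.index_eq_card])
  obtain ⟨g, rfl⟩ := QuotientGroup.mk_surjective p
  refine ⟨g, ?_⟩
  have h : ((z * g : G) : G ⧸ H) = (g : G ⧸ H) := hp ⟨z, Subgroup.mem_zpowers z⟩
  have h2 := QuotientGroup.eq.1 h.symm
  rwa [← mul_assoc] at h2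

/-- A prime dividing the order of an element gives an element of that order among its powers. -/
theorem exists_prime_pow [Finite G] (g : G) {r : ℕ} (hr : r.Prime) (h : r ∣ orderOf g) :
    ∃ k : ℕ, orderOf (g ^ k) = r :=
  ⟨orderOf g / r, orderOf_pow_orderOf_div (orderOf_pos g).ne' h⟩

/-- The conjugates of a subset that meets its conjugates only inside `M`. -/
theorem card_conj_union [Finite G] (M : Subgroup G) (T : Set G) (hM : ∀ g ∈ M, ∀ z ∈ T, g * z * g⁻¹ ∈ T)
    (hTI : ∀ g z, z ∈ T → g * z * g⁻¹ ∈ T → g ∈ M) :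
    Nat.card {x : G // ∃ g, g⁻¹ * x * g ∈ T} = M.index * Nat.card T := by
  rw [Subgroup.index_eq_card, ← Nat.card_prod]
  symm
  refine Nat.card_congr (Equiv.ofBijective
    (fun p : (G ⧸ M) × T => (⟨p.1.out * p.2.1 * p.1.out⁻¹, p.1.out, by
      rw [show p.1.out⁻¹ * (p.1.out * p.2.1 * p.1.out⁻¹) * p.1.out = p.2.1 by group]; exact p.2.2⟩ :
        {x : G // ∃ g, g⁻¹ * x * g ∈ T})) ⟨?_, ?_⟩)
  · rintro ⟨c, z, hz⟩ ⟨c', z', hz'⟩ h
    have h1 : c.out * z * c.out⁻¹ = c'.out * z' * c'.out⁻¹ := congrArg Subtype.val h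
    have h2 : (c'.out⁻¹ * c.out) * z * (c'.out⁻¹ * c.out)⁻¹ = z' := by
      calc (c'.out⁻¹ * c.out) * z * (c'.out⁻¹ * c.out)⁻¹ = c'.out⁻¹ * (c.out * z * c.out⁻¹) * c'.out := by group
        _ = z' := by rw [h1]; group
    have h3 := hTI _ z hz (h2.symm ▸ hz')
    have hc : c = c' := by
      rw [← QuotientGroup.out_eq' c, ← QuotientGroup.out_eq' c']
      exact (QuotientGroup.eq.2 h3).symm
    subst hc
    simp only [inv_mul_cancel, one_mul, inv_one, mul_one] at h2
    subst h2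
    rfl
  · rintro ⟨x, g, hg⟩
    obtain ⟨m, hm⟩ := QuotientGroup.mk_out_eq_mul M g
    refine ⟨⟨(g : G ⧸ M), (m : G)⁻¹ * (g⁻¹ * x * g) * (m : G), ?_⟩, Subtype.ext ?_⟩
    · have := hM _ (inv_mem m.2) _ hg
      rwa [inv_inv] at this
    · show (g : G ⧸ M).out * ((m : G)⁻¹ * (g⁻¹ * x * g) * (m : G)) * (g : G ⧸ M).out⁻¹ = x
      rw [hm]; group

theorem card_eq_of_iff [Finite G] (M : Subgroup G) (T : Set G) (hM : ∀ g ∈ M, ∀ z ∈ T, g * z * g⁻¹ ∈ T)
    (hTI : ∀ g z, z ∈ T → g * z * g⁻¹ ∈ T → g ∈ M) {p : G → Prop} (hp : ∀ x, p x ↔ ∃ g, g⁻¹ * x * g ∈ T) :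
    Nat.card {x : G // p x} = M.index * Nat.card T :=
  (Nat.card_congr (Equiv.subtypeEquivRight hp)).trans (card_conj_union M T hM hTI)

/-- Orbit counting inside a subgroup. -/
theorem card_eq_orbit [Finite G] (H : Subgroup G) (x : G) (T : Set G) (hT : ∀ h ∈ H, h * x * h⁻¹ ∈ T)
    (hsurj : ∀ y ∈ T, ∃ h ∈ H, h * x * h⁻¹ = y) :
    Nat.card H = Nat.card T * Nat.card ↥(H ⊓ Subgroup.centralizer {x}) := by
  set C := (H ⊓ Subgroup.centralizer {x}).subgroupOf H with hC
  have hCcard : Nat.card C = Nat.card ↥(H ⊓ Subgroup.centralizer {x}) :=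
    Nat.card_congr (Subgroup.subgroupOfEquivOfLe inf_le_left).toEquiv
  rw [← hCcard, Subgroup.card_eq_card_quotient_mul_card_subgroup C]
  congr 1
  refine Nat.card_congr (Equiv.ofBijective (Quotient.lift (fun h : H => (⟨h * x * (h : G)⁻¹, hT h h.2⟩ : T)) ?_) ⟨?_, ?_⟩)
  · intro a b hab
    have := QuotientGroup.leftRel_apply.1 hab
    rw [hC, Subgroup.mem_subgroupOf, Subgroup.mem_inf] at this
    have e := Subgroup.mem_centralizer_singleton_iff.1 this.2
    simp only [Subgroup.coe_mul, Subgroup.coe_inv] at e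
    refine Subtype.ext ?_
    show (a : G) * x * (a : G)⁻¹ = b * x * (b : G)⁻¹
    calc (a : G) * x * (a : G)⁻¹ = a * (x * ((a : G)⁻¹ * b)) * (b : G)⁻¹ := by group
      _ = _ := by rw [← e]; group
  · rintro ⟨a⟩ ⟨b⟩ h
    have h1 : (a : G) * x * (a : G)⁻¹ = b * x * (b : G)⁻¹ := congrArg Subtype.val h
    refine Quotient.sound (QuotientGroup.leftRel_apply.2 ?_)
    rw [hC, Subgroup.mem_subgroupOf, Subgroup.mem_inf]
    refine ⟨(a⁻¹ * b : H).2, Subgroup.mem_centralizer_singleton_iff.2 ?_⟩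
    simp only [Subgroup.coe_mul, Subgroup.coe_inv]
    calc (a : G)⁻¹ * b * x = (a : G)⁻¹ * ((b : G) * x * (b : G)⁻¹) * b := by group
      _ = x * ((a : G)⁻¹ * b) := by rw [← h1]; group
  · rintro ⟨y, hy⟩
    obtain ⟨h, hh, e⟩ := hsurj y hy
    exact ⟨QuotientGroup.mk (⟨h, hh⟩ : H), Subtype.ext e⟩

/-- In a perfect group an involution cannot avoid the kernel of a `Z₂`-valued character of a subgroup of odd
index. -/
theorem exists_fused [Finite G] (H : Subgroup G) (χ : H →* Multiplicative (ZMod 2)) (hidx : Odd H.index)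
    (hperf : commutator G = ⊤) {g : G} (hg : g * g = 1) :
    ∃ (x : G) (hx : x⁻¹ * g * x ∈ H), χ ⟨_, hx⟩ = 1 := by
  classical
  by_contra hno
  push Not at hno
  have htwo : ∀ c : Multiplicative (ZMod 2), c ≠ 1 → c = Multiplicative.ofAdd 1 := by decide
  have h0 : MonoidHom.transfer χ g = 1 :=
    MonoidHom.mem_ker.1 (Abelianization.commutator_subset_ker _ (hperf ▸ Subgroup.mem_top g))
  letI : Fintype (Quotient (MulAction.orbitRel (Subgroup.zpowers g) (G ⧸ H))) := Fintype.ofFinite _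
  have hsum : (∑ q : Quotient (MulAction.orbitRel (Subgroup.zpowers g) (G ⧸ H)),
      Function.minimalPeriod (g • ·) q.out) = H.index := (Subgroup.index_eq_sum_minimalPeriod H g).symm
  rw [MonoidHom.transfer_eq_prod_quotient_orbitRel_zpowers_quot,
    Finset.prod_congr rfl (g := fun q => Multiplicative.ofAdd
      ((Function.minimalPeriod (g • ·) q.out : ℕ) : ZMod 2)) fun q _ => ?_,
    ← ofAdd_sum, ← Nat.cast_sum, hsum, ofAdd_eq_one, ZMod.natCast_eq_zero_iff] at h0
  · exact (Nat.not_even_iff_odd.2 hidx) (even_iff_two_dvd.2 h0)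
  · set k := Function.minimalPeriod (g • ·) q.out with hk
    obtain ⟨j, hj | hj⟩ := Nat.even_or_odd' k
    · have hgk : g ^ k = 1 := by rw [hj, pow_mul, sq, hg, one_pow]
      have e : (k : ZMod 2) = 0 := by rw [ZMod.natCast_eq_zero_iff]; exact ⟨j, hj⟩
      rw [e, ofAdd_zero, ← map_one χ]
      congr 1
      refine Subtype.ext ?_
      simp [← hk, hgk]
    · have hgk : g ^ k = g := by rw [hj, pow_succ, pow_mul, sq, hg, one_pow, one_mul]
      have e : (k : ZMod 2) = 1 := by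
        rw [hj, Nat.cast_add, Nat.cast_mul, show ((2 : ℕ) : ZMod 2) = 0 from rfl, zero_mul, zero_add, Nat.cast_one]
      rw [e]
      have hx : q.out.out⁻¹ * g * q.out.out ∈ H := by
        have := QuotientGroup.out_conj_pow_minimalPeriod_mem H g q.out
        rwa [← hk, hgk] at this
      refine Eq.trans (congrArg χ (Subtype.ext ?_)) (htwo _ (hno q.out.out hx))
      simp [← hk, hgk]

/-- The elements of a given order in a cyclic subgroup. -/
theorem card_order_cyclic [Finite G] (A : Subgroup G) [IsCyclic A] {d : ℕ} (hd : d ∣ Nat.card A) :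
    Nat.card {x : G | x ∈ A ∧ orderOf x = d} = d.totient := by
  classical
  have : Fintype A := Fintype.ofFinite A
  rw [← IsCyclic.card_orderOf_eq_totient (α := A) (by rwa [← Nat.card_eq_fintype_card]),
    ← Fintype.card_subtype, ← Nat.card_eq_fintype_card]
  exact Nat.card_congr {
    toFun := fun x => ⟨⟨x.1, x.2.1⟩, by rw [← Subgroup.orderOf_coe]; exact x.2.2⟩
    invFun := fun x => ⟨x.1.1, x.1.2, by rw [Subgroup.orderOf_coe]; exact x.2⟩
    left_inv := fun _ => rfl
    right_inv := fun _ => rfl }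

/-- Two subgroups of a cyclic subgroup with the same order are equal. -/
theorem eq_of_card_eq [Finite G] {A B₁ B₂ : Subgroup G} [IsCyclic A] (h₁ : B₁ ≤ A) (h₂ : B₂ ≤ A)
    (h : Nat.card B₁ = Nat.card B₂) : B₁ = B₂ := by
  classical
  have : Fintype A := Fintype.ofFinite A
  have hroots : ∀ B : Subgroup G, B ≤ A → (B.subgroupOf A : Set A) = {x : A | x ^ Nat.card B = 1} := by
    intro B hB
    have hc : Nat.card (B.subgroupOf A) = Nat.card B := Nat.card_congr (Subgroup.subgroupOfEquivOfLe hB).toEquiv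
    refine Set.eq_of_subset_of_ncard_le (fun x hx => ?_) ?_ (Set.toFinite _)
    · have := congrArg Subtype.val (pow_card_eq_one' (x := (⟨x, hx⟩ : B.subgroupOf A)))
      rw [hc] at this
      exact this
    · rw [← Nat.card_coe_set_eq (↑(B.subgroupOf A) : Set A),
        show Nat.card ↥(↑(B.subgroupOf A) : Set A) = Nat.card B from hc,
        show {x : A | x ^ Nat.card B = 1} = ↑(Finset.univ.filter fun x : A => x ^ Nat.card B = 1) by ext; simp,
        Set.ncard_coe_finset]
      exact IsCyclic.card_pow_eq_one_le Nat.card_pos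
  have key : B₁.subgroupOf A = B₂.subgroupOf A :=
    SetLike.coe_injective (by rw [hroots B₁ h₁, hroots B₂ h₂, h])
  rw [← Subgroup.map_subgroupOf_eq_of_le h₁, key, Subgroup.map_subgroupOf_eq_of_le h₂]

theorem conj_map_eq {A : Subgroup G} {g : G} :
    ∀ x, x ∈ A.map (MulAut.conj g).toMonoidHom ↔ g⁻¹ * x * g ∈ A := by
  intro x
  rw [Subgroup.mem_map]
  constructor
  · rintro ⟨a, ha, rfl⟩
    simpa [MulAut.conj_apply, mul_assoc] using ha
  · exact fun h => ⟨_, h, by simp [MulAut.conj_apply, mul_assoc]⟩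

end Cfsg.Lib.ReeStruct
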