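import Cfsg.Agent.Chev.GTwoOdd.Ree
import Cfsg.Agent.Chev.Ree.Tits
import Cfsg.Agent.Chev.Ree.Law
import Cfsg.Agent.Chev.GTwoOdd.ReeS.Generic

/-! The point stabiliser of a small Ree group: unipotent elements and the split torus. -/

set_option autoImplicit false
set_option linter.dupNamespace false
set_option linter.unusedSectionVars false

open Cfsg.Lie

namespace Cfsg.Lib.ReeStruct

open Cfsg.Lib.Chev
open Cfsg.Lib.Chev.Ree (Ree SG)
open Cfsg.Lib.GTwoOdd.ReeInv (hv)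

variable {K : Type*} [Field K] [Fintype K] (X : Ree K)

/-- The unipotent radical of the point stabiliser. -/
noncomputable def Us : Subgroup ↥X.G1 := (chevG2.posUnipotent K).subgroupOf X.G1

/-- The split torus. -/
noncomputable def Hs : Subgroup ↥X.G1 := (chevG2.diagonalSubgroup K).subgroupOf X.G1

/-- The parametrisation of the split torus. -/
noncomputable def hs : Kˣ →* ↥X.G1 := X.hh.codRestrict X.G1 X.hh_mem

theorem hs_coe (s : Kˣ) : (hs X s : GL chevG2.Idx K) = X.hh s := rfl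

theorem hs_inj : Function.Injective (hs X) := fun _ _ h => X.hh_injective (congrArg Subtype.val h)

theorem hs_neg_one : hs X (-1) = hv X := rfl

theorem Hs_eq : Hs X = (hs X).range := by
  ext g
  rw [Hs, Subgroup.mem_subgroupOf]
  constructor
  · intro h
    obtain ⟨s, hs'⟩ := X.H1_eq ▸ Subgroup.mem_inf.2 ⟨h, g.2⟩
    exact ⟨s, Subtype.ext hs'⟩
  · rintro ⟨s, rfl⟩
    exact X.hh_diag s

theorem mem_Hs {g : ↥X.G1} : g ∈ Hs X ↔ ∃ s, hs X s = g := by rw [Hs_eq]; rfl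

theorem card_Hs : Nat.card (Hs X) = Fintype.card K - 1 := by
  rw [Hs_eq, ← Nat.card_congr (MonoidHom.ofInjective (hs_inj X)).toEquiv, Nat.card_units, Nat.card_eq_fintype_card]

theorem cyclic_Hs : IsCyclic (Hs X) := by
  rw [Hs_eq]; exact isCyclic_of_surjective _ (hs X).rangeRestrict_surjective

theorem hs_mem_Bs (s : Kˣ) : hs X s ∈ X.Bs := X.mem_Bs.2 (X.diag_le_B (X.hh_diag s))

theorem Us_le_Bs : Us X ≤ X.Bs := fun _ hu => X.mem_Bs.2 (SG.B_le_of hu)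

theorem hs_conj_Us (s : Kˣ) {u : ↥X.G1} (hu : u ∈ Us X) : hs X s * u * (hs X s)⁻¹ ∈ Us X :=
  (Subgroup.mem_normalizer_iff.1 (SG.diag_normalises_U (X.hh_diag s)) _).1 hu

theorem Bs_cases {b : ↥X.G1} (hb : b ∈ X.Bs) : ∃ u ∈ Us X, ∃ s, b = u * hs X s := by
  obtain ⟨t, a, v, s, e⟩ := X.borel_fixed (X.mem_Bs.1 hb) (X.G1_le b.2).2
  exact ⟨⟨_, X.uu_mem_G1 t a v⟩, X.uu_mem_U t a v, s, Subtype.ext e⟩

theorem conj_Us {b : ↥X.G1} (hb : b ∈ X.Bs) {u : ↥X.G1} (hu : u ∈ Us X) : b * u * b⁻¹ ∈ Us X := by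
  obtain ⟨w, hw, s, rfl⟩ := Bs_cases X hb
  rw [show w * hs X s * u * (w * hs X s)⁻¹ = w * (hs X s * u * (hs X s)⁻¹) * w⁻¹ by group]
  exact mul_mem (mul_mem hw (hs_conj_Us X s hu)) (inv_mem hw)

theorem tri (g : ↥X.G1) : g ∈ X.Bs ∨ ∃ b ∈ X.Bs, ∃ u ∈ Us X, g = b * X.sn * u := by
  rcases X.Gs_cases (X.G1_le g.2) with ⟨t, u, v, s, h⟩ | ⟨t, u, v, s, t', u', v', h⟩
  · exact Or.inl (X.mem_Bs.2 (h ▸ (X.bp_mem ((t, u, v), s)).2))
  · exact Or.inr ⟨⟨_, (X.bp_mem ((t, u, v), s)).1⟩, X.mem_Bs.2 (X.bp_mem ((t, u, v), s)).2,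
      ⟨_, X.uu_mem_G1 t' u' v'⟩, X.uu_mem_U _ _ _, Subtype.ext h⟩

theorem uniq {b b' u u' : ↥X.G1} (hb : b ∈ X.Bs) (hb' : b' ∈ X.Bs) (hu : u ∈ Us X) (hu' : u' ∈ Us X)
    (e : b * X.sn * u = b' * X.sn * u') : b = b' ∧ u = u' := by
  obtain ⟨h1, h2⟩ := X.unique (X.mem_Bs.1 hb) (X.mem_Bs.1 hb') (show (u : GL chevG2.Idx K) ∈ _ from hu)
    (show (u' : GL chevG2.Idx K) ∈ _ from hu') (congrArg Subtype.val e)
  exact ⟨Subtype.ext h1, Subtype.ext h2⟩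

theorem Us_Hs {u : ↥X.G1} (hu : u ∈ Us X) {s : Kˣ} (h : u = hs X s) : u = 1 ∧ s = 1 := by
  have h1 : (u : GL chevG2.Idx K) ∈ chevG2.posUnipotent K ⊓ chevG2.diagonalSubgroup K :=
    Subgroup.mem_inf.2 ⟨hu, by rw [h]; exact X.hh_diag s⟩
  rw [SG.U_inf_H, Subgroup.mem_bot] at h1
  have hu1 : u = 1 := Subtype.ext h1
  exact ⟨hu1, hs_inj X (by rw [map_one, ← h, hu1])⟩

theorem sn_inv (s : Kˣ) : X.sn * hs X s * X.sn⁻¹ = hs X s⁻¹ := by
  have hd : X.n0 * X.hh s * X.n0⁻¹ ∈ chevG2.diagonalSubgroup K ⊓ X.G1 :=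
    Subgroup.mem_inf.2 ⟨X.n0_conj (X.hh_diag s), mul_mem (mul_mem X.n0_mem (X.hh_mem s)) (inv_mem X.n0_mem)⟩
  rw [X.H1_eq] at hd
  obtain ⟨s', hs'⟩ := hd
  have e : X.n0 * Ok.tG chevG2 K ![s ^ X.e, s] * X.n0⁻¹ = Ok.tG chevG2 K ![s' ^ X.e, s'] := by
    have h1 := hs'.symm
    rw [X.hh_apply, X.hh_apply] at h1
    exact h1
  obtain ⟨L, ha, hL⟩ := X.n0_act
  have D := Springer.G2_dat
  have hchi := D.chi_of_conj (w := SG.wpL L) ha e
  have hinv : ∀ (c : Fin 2 → Kˣ) (r : Fin chevG2.nroots), chi chevG2 c (SG.wpL L r).val = (chi chevG2 c r.val)⁻¹ := by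
    intro c r
    have hneg : ∀ r < 12, ∀ i < 2, chevG2.cartan i (11 - r) = - chevG2.cartan i r := by decide +kernel
    simp only [chi, ← Finset.prod_inv_distrib, hL r]
    refine Finset.prod_congr rfl fun i _ => ?_
    rw [hneg _ r.isLt _ i.isLt, zpow_neg]
  have hker : (Ok.tG chevG2 K).ker = ⊥ := (MonoidHom.ker_eq_bot_iff _).2 Cfsg.Lib.Chev.Ree.Ree.tt_injective
  have hc : (![s' ^ X.e, s'] : Fin 2 → Kˣ) = (![s ^ X.e, s])⁻¹ := by
    refine D.al_injective hker (Eq.trans ?_ (map_inv (D.al (K := K)) _).symm)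
    funext j
    show chi chevG2 ![s' ^ X.e, s'] (D.S.sp j).val = (chi chevG2 ![s ^ X.e, s] (D.S.sp j).val)⁻¹
    rw [← hchi (D.S.sp j), hinv, inv_inv]
  have hss : s' = s⁻¹ := by
    have := congrFun hc 1
    simpa using this
  refine Subtype.ext ?_
  show X.n0 * X.hh s * X.n0⁻¹ = X.hh s⁻¹
  rw [← hss]; exact hs'.symm

theorem mem_Bs_of_conj {z : ↥X.G1} (hz : z ∈ Us X) (hz1 : z ≠ 1) {g : ↥X.G1} (h : g * z * g⁻¹ ∈ X.Bs) :
    g ∈ X.Bs := by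
  rcases tri X g with hg | ⟨b, hb, u, hu, rfl⟩
  · exact hg
  exfalso
  have hz' : u * z * u⁻¹ ∈ Us X := mul_mem (mul_mem hu hz) (inv_mem hu)
  have hβ : X.sn * (u * z * u⁻¹) * X.sn⁻¹ ∈ X.Bs := by
    have := mul_mem (mul_mem (inv_mem hb) h) hb
    rwa [show b⁻¹ * (b * X.sn * u * z * (b * X.sn * u)⁻¹) * b = X.sn * (u * z * u⁻¹) * X.sn⁻¹ by group] at this
  have e : (1 : ↥X.G1) * X.sn * (u * z * u⁻¹) = X.sn * (u * z * u⁻¹) * X.sn⁻¹ * X.sn * 1 := by group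
  obtain ⟨-, h2⟩ := uniq X (one_mem _) hβ hz' (one_mem _) e
  rw [mul_inv_eq_one] at h2
  exact hz1 (mul_eq_left.1 h2)

theorem fix_Us {s : Kˣ} (hs2 : s ^ 2 ≠ 1) {u : ↥X.G1} (hu : u ∈ Us X) (h : hs X s * u = u * hs X s) : u = 1 :=
  Subtype.ext (X.centralizer_U1 hs2 (Subgroup.mem_inf.2 ⟨hu, u.2⟩) (congrArg Subtype.val h))

theorem inter_U {u : ↥X.G1} (hu : u ∈ Us X) {s s' : Kˣ} (hs2 : s ^ 2 ≠ 1) (h : u * hs X s = hs X s' * u) :
    u = 1 ∧ s' = s := by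
  have e : hs X s' = u * (hs X s * u⁻¹ * (hs X s)⁻¹) * hs X s := by
    rw [show u * (hs X s * u⁻¹ * (hs X s)⁻¹) * hs X s = u * hs X s * u⁻¹ by group, h]; group
  obtain ⟨h1, h2⟩ := Us_Hs X (mul_mem hu (hs_conj_Us X s (inv_mem hu))) (s := s' / s)
    (by rw [map_div, e, div_eq_mul_inv]; group)
  rw [div_eq_one] at h2
  subst h2
  exact ⟨fix_Us X hs2 hu h.symm, rfl⟩

theorem intertwine {s s' : Kˣ} (hs2 : s ^ 2 ≠ 1) {g : ↥X.G1} (h : g * hs X s = hs X s' * g) :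
    (g ∈ Hs X ∧ s' = s) ∨ ((∃ a, g = hs X a * X.sn) ∧ s' = s⁻¹) := by
  rcases tri X g with hg | ⟨b, hb, u, hu, rfl⟩
  · left
    obtain ⟨u, hu, a, rfl⟩ := Bs_cases X hg
    have h' : u * hs X s = hs X s' * u := by
      refine mul_right_cancel (b := hs X a) ?_
      rw [mul_assoc u, ← map_mul, mul_comm, map_mul, ← mul_assoc, h, mul_assoc]
    obtain ⟨rfl, rfl⟩ := inter_U X hu hs2 h'
    exact ⟨mem_Hs X |>.2 ⟨a, by rw [one_mul]⟩, rfl⟩
  · right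
    have hu' : (hs X s)⁻¹ * u * hs X s ∈ Us X := by
      have := hs_conj_Us X s⁻¹ hu
      rwa [map_inv, inv_inv] at this
    have hsn : X.sn * hs X s = hs X s⁻¹ * X.sn := by rw [← sn_inv, inv_mul_cancel_right]
    have e : b * hs X s⁻¹ * X.sn * ((hs X s)⁻¹ * u * hs X s) = hs X s' * b * X.sn * u := by
      rw [mul_assoc b, ← hsn]
      calc b * (X.sn * hs X s) * ((hs X s)⁻¹ * u * hs X s) = b * X.sn * u * hs X s := by group
        _ = _ := by rw [h]; group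
    obtain ⟨e1, e2⟩ := uniq X (mul_mem hb (hs_mem_Bs X _)) (mul_mem (hs_mem_Bs X _) hb) hu' hu e
    have hu1 : u = 1 := fix_Us X hs2 hu (by
      conv_lhs => rw [← e2]
      group)
    obtain ⟨v, hv', a, rfl⟩ := Bs_cases X hb
    have h' : v * hs X s⁻¹ = hs X s' * v := by
      refine mul_right_cancel (b := hs X a) ?_
      rw [mul_assoc v, ← map_mul, mul_comm, map_mul, ← mul_assoc, e1, mul_assoc]
    obtain ⟨rfl, rfl⟩ := inter_U X hv' (by rwa [inv_pow, ne_eq, inv_eq_one]) h'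
    exact ⟨⟨a, by rw [hu1, one_mul, mul_one]⟩, rfl⟩

theorem sn_notMem : X.sn ∉ X.Bs := fun h => X.n0_not_borel (X.mem_Bs.1 h)

theorem cent_hs {s : Kˣ} (hs2 : s ^ 2 ≠ 1) : Subgroup.centralizer {hs X s} = Hs X := by
  ext g
  rw [Subgroup.mem_centralizer_singleton_iff]
  constructor
  · intro h
    rcases intertwine X hs2 h with ⟨hg, -⟩ | ⟨-, e⟩
    · exact hg
    · exact absurd (show s ^ 2 = 1 by rw [sq]; nth_rw 1 [e]; rw [inv_mul_cancel]) hs2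
  · intro hg
    obtain ⟨a, rfl⟩ := (mem_Hs X).1 hg
    rw [← map_mul, ← map_mul, mul_comm]

theorem exists_conj_hs {u : ↥X.G1} (hu : u ∈ Us X) {s : Kˣ} (hs2 : s ^ 2 ≠ 1) :
    ∃ w ∈ Us X, w⁻¹ * (u * hs X s) * w = hs X s := by
  let f : ↥(Us X) → ↥(Us X) := fun w => ⟨w * (hs X s * (w : ↥X.G1)⁻¹ * (hs X s)⁻¹),
    mul_mem w.2 (hs_conj_Us X s (inv_mem w.2))⟩
  have hinj : Function.Injective f := by
    intro a b h
    have h1 : (a : ↥X.G1) * (hs X s * (a : ↥X.G1)⁻¹ * (hs X s)⁻¹) = b * (hs X s * (b : ↥X.G1)⁻¹ * (hs X s)⁻¹) :=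
      congrArg Subtype.val h
    have h2 : (b : ↥X.G1)⁻¹ * a = 1 := fix_Us X hs2 (mul_mem (inv_mem b.2) a.2) (by
      calc hs X s * ((b : ↥X.G1)⁻¹ * a)
          = hs X s * (b : ↥X.G1)⁻¹ * (hs X s)⁻¹ * hs X s * a := by group
        _ = (b : ↥X.G1)⁻¹ * (b * (hs X s * (b : ↥X.G1)⁻¹ * (hs X s)⁻¹)) * hs X s * a := by group
        _ = _ := by rw [← h1]; group)
    exact Subtype.ext (inv_mul_eq_one.1 h2).symm
  obtain ⟨w, hw⟩ := (Finite.injective_iff_surjective.1 hinj) ⟨u, hu⟩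
  refine ⟨w, w.2, ?_⟩
  rw [show u = w * (hs X s * (w : ↥X.G1)⁻¹ * (hs X s)⁻¹) from (congrArg Subtype.val hw).symm]
  group

theorem pow_nine {u : ↥X.G1} (hu : u ∈ Us X) : u ^ 9 = 1 := by
  have := Cfsg.Lib.Chev.Ree.charP_three X.hK
  obtain ⟨t, a, v, e⟩ := X.mem_U1_iff.1 (Subgroup.mem_inf.2 ⟨hu, u.2⟩)
  obtain ⟨f', g', h, -⟩ := Cfsg.Lib.Chev.Ree.Ree.w6_cube (t ^ X.e) t (t ^ (X.e + 1) + a ^ X.e) (t ^ (2 * X.e + 1) + v ^ X.e) a v
  have h3 : (u ^ 3 : ↥X.G1) ∈ Us X := pow_mem hu 3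
  obtain ⟨t', a', v', e'⟩ := X.mem_U1_iff.1 (Subgroup.mem_inf.2 ⟨h3, (u ^ 3).2⟩)
  rw [Subgroup.coe_subtype] at e e'
  have ht' : t' = 0 := by
    rw [SubmonoidClass.coe_pow, e, pow_succ, pow_two, Cfsg.Lib.Chev.Ree.Ree.uu, h] at e'
    exact (Cfsg.Lib.Chev.Ree.Ree.w6_inj e').2.1.symm
  subst ht'
  refine Subtype.ext ?_
  rw [show (9 : ℕ) = 3 * 3 from rfl, pow_mul, SubmonoidClass.coe_pow, e']
  exact (X.uu_cube 0 a' v').2 rfl

theorem card_Us : Nat.card (Us X) = Fintype.card K ^ 3 := by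
  rw [← X.card_U1, Us, ← Subgroup.inf_subgroupOf_right]
  exact Nat.card_congr (Subgroup.subgroupOfEquivOfLe inf_le_right).toEquiv

theorem card_Us_three : Nat.card {u : ↥X.G1 | u ∈ Us X ∧ orderOf u = 3} = Fintype.card K ^ 2 - 1 := by
  rw [← X.card_order_three]
  exact Nat.card_congr {
    toFun := fun u => ⟨⟨u.1, Subgroup.mem_inf.2 ⟨u.2.1, u.1.2⟩⟩, by
      rw [← Subgroup.orderOf_coe]
      exact (Subgroup.orderOf_coe u.1).trans u.2.2⟩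
    invFun := fun u => ⟨⟨u.1.1, (Subgroup.mem_inf.1 u.1.2).2⟩, (Subgroup.mem_inf.1 u.1.2).1, by
      rw [← Subgroup.orderOf_coe]
      exact (Subgroup.orderOf_coe u.1).trans u.2⟩
    left_inv := fun _ => rfl
    right_inv := fun _ => rfl }

theorem order_Us {u : ↥X.G1} (hu : u ∈ Us X) (hu1 : u ≠ 1) : orderOf u = 3 ∨ orderOf u = 9 := by
  have h := orderOf_dvd_of_pow_eq_one (pow_nine X hu)
  obtain ⟨i, hi, e⟩ := (Nat.dvd_prime_pow Nat.prime_three).1 (show orderOf u ∣ 3 ^ 2 from h)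
  interval_cases i
  · exact absurd (orderOf_eq_one_iff.1 (e.trans (pow_zero 3))) hu1
  · exact Or.inl e
  · exact Or.inr e

theorem card_Us_nine : Nat.card {u : ↥X.G1 | u ∈ Us X ∧ orderOf u = 9} + Fintype.card K ^ 2 =
    Fintype.card K ^ 3 := by
  classical
  have hU : ((Us X : Set ↥X.G1)) = ({1} ∪ {u : ↥X.G1 | u ∈ Us X ∧ orderOf u = 3}) ∪
      {u : ↥X.G1 | u ∈ Us X ∧ orderOf u = 9} := by
    ext u
    simp only [SetLike.mem_coe, Set.mem_union, Set.mem_singleton_iff, Set.mem_setOf_eq]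
    refine ⟨fun hu => ?_, ?_⟩
    · by_cases h1 : u = 1
      · exact Or.inl (Or.inl h1)
      · rcases order_Us X hu h1 with h | h
        · exact Or.inl (Or.inr ⟨hu, h⟩)
        · exact Or.inr ⟨hu, h⟩
    · rintro ((rfl | h) | h)
      · exact one_mem _
      · exact h.1
      · exact h.1
  have h := congrArg Set.ncard hU
  rw [Set.ncard_union_eq, Set.ncard_union_eq, Set.ncard_singleton, ← Nat.card_coe_set_eq,
    ← Nat.card_coe_set_eq, ← Nat.card_coe_set_eq, card_Us_three,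
    show Nat.card ↥((Us X : Set ↥X.G1)) = Fintype.card K ^ 3 from card_Us X] at h
  · have := Nat.one_le_pow 2 (Fintype.card K) Fintype.card_pos
    omega
  · exact Set.disjoint_singleton_left.2 fun h => by simp at h
  · rw [Set.disjoint_left]
    rintro u (rfl | h) h'
    · simp at h'
    · have := h.2; have := h'.2; omega

end Cfsg.Lib.ReeStruct
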