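import Cfsg.Agent.Chev.GTwoOdd.ReeS.Invol
import Cfsg.Agent.Chev.GTwoOdd.ReeS.Ambient

/-! The centralizers of the toral elements and the classification of element orders. -/

set_option autoImplicit false
set_option linter.dupNamespace false
set_option linter.unusedSectionVars false

open Cfsg.Lie

namespace Cfsg.Lib.ReeStruct

open Cfsg.Lib.Chev
open Cfsg.Lib.Chev.Ree (Ree SG)
open Cfsg.Lib.GTwoOdd.ReeInv (hv iota centEquiv)

variable {K : Type*} [Field K] [Fintype K] (X : Ree K)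

local notation "PSL2K" => Matrix.ProjectiveSpecialLinearGroup (Fin 2) K

/-- Half of `q - 1`. -/
noncomputable def hq2 (_ : Ree K) : ℕ := (Fintype.card K - 1) / 2

theorem q_param : ∃ k, Fintype.card K = 8 * k + 3 ∧ nn X = 2 * k + 1 ∧ hq2 X = 4 * k + 1 := by
  have h := q_mod X
  exact ⟨Fintype.card K / 8, by omega, by unfold nn; omega, by unfold hq2; omega⟩

theorem cube_succ : Fintype.card K ^ 3 + 1 = (Fintype.card K + 1) * NN X := by
  have h : ((Fintype.card K ^ 3 + 1 : ℕ) : ℤ) = ((Fintype.card K + 1) * NN X : ℕ) := by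
    push_cast [NN_cast]; ring
  exact_mod_cast h

theorem NN_pos : 0 < NN X := Nat.succ_pos _

theorem card_G : Nat.card ↥X.G1 = Fintype.card K ^ 3 * (Fintype.card K - 1) * (4 * nn X) * NN X := by
  rw [X.card_G1, cube_succ X, (nn_spec X).1, mul_assoc]
  ring

include X in
theorem not_dvd_q {ℓ : ℕ} (hℓ : ℓ.Prime) (h3 : ℓ ≠ 3) : ¬ ℓ ∣ Fintype.card K := fun h => by
  rw [X.hK] at h
  exact h3 ((Nat.prime_dvd_prime_iff_eq hℓ Nat.prime_three).1 (hℓ.dvd_of_dvd_pow h))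

include X in
theorem not_three_dvd {d : ℕ} (hd : d ∣ Fintype.card K - 1 ∨ d ∣ Fintype.card K + 1) : ¬ 3 ∣ d := by
  intro h
  have h3 : 3 ∣ Fintype.card K := by rw [X.hK]; exact dvd_pow_self 3 (by omega)
  have h1 := Fintype.one_lt_card (α := K)
  rcases hd with hd | hd <;> have := h.trans hd <;> omega

theorem coprime_nn_pred : Nat.Coprime (nn X) (Fintype.card K - 1) := by
  obtain ⟨k, h1, h2, -⟩ := q_param X
  rw [h1, h2, show 8 * k + 3 - 1 = 2 * (4 * k + 1) by omega]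
  refine Nat.Coprime.mul_right ((Nat.coprime_two_right).2 (odd_two_mul_add_one k)) ?_
  rw [show 4 * k + 1 = 2 * k + (2 * k + 1) by ring, Nat.coprime_add_self_right, add_comm (2 * k) 1,
    Nat.coprime_add_self_left]
  exact Nat.coprime_one_left _

theorem coprime_nn_q : Nat.Coprime (nn X) (Fintype.card K) := by
  rw [X.hK]
  refine Nat.Coprime.pow_right _ (Nat.coprime_comm.1 ((Nat.prime_three).coprime_iff_not_dvd.2 fun h => ?_))
  exact not_three_dvd X (Or.inr ((nn_spec X).1 ▸ Dvd.intro_left 4 rfl)) h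

theorem not_dvd_NN {ℓ : ℕ} (hℓ : ℓ.Prime) (h : ℓ ∣ Fintype.card K - 1 ∨ ℓ ∣ Fintype.card K + 1) : ¬ ℓ ∣ NN X := by
  intro hN
  have h5 := five_le X hℓ hN
  have h1 := Fintype.one_lt_card (α := K)
  have hN' : (ℓ : ℤ) ∣ (NN X : ℤ) := Int.natCast_dvd_natCast.2 hN
  rw [NN_cast] at hN'
  rcases h with h | h
  · have h' : (ℓ : ℤ) ∣ (Fintype.card K : ℤ) - 1 := by
      have := Int.natCast_dvd_natCast.2 h
      rwa [Nat.cast_sub h1.le, Nat.cast_one] at this
    have := dvd_sub hN' (h'.mul_right (Fintype.card K : ℤ))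
    ring_nf at this
    have := Int.le_of_dvd one_pos this
    omega
  · have h' : (ℓ : ℤ) ∣ (Fintype.card K : ℤ) + 1 := by
      simpa using Int.natCast_dvd_natCast.2 h
    have := dvd_sub hN' (h'.mul_right ((Fintype.card K : ℤ) - 2))
    ring_nf at this
    have := Int.le_of_dvd three_pos this
    omega

theorem prime_cases {ℓ : ℕ} (hℓ : ℓ.Prime) (h : ℓ ∣ Nat.card ↥X.G1) :
    ℓ = 2 ∨ ℓ = 3 ∨ ℓ ∣ hq2 X ∨ ℓ ∣ nn X ∨ ℓ ∣ NN X := by
  by_cases h2 : ℓ = 2
  · exact Or.inl h2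
  by_cases h3 : ℓ = 3
  · exact Or.inr (Or.inl h3)
  rw [card_G] at h
  obtain ⟨k, hk, -, hk'⟩ := q_param X
  rw [show Fintype.card K - 1 = 2 * hq2 X by omega] at h
  rcases hℓ.dvd_mul.1 h with h | h
  · rcases hℓ.dvd_mul.1 h with h | h
    · rcases hℓ.dvd_mul.1 h with h | h
      · exact absurd (hℓ.dvd_of_dvd_pow h) (not_dvd_q X hℓ h3)
      · rcases hℓ.dvd_mul.1 h with h | h
        · exact absurd ((Nat.prime_dvd_prime_iff_eq hℓ Nat.prime_two).1 h) h2
        · exact Or.inr (Or.inr (Or.inl h))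
    · rcases hℓ.dvd_mul.1 h with h | h
      · exact absurd ((Nat.prime_dvd_prime_iff_eq hℓ Nat.prime_two).1 (hℓ.dvd_of_dvd_pow (n := 2) h)) h2
      · exact Or.inr (Or.inr (Or.inr (Or.inl h)))
  · exact Or.inr (Or.inr (Or.inr (Or.inr h)))

theorem orderOf_conj' (g x : ↥X.G1) : orderOf (g⁻¹ * x * g) = orderOf x := by
  rw [show g⁻¹ * x * g = MulAut.conj g⁻¹ x by simp]
  exact MulEquiv.orderOf_eq _ x

theorem commute_conj {g x z : ↥X.G1} (h : x * z = z * x) :
    (g⁻¹ * x * g) * (g⁻¹ * z * g) = (g⁻¹ * z * g) * (g⁻¹ * x * g) := by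
  calc (g⁻¹ * x * g) * (g⁻¹ * z * g) = g⁻¹ * (x * z) * g := by group
    _ = _ := by rw [h]; group

theorem card_Bs : Nat.card X.Bs = Fintype.card K ^ 3 * (Fintype.card K - 1) := by
  rw [← card_Us X, ← card_Hs X, Hs_eq, ← Nat.card_congr (MonoidHom.ofInjective (hs_inj X)).toEquiv, ← Nat.card_prod]
  symm
  refine Nat.card_congr (Equiv.ofBijective (fun p : ↥(Us X) × Kˣ =>
    (⟨(p.1 : ↥X.G1) * hs X p.2, mul_mem (Us_le_Bs X p.1.2) (hs_mem_Bs X _)⟩ : ↥X.Bs)) ⟨?_, ?_⟩)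
  · rintro ⟨u, s⟩ ⟨u', s'⟩ h
    have h1 : (u : ↥X.G1) * hs X s = u' * hs X s' := congrArg Subtype.val h
    have h2 : (u' : ↥X.G1)⁻¹ * u = hs X (s' / s) := by
      rw [map_div, eq_div_iff_mul_eq', mul_assoc, h1, inv_mul_cancel_left]
    obtain ⟨e1, e2⟩ := Us_Hs X (mul_mem (inv_mem u'.2) u.2) h2
    exact Prod.ext (Subtype.ext (inv_mul_eq_one.1 e1).symm) (div_eq_one.1 e2).symm
  · rintro ⟨b, hb⟩
    obtain ⟨u, hu, s, rfl⟩ := Bs_cases X hb
    exact ⟨(⟨u, hu⟩, s), rfl⟩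

theorem index_Bs : X.Bs.index = Fintype.card K ^ 3 + 1 := by
  have h := Subgroup.card_mul_index X.Bs
  rw [card_Bs, X.card_G1] at h
  exact Nat.eq_of_mul_eq_mul_left (Nat.mul_pos (pow_pos Fintype.card_pos 3)
    (Nat.sub_pos_of_lt Fintype.one_lt_card)) h

theorem index_Us : (Us X).index = (Fintype.card K - 1) * (Fintype.card K ^ 3 + 1) := by
  have h := Subgroup.card_mul_index (Us X)
  rw [card_Us, X.card_G1] at h
  exact Nat.eq_of_mul_eq_mul_left (pow_pos Fintype.card_pos 3) (h.trans (by ring))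

theorem index_Hs : (Hs X).index = Fintype.card K ^ 3 * (Fintype.card K ^ 3 + 1) := by
  have h := Subgroup.card_mul_index (Hs X)
  rw [card_Hs, X.card_G1] at h
  exact Nat.eq_of_mul_eq_mul_left (Nat.sub_pos_of_lt Fintype.one_lt_card) (h.trans (by ring))

theorem three_conj {w : ↥X.G1} (h : w ^ 9 = 1) : ∃ g : ↥X.G1, g⁻¹ * w * g ∈ Us X := by
  haveI : Fact (Nat.Prime 3) := ⟨Nat.prime_three⟩
  refine exists_conj_mem (Us X) (r := 3) ?_ (n := 2) h
  rw [index_Us, Nat.prime_three.dvd_mul, not_or]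
  refine ⟨fun h => not_three_dvd X (Or.inl h) dvd_rfl, fun h => ?_⟩
  have h3 : 3 ∣ Fintype.card K ^ 3 := dvd_pow (by rw [X.hK]; exact dvd_pow_self 3 (by omega)) (by norm_num)
  omega

theorem cent_three {z x : ↥X.G1} (hz : z ∈ Us X) (hz1 : z ≠ 1) (h : x * z = z * x) : x ∈ X.Bs :=
  mem_Bs_of_conj X hz hz1 (by rw [h, mul_inv_cancel_right]; exact Us_le_Bs X hz)

theorem hs_sq_ne {s : Kˣ} {ℓ : ℕ} (h : orderOf (hs X s) = ℓ) (h2 : 2 < ℓ) : s ^ 2 ≠ 1 := by
  intro e
  have := Nat.le_of_dvd two_pos (orderOf_dvd_of_pow_eq_one e)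
  rw [orderOf_injective _ (hs_inj X)] at h
  omega

theorem conj_into_Hs {w : ↥X.G1} {ℓ : ℕ} (hℓ : ℓ.Prime) (hw : orderOf w = ℓ) (h : ℓ ∣ hq2 X) :
    ∃ g : ↥X.G1, ∃ s : Kˣ, s ^ 2 ≠ 1 ∧ hs X s = g⁻¹ * w * g := by
  haveI : Fact ℓ.Prime := ⟨hℓ⟩
  obtain ⟨k, hk, -, hk'⟩ := q_param X
  have hodd : ℓ ≠ 2 := fun e => by subst e; omega
  have hq1 : ℓ ∣ Fintype.card K - 1 := by
    rw [show Fintype.card K - 1 = 2 * hq2 X by omega]; exact h.mul_left 2
  have h3 : ℓ ≠ 3 := fun e => not_three_dvd X (Or.inl hq1) (dvd_of_eq e.symm)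
  obtain ⟨g, hg⟩ := exists_conj_mem (Hs X) (r := ℓ) (by
    rw [index_Hs, hℓ.dvd_mul, not_or]
    refine ⟨fun e => not_dvd_q X hℓ h3 (hℓ.dvd_of_dvd_pow e), fun e => ?_⟩
    rw [cube_succ X] at e
    rcases hℓ.dvd_mul.1 e with e | e
    · have := Nat.dvd_sub e hq1
      rw [show Fintype.card K + 1 - (Fintype.card K - 1) = 2 by omega] at this
      exact hodd ((Nat.prime_dvd_prime_iff_eq hℓ Nat.prime_two).1 this)
    · exact not_dvd_NN X hℓ (Or.inl hq1) e) (n := 1) (by rw [pow_one, ← hw, pow_orderOf_eq_one])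
  obtain ⟨s, hs'⟩ := (mem_Hs X).1 hg
  refine ⟨g, s, hs_sq_ne X (by rw [hs', orderOf_conj', hw]) ?_, hs'⟩
  have := hℓ.two_le
  omega

theorem conj_into_T0 {w : ↥X.G1} {ℓ : ℕ} (hℓ : ℓ.Prime) (hw : orderOf w = ℓ) (h : ℓ ∣ nn X) :
    ∃ g : ↥X.G1, g⁻¹ * w * g ∈ T0 X := by
  haveI : Fact ℓ.Prime := ⟨hℓ⟩
  have hq1 : ℓ ∣ Fintype.card K + 1 := by rw [(nn_spec X).1]; exact h.mul_left 4
  have h3 : ℓ ≠ 3 := fun e => not_three_dvd X (Or.inr hq1) (dvd_of_eq e.symm)
  obtain ⟨g, hg⟩ := exists_conj_mem (Subgroup.centralizer {hv X}) (r := ℓ) (by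
    rw [Cfsg.Lib.GTwoOdd.ReeInv.index_cent, hℓ.dvd_mul, not_or]
    exact ⟨fun e => not_dvd_q X hℓ h3 (hℓ.dvd_of_dvd_pow e), not_dvd_NN X hℓ (Or.inr hq1)⟩)
    (n := 1) (by rw [pow_one, ← hw, pow_orderOf_eq_one])
  have ho : orderOf (g⁻¹ * w * g) = ℓ := (orderOf_conj' X g w).trans hw
  obtain ⟨c, -, hc⟩ := exists_conj_T0 X (Subgroup.mem_centralizer_singleton_iff.1 hg)
    (fun e => by rw [e, orderOf_one] at ho; exact hℓ.one_lt.ne ho) (by rw [ho]; exact h)
  exact ⟨g * c⁻¹, by rwa [show (g * c⁻¹)⁻¹ * w * (g * c⁻¹) = c * (g⁻¹ * w * g) * c⁻¹ by group]⟩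

theorem cent_T0 (hm : 1 ≤ X.m) {x : ↥X.G1} (hx : x ∈ T0 X) (hx1 : x ≠ 1) (hd : orderOf x ∣ nn X) :
    Subgroup.centralizer {x} = T0 X := by
  have hle : T0 X ≤ Subgroup.centralizer {x} := fun g hg =>
    Subgroup.mem_centralizer_singleton_iff.2 (T0_comm X hg hx)
  refine (Subgroup.eq_of_le_of_card_ge hle ?_).symm
  rw [card_T0]
  set c := Nat.card ↥(Subgroup.centralizer ({x} : Set ↥X.G1)) with hc
  refine Nat.le_of_dvd (Nat.succ_pos _) ?_
  rw [(nn_spec X).1]
  refine Nat.dvd_of_primeFactorsList_subperm (Nat.pos_iff_ne_zero.1 Nat.card_pos) ?_ |>.trans dvd_rfl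
  rw [List.subperm_ext_iff]
  intro ℓ hℓmem
  have hℓ : ℓ.Prime := Nat.prime_of_mem_primeFactorsList hℓmem
  have hℓc : ℓ ∣ c := Nat.dvd_of_mem_primeFactorsList hℓmem
  rw [Nat.primeFactorsList_count_eq, Nat.primeFactorsList_count_eq]
  have hdvd : c ∣ Nat.card ↥X.G1 := Subgroup.card_subgroup_dvd_card _
  haveI : Fact ℓ.Prime := ⟨hℓ⟩
  obtain ⟨⟨w, hwC⟩, hw⟩ := exists_prime_orderOf_dvd_card' (G := ↥(Subgroup.centralizer ({x} : Set ↥X.G1))) ℓ hℓc
  rw [← Subgroup.orderOf_coe] at hw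
  have hcomm : x * w = w * x := (Subgroup.mem_centralizer_singleton_iff.1 hwC).symm
  have hxd : orderOf x ≠ 1 := fun e => hx1 (orderOf_eq_one_iff.1 e)
  rcases prime_cases X hℓ (hℓc.trans hdvd) with rfl | rfl | h | h | h
  · -- the two-part
    have h4 : (4 * nn X).factorization 2 = 2 := by
      rw [show 4 * nn X = 2 ^ 2 * nn X from rfl, Nat.factorization_mul (by norm_num) (nn_pos X).ne',
        Finsupp.add_apply, Nat.prime_two.factorization_pow,
        Nat.factorization_eq_zero_of_not_dvd (fun h => (Nat.not_even_iff_odd.2 (nn_spec X).2.1) (even_iff_two_dvd.2 h))]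
      simp
    rw [h4]
    by_contra hlt
    push Not at hlt
    have h8 : 2 ^ 3 ∣ c := (Nat.Prime.pow_dvd_iff_le_factorization Nat.prime_two Nat.card_pos.ne').2 hlt
    obtain ⟨R, hR⟩ := Sylow.exists_subgroup_card_pow_prime 2 h8
    have hR' : IsPGroup 2 (R.map (Subgroup.centralizer ({x} : Set ↥X.G1)).subtype) :=
      (IsPGroup.of_card hR).map _
    obtain ⟨S, hS⟩ := hR'.exists_le_sylow
    obtain ⟨hS8, hSsq⟩ := Cfsg.Lib.GTwoOdd.ReeInv.sylow_two X S
    have hReq : R.map (Subgroup.centralizer ({x} : Set ↥X.G1)).subtype = S := by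
      refine Subgroup.eq_of_le_of_card_ge hS ?_
      rw [Subgroup.card_map_of_injective Subtype.val_injective, hR]
      exact hS8.le
    have hSx : ∀ y ∈ (S : Subgroup ↥X.G1), y * x = x * y := fun y hy => by
      rw [← hReq] at hy
      obtain ⟨r', -, rfl⟩ := hy
      exact Subgroup.mem_centralizer_singleton_iff.1 r'.2
    obtain ⟨⟨s, hsS⟩, hs2⟩ := exists_prime_orderOf_dvd_card' (G := ↥(S : Subgroup ↥X.G1)) 2 (by rw [hS8]; norm_num)
    rw [← Subgroup.orderOf_coe] at hs2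
    obtain ⟨g, hg⟩ := inv_conj X hm hs2
    change g * hv X * g⁻¹ = s at hg
    have hg' : g⁻¹ * s * g = hv X := by rw [← hg]; group
    have hx' : g⁻¹ * x * g * hv X = hv X * (g⁻¹ * x * g) := by
      rw [← hg']; exact commute_conj X (hSx s hsS).symm
    have ho : orderOf (g⁻¹ * x * g) ∣ nn X := by rw [orderOf_conj']; exact hd
    obtain ⟨c', hc', hcT⟩ := exists_conj_T0 X hx' (fun e => hxd (by rw [← orderOf_conj' X g x, e, orderOf_one])) ho
    have hmap : (S : Subgroup ↥X.G1).map (MulAut.conj (c' * g⁻¹)).toMonoidHom ≤ T0 X := by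
      intro y hy
      rw [conj_map_eq] at hy
      set y' := (c' * g⁻¹)⁻¹ * y * (c' * g⁻¹) with hy'
      have e : y = c' * (g⁻¹ * y' * g) * c'⁻¹ := by rw [hy']; group
      refine cent_inf X hcT (fun e' => hxd ?_) ?_ ?_ ?_
      · have : g⁻¹ * x * g = 1 := by
          calc g⁻¹ * x * g = c'⁻¹ * (c' * (g⁻¹ * x * g) * c'⁻¹) * c' := by group
            _ = 1 := by rw [e']; group
        rw [← orderOf_conj' X g x, this, orderOf_one]
      · rw [show c' * (g⁻¹ * x * g) * c'⁻¹ = MulAut.conj c' (g⁻¹ * x * g) from rfl, MulEquiv.orderOf_eq]; exact ho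
      · have h1 : (g⁻¹ * y' * g) * hv X = hv X * (g⁻¹ * y' * g) := by
          rw [← hg']
          refine commute_conj X ?_
          have h2 := hSsq _ (mul_mem hy hsS)
          have h3 := hSsq _ hy
          have h4 := hSsq _ hsS
          calc y' * s = y' * (y' * s * (y' * s)) * s := by rw [h2, mul_one]
            _ = (y' * y') * (s * y') * (s * s) := by group
            _ = s * y' := by rw [h3, h4, one_mul, mul_one]
        rw [e]
        calc c' * (g⁻¹ * y' * g) * c'⁻¹ * hv X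
            = c' * (g⁻¹ * y' * g) * (c'⁻¹ * (hv X * c')) * c'⁻¹ := by group
          _ = c' * (g⁻¹ * y' * g * hv X) * c'⁻¹ := by rw [← hc']; group
          _ = (c' * hv X) * (g⁻¹ * y' * g) * c'⁻¹ := by rw [h1]; group
          _ = _ := by rw [hc']; group
      · rw [e]
        calc c' * (g⁻¹ * y' * g) * c'⁻¹ * (c' * (g⁻¹ * x * g) * c'⁻¹) = c' * g⁻¹ * (y' * x) * g * c'⁻¹ := by group
          _ = _ := by rw [hSx y' hy]; group
    have h8' := Subgroup.card_dvd_of_le hmap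
    rw [Subgroup.card_map_of_injective (MulAut.conj (c' * g⁻¹)).injective, hS8, card_T0, (nn_spec X).1] at h8'
    obtain ⟨j, hj⟩ := (nn_spec X).2.1
    omega
  · exfalso
    obtain ⟨g, hg⟩ := three_conj X (w := w) (by rw [show (9 : ℕ) = 3 * 3 from rfl, pow_mul, ← hw, pow_orderOf_eq_one, one_pow])
    have hne : g⁻¹ * w * g ≠ 1 := fun e => by
      have := orderOf_conj' X g w; rw [e, orderOf_one, hw] at this; omega
    have hB := cent_three X hg hne (x := g⁻¹ * x * g) (commute_conj X hcomm)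
    have h1 : orderOf x ∣ Fintype.card K ^ 3 * (Fintype.card K - 1) := by
      rw [← orderOf_conj' X g x, ← card_Bs X]; exact Subgroup.orderOf_dvd_natCard _ hB
    exact hxd (Nat.eq_one_of_dvd_coprimes
      (Nat.Coprime.mul_right (Nat.Coprime.pow_right 3 (coprime_nn_q X)) (coprime_nn_pred X)) hd h1)
  · exfalso
    obtain ⟨g, s, hs2, e⟩ := conj_into_Hs X hℓ hw h
    have hH : g⁻¹ * x * g ∈ Hs X := by
      rw [← cent_hs X hs2, Subgroup.mem_centralizer_singleton_iff, e]; exact commute_conj X hcomm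
    have h1 : orderOf x ∣ Fintype.card K - 1 := by
      rw [← orderOf_conj' X g x, ← card_Hs X]; exact Subgroup.orderOf_dvd_natCard _ hH
    exact hxd (Nat.eq_one_of_dvd_coprimes (coprime_nn_pred X) hd h1)
  · -- primes dividing `(q + 1) / 4`
    have hq1 : ℓ ∣ Fintype.card K + 1 := by rw [(nn_spec X).1]; exact h.mul_left 4
    have hno : ∀ {M : ℕ}, ¬ ℓ ∣ M → M.factorization ℓ = 0 := fun h => Nat.factorization_eq_zero_of_not_dvd h
    have h3 : ℓ ≠ 3 := fun e => not_three_dvd X (Or.inr hq1) (dvd_of_eq e.symm)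
    have hpred : ¬ ℓ ∣ Fintype.card K - 1 := fun e =>
      hℓ.one_lt.ne' (Nat.eq_one_of_dvd_coprimes (coprime_nn_pred X) h e)
    have hcard := (Nat.factorization_le_iff_dvd Nat.card_pos.ne' Nat.card_pos.ne').2 hdvd ℓ
    have hq0 : Fintype.card K ^ 3 * (Fintype.card K - 1) ≠ 0 :=
      Nat.mul_ne_zero (pow_ne_zero _ Fintype.card_ne_zero) (by have := Fintype.one_lt_card (α := K); omega)
    rw [card_G, Nat.factorization_mul (Nat.mul_ne_zero hq0 (by have := nn_pos X; omega)) (NN_pos X).ne', Finsupp.add_apply,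
      hno (not_dvd_NN X hℓ (Or.inr hq1)), Nat.factorization_mul
        (Nat.mul_ne_zero (pow_ne_zero _ Fintype.card_ne_zero) (by have := Fintype.one_lt_card (α := K); omega))
        (by have := nn_pos X; omega), Finsupp.add_apply,
      Nat.factorization_mul (pow_ne_zero _ Fintype.card_ne_zero) (by have := Fintype.one_lt_card (α := K); omega),
      Finsupp.add_apply, hno (fun e => not_dvd_q X hℓ h3 (hℓ.dvd_of_dvd_pow e)), hno hpred] at hcard
    simpa using hcard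
  · exfalso
    obtain ⟨-, hdv, -⟩ := amb X hℓ h hw
    have h1 : orderOf x ∣ NN X :=
      (Subgroup.orderOf_dvd_natCard _ (Subgroup.mem_centralizer_singleton_iff.2 hcomm)).trans hdv
    obtain ⟨p, hp, hpd⟩ := Nat.exists_prime_and_dvd hxd
    exact not_dvd_NN X hp (Or.inr (by rw [(nn_spec X).1]; exact (hpd.trans hd).mul_left 4)) (hpd.trans h1)

/-- Every element is of one of five kinds. -/
theorem classify (hm : 1 ≤ X.m) (g : ↥X.G1) : orderOf g ∣ 6 ∨ orderOf g = 9 ∨ orderOf g ∣ Fintype.card K - 1 ∨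
    orderOf g ∣ 2 * nn X ∨ (1 < orderOf g ∧ orderOf g ∣ NN X) := by
  by_cases h1 : orderOf g = 1
  · exact Or.inl (h1 ▸ one_dvd _)
  by_cases h2 : 2 ∣ orderOf g
  · -- centralizes an involution
    obtain ⟨k, hk⟩ := exists_prime_pow g Nat.prime_two h2
    obtain ⟨x, hx⟩ := inv_conj X hm hk
    have hx' : x⁻¹ * g ^ k * x = hv X := by rw [← hx]; group
    have hc : (x⁻¹ * g * x) * hv X = hv X * (x⁻¹ * g * x) := by
      rw [← hx']; exact commute_conj X ((Commute.refl g).pow_right k).eq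
    obtain ⟨a, y, e⟩ := exists_iota X hc
    rw [← orderOf_conj' X x g, ← e]
    have key : ∀ M, 2 ∣ M → y ^ M = 1 → orderOf (iota X (a, y)) ∣ M := by
      rintro M ⟨j, rfl⟩ hy
      refine orderOf_dvd_of_pow_eq_one ?_
      rw [← map_pow, ← map_one (iota X)]
      refine congrArg (iota X) (Prod.ext ?_ hy)
      show a ^ (2 * j) = 1
      rw [pow_mul, sq, Cfsg.Lib.GTwoOdd.ReeInv.z2_sq, one_pow]
    haveI : Fact (Nat.Prime 3) := ⟨Nat.prime_three⟩
    haveI := Cfsg.Lib.Chev.Ree.charP_three X.hK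
    have hgcd : Nat.gcd 2 (Fintype.card K - 1) = 2 := Nat.gcd_eq_left (by have := q_mod X; omega)
    rcases (Cfsg.Lib.GLTwo.psl_spectrum (F := K) 3 (orderOf y)).1 ⟨y, rfl⟩ with h | h | h
    · exact Or.inl (key 6 (by norm_num) (orderOf_dvd_iff_pow_eq_one.1 (h.trans (by norm_num))))
    · rw [hgcd] at h
      refine Or.inr (Or.inr (Or.inl (key _ ?_ (orderOf_dvd_iff_pow_eq_one.1 (h.trans ?_)))))
      · have := q_mod X; omega
      · exact Nat.div_dvd_of_dvd (by have := q_mod X; omega)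
    · rw [hgcd, (nn_spec X).2.2] at h
      exact Or.inr (Or.inr (Or.inr (Or.inl (key _ (dvd_mul_right 2 _) (orderOf_dvd_iff_pow_eq_one.1 h)))))
  obtain ⟨ℓ, hℓ, hℓg⟩ := Nat.exists_prime_and_dvd h1
  obtain ⟨k, hk⟩ := exists_prime_pow g hℓ hℓg
  have hcomm : g * g ^ k = g ^ k * g := ((Commute.refl g).pow_right k).eq
  rcases prime_cases X hℓ (hℓg.trans (orderOf_dvd_natCard g)) with rfl | rfl | h | h | h
  · exact absurd hℓg h2
  · obtain ⟨x, hx⟩ := three_conj X (w := g ^ k)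
      (by rw [show (9 : ℕ) = 3 * 3 from rfl, pow_mul, ← hk, pow_orderOf_eq_one, one_pow])
    have hne : x⁻¹ * g ^ k * x ≠ 1 := fun e => by
      have := orderOf_conj' X x (g ^ k); rw [e, orderOf_one, hk] at this; omega
    obtain ⟨u, hu, s, e⟩ := Bs_cases X (cent_three X hx hne (commute_conj X hcomm))
    rw [← orderOf_conj' X x g] at h2 ⊢
    rw [e] at h2 ⊢
    by_cases hs2 : s ^ 2 = 1
    · have hsq : (u * hs X s) ^ 2 ∈ Us X := by
        rw [sq, show u * hs X s * (u * hs X s) = u * (hs X s * u * (hs X s)⁻¹) * (hs X s * hs X s) by group,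
          ← map_mul, ← sq s, hs2, map_one, mul_one]
        exact mul_mem hu (hs_conj_Us X s hu)
      have h18 : orderOf (u * hs X s) ∣ 2 * 9 := orderOf_dvd_of_pow_eq_one (by rw [pow_mul]; exact pow_nine X hsq)
      have h9 : orderOf (u * hs X s) ∣ 9 :=
        ((Nat.coprime_two_right).2 (Nat.odd_iff.2 (by omega))).dvd_of_dvd_mul_left h18
      obtain ⟨i, hi, e'⟩ := (Nat.dvd_prime_pow Nat.prime_three).1 (show orderOf (u * hs X s) ∣ 3 ^ 2 from h9)
      interval_cases i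
      · left; rw [e']; norm_num
      · left; rw [e']; norm_num
      · right; left; rw [e']; norm_num
    · obtain ⟨w, -, hw⟩ := exists_conj_hs X hu hs2
      refine Or.inr (Or.inr (Or.inl ?_))
      rw [← orderOf_conj' X w (u * hs X s), hw, ← card_Hs X]
      exact Subgroup.orderOf_dvd_natCard _ ((mem_Hs X).2 ⟨s, rfl⟩)
  · obtain ⟨x, s, hs2, e⟩ := conj_into_Hs X hℓ hk h
    refine Or.inr (Or.inr (Or.inl ?_))
    rw [← orderOf_conj' X x g, ← card_Hs X]
    refine Subgroup.orderOf_dvd_natCard _ ?_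
    rw [← cent_hs X hs2, Subgroup.mem_centralizer_singleton_iff, e]
    exact commute_conj X hcomm
  · obtain ⟨x, hx⟩ := conj_into_T0 X hℓ hk h
    have ho : orderOf (x⁻¹ * g ^ k * x) = ℓ := (orderOf_conj' X x _).trans hk
    refine Or.inr (Or.inr (Or.inr (Or.inl ?_)))
    rw [← orderOf_conj' X x g]
    refine orderOf_dvd_of_pow_eq_one (T0_pow X ?_)
    rw [← cent_T0 X hm hx (fun e => by rw [e, orderOf_one] at ho; exact hℓ.one_lt.ne ho) (ho ▸ h),
      Subgroup.mem_centralizer_singleton_iff]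
    exact commute_conj X hcomm
  · obtain ⟨-, hdv, -⟩ := amb X hℓ h hk
    refine Or.inr (Or.inr (Or.inr (Or.inr ⟨lt_of_le_of_ne (orderOf_pos g) (Ne.symm h1), ?_⟩)))
    exact (Subgroup.orderOf_dvd_natCard _ (Subgroup.mem_centralizer_singleton_iff.2 hcomm)).trans hdv

end Cfsg.Lib.ReeStruct
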