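import Cfsg.Agent.Chev.GTwoOdd.ReeS.Classify

/-! The normalisers of the tori and the numbers of elements of each order. -/

set_option autoImplicit false
set_option linter.dupNamespace false
set_option linter.unusedSectionVars false

open Cfsg.Lie

namespace Cfsg.Lib.ReeStruct

open Cfsg.Lib.Chev
open Cfsg.Lib.Chev.Ree (Ree SG)
open Cfsg.Lib.GTwoOdd.ReeInv (hv iota centEquiv)

variable {K : Type*} [Field K] [Fintype K] (X : Ree K)

local notation "PSL2K" => Matrix.ProjectiveSpecialLinearGroup (Fin 2) K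
local notation "Z2" => Multiplicative (ZMod 2)
local notation "e1" => (Multiplicative.ofAdd (1 : ZMod 2))

theorem index_two : ((Subgroup.zpowers (z0 X)).subgroupOf (Subgroup.centralizer {u0 X})).index = 2 := by
  have hle : Subgroup.zpowers (z0 X) ≤ Subgroup.centralizer {u0 X} := by
    rw [Subgroup.zpowers_le, Subgroup.mem_centralizer_singleton_iff]
    exact ((Commute.refl (z0 X)).pow_right _).eq
  have h := Subgroup.card_mul_index ((Subgroup.zpowers (z0 X)).subgroupOf (Subgroup.centralizer {u0 X}))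
  rw [Nat.card_congr (Subgroup.subgroupOfEquivOfLe hle).toEquiv, Nat.card_zpowers, orderOf_z0,
    card_cent_involution (q_mod X) (orderOf_u0 X), (nn_spec X).1] at h
  exact Nat.eq_of_mul_eq_mul_left (show 0 < 2 * nn X by have := nn_pos X; omega) (h.trans (by ring))

theorem odd_mem_zpowers {y : PSL2K} (hy : y ∈ Subgroup.centralizer {u0 X}) (ho : Odd (orderOf y)) :
    y ∈ Subgroup.zpowers (z0 X) := by
  obtain ⟨j, hj⟩ := ho
  have hsq : y * y ∈ Subgroup.zpowers (z0 X) :=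
    Subgroup.mem_subgroupOf.1 (Subgroup.mul_self_mem_of_index_two (index_two X) ⟨y, hy⟩)
  have : (y * y) ^ (j + 1) = y := by
    rw [← sq, ← pow_mul, show 2 * (j + 1) = orderOf y + 1 by omega, pow_succ, pow_orderOf_eq_one, one_mul]
  rw [← this]
  exact pow_mem hsq _

theorem T0_conj_le {g : ↥X.G1} (hg : g * hv X = hv X * g) (hgw : g * w0 X = w0 X * g) {x : ↥X.G1}
    (hx : x ∈ T0 X) : g * x * g⁻¹ ∈ T0 X := by
  obtain ⟨b, z, rfl⟩ := exists_iota X hg
  rw [w0, iota_commute_iff] at hgw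
  obtain ⟨a, y, hy, rfl⟩ := (mem_T0 X).1 hx
  haveI := Subgroup.normal_of_index_eq_two (index_two X)
  refine (mem_T0 X).2 ⟨a, z * y * z⁻¹, ?_, ?_⟩
  · have hyC : y ∈ Subgroup.centralizer {u0 X} := by
      rw [Subgroup.mem_centralizer_singleton_iff]
      obtain ⟨i, rfl⟩ := hy
      exact (((Commute.refl (z0 X)).zpow_left i).pow_right _).eq
    have := (inferInstance : ((Subgroup.zpowers (z0 X)).subgroupOf (Subgroup.centralizer {u0 X})).Normal).conj_mem
      ⟨y, hyC⟩ (Subgroup.mem_subgroupOf.2 hy) ⟨z, Subgroup.mem_centralizer_singleton_iff.2 hgw⟩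
    exact Subgroup.mem_subgroupOf.1 this
  · rw [← map_inv, ← map_mul, ← map_mul]
    exact congrArg (iota X) (Prod.ext (show a = b * a * b⁻¹ by rw [mul_comm b a, mul_inv_cancel_right]) rfl)

theorem normal_of_conj_le {H : Subgroup ↥X.G1} {g : ↥X.G1} (h : ∀ x ∈ H, g * x * g⁻¹ ∈ H) :
    g ∈ Subgroup.normalizer (H : Set ↥X.G1) := by
  have hle : H.map (MulAut.conj g).toMonoidHom ≤ H := by
    rintro _ ⟨x, hx, rfl⟩; exact h x hx
  have heq := Subgroup.eq_of_le_of_card_ge hle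
    (Subgroup.card_map_of_injective (MulAut.conj g).injective).ge
  refine Subgroup.mem_normalizer_iff.2 fun x => ⟨h x, fun hx => ?_⟩
  rw [← heq] at hx
  obtain ⟨y, hy, e⟩ := hx
  exact (MulAut.conj g).injective e ▸ hy

theorem T0_le_closure : T0 X ≤ Subgroup.closure {hv X, w0 X, iota X (1, y0 X)} := by
  intro x hx
  obtain ⟨a, y, ⟨i, rfl⟩, rfl⟩ := (mem_T0 X).1 hx
  obtain ⟨k, hk⟩ := (nn_spec X).2.1
  have hz : iota X (1, z0 X) = w0 X * (iota X (1, y0 X) ^ k)⁻¹ := by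
    rw [w0, ← map_pow, ← map_inv, ← map_mul]
    refine congrArg (iota X) (Prod.ext (by simp) ?_)
    show z0 X = u0 X * (y0 X ^ k)⁻¹
    rw [eq_mul_inv_iff_mul_eq, y0, ← pow_mul, ← pow_succ', u0, hk]
  have hsplit : iota X (a, z0 X ^ i) = iota X (a, 1) * iota X (1, z0 X) ^ i := by
    rw [← map_zpow, ← map_mul]
    exact congrArg (iota X) (Prod.ext (by simp) (by simp))
  show iota X (a, z0 X ^ i) ∈ _
  rw [hsplit, hz]
  refine mul_mem ?_ (zpow_mem (mul_mem (Subgroup.subset_closure (by simp))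
    (inv_mem (pow_mem (Subgroup.subset_closure (by simp)) _))) i)
  rcases z2_cases a with rfl | rfl
  · rw [show ((1 : Z2), (1 : PSL2K)) = 1 from rfl, map_one]; exact one_mem _
  · rw [iota_e1]; exact Subgroup.subset_closure (by simp)

theorem y0_mem_T0 : iota X (1, y0 X) ∈ T0 X :=
  (mem_T0 X).2 ⟨1, _, Subgroup.pow_mem _ (Subgroup.mem_zpowers _) _, rfl⟩

/-- The three involutions of the torus. -/
noncomputable def V3 : Set ↥X.G1 := {hv X, w0 X, hv X * w0 X}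

theorem hv_w0 : hv X * w0 X = iota X (e1, u0 X) := by
  rw [← iota_e1, w0, ← map_mul]; exact congrArg (iota X) (Prod.ext (by simp) (by simp))

theorem u0_ne_one : u0 X ≠ 1 := fun h => by
  have := orderOf_u0 X; rw [h, orderOf_one] at this; omega

theorem V3_ne : hv X ≠ w0 X ∧ hv X ≠ hv X * w0 X ∧ w0 X ≠ hv X * w0 X := by
  refine ⟨fun h => ?_, fun h => ?_, fun h => Cfsg.Lib.GTwoOdd.ReeInv.hv_ne_one X (mul_eq_right.1 h.symm)⟩
  · rw [w0, ← iota_e1] at h; exact u0_ne_one X (iota_inj' X h).2.symm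
  · rw [hv_w0, ← iota_e1] at h; exact u0_ne_one X (iota_inj' X h).2.symm

theorem card_V3 : Nat.card (V3 X) = 3 := by
  obtain ⟨h1, h2, h3⟩ := V3_ne X
  rw [Nat.card_coe_set_eq, V3, Set.ncard_eq_three]
  exact ⟨_, _, _, h1, h2, h3, rfl⟩

theorem mem_V3 {x : ↥X.G1} (hx : x ∈ T0 X) (h2 : x * x = 1) (h1 : x ≠ 1) : x ∈ V3 X := by
  rcases T0_involutions X hx h2 with h | h | h | h
  · exact absurd h h1
  all_goals rw [h]; simp [V3]

theorem V3_spec {t : ↥X.G1} (ht : t ∈ V3 X) : t ∈ T0 X ∧ orderOf t = 2 := by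
  have h : ∀ {x : ↥X.G1}, x ∈ T0 X → x * x = 1 → x ≠ 1 → x ∈ T0 X ∧ orderOf x = 2 := fun hx h hne =>
    ⟨hx, orderOf_eq_prime (by rw [sq]; exact h) hne⟩
  have hw : w0 X * w0 X = 1 := by
    rw [w0, ← map_mul, ← map_one (iota X)]
    exact congrArg (iota X) (Prod.ext (by simp) (show u0 X * u0 X = 1 by rw [← sq, sq_one_of_order (orderOf_u0 X)]))
  rcases ht with rfl | rfl | rfl
  · exact h (hv_mem_T0 X) (Cfsg.Lib.GTwoOdd.ReeInv.hv_sq X) (Cfsg.Lib.GTwoOdd.ReeInv.hv_ne_one X)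
  · exact h (w0_mem_T0 X) hw fun e => (u0_ne_one X) (iota_inj' X (e.trans (map_one _).symm)).2
  · refine h (mul_mem (hv_mem_T0 X) (w0_mem_T0 X)) ?_ fun e => (u0_ne_one X) ?_
    · rw [mul_assoc, ← mul_assoc (w0 X), T0_comm X (w0_mem_T0 X) (hv_mem_T0 X), mul_assoc (hv X), hw, mul_one,
        Cfsg.Lib.GTwoOdd.ReeInv.hv_sq]
    · rw [hv_w0] at e; exact (iota_inj' X (e.trans (map_one _).symm)).2

theorem exists_normal_swap (hm : 1 ≤ X.m) {t : ↥X.G1} (ht : t ∈ V3 X) :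
    ∃ g ∈ Subgroup.normalizer (T0 X : Set ↥X.G1), g * hv X * g⁻¹ = t := by
  by_cases htv : t = hv X
  · exact ⟨1, one_mem _, by rw [htv]; group⟩
  obtain ⟨htT, ht2⟩ := V3_spec X ht
  obtain ⟨g, hg⟩ := inv_conj X hm ht2
  have hg' : g⁻¹ * t * g = hv X := by rw [← hg]; group
  have hs : (g⁻¹ * hv X * g) * hv X = hv X * (g⁻¹ * hv X * g) := by
    have := commute_conj X (g := g) (T0_comm X (hv_mem_T0 X) htT)
    rwa [hg'] at this
  obtain ⟨b, u, e⟩ := exists_iota X hs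
  have hu : orderOf u = 2 := by
    refine orderOf_eq_prime ?_ ?_
    · have h : iota X (b, u) * iota X (b, u) = _ * _ := congrArg₂ (· * ·) e e
      rw [← map_mul, show g⁻¹ * hv X * g * (g⁻¹ * hv X * g) = g⁻¹ * (hv X * hv X) * g by group,
        Cfsg.Lib.GTwoOdd.ReeInv.hv_sq, mul_one, inv_mul_cancel, ← map_one (iota X)] at h
      rw [sq]; exact congrArg Prod.snd (Cfsg.Lib.GTwoOdd.ReeInv.iota_inj X h)
    · rintro rfl
      rcases z2_cases b with rfl | rfl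
      · rw [show ((1 : Z2), (1 : PSL2K)) = 1 from rfl, map_one] at e
        refine Cfsg.Lib.GTwoOdd.ReeInv.hv_ne_one X ?_
        calc hv X = g * (g⁻¹ * hv X * g) * g⁻¹ := by group
          _ = 1 := by rw [← e]; group
      · rw [iota_e1] at e
        exact htv (by rw [← hg]; nth_rw 1 [e]; group)
  obtain ⟨c, hc⟩ := involution_conj_P hu (orderOf_u0 X) (q_mod X)
  set h := iota X (1, c) * g⁻¹ with hh
  have h1 : h * t * h⁻¹ = hv X := by
    rw [hh, show iota X (1, c) * g⁻¹ * t * (iota X (1, c) * g⁻¹)⁻¹ =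
      iota X (1, c) * (g⁻¹ * t * g) * (iota X (1, c))⁻¹ by group, hg', iota_cent, mul_inv_cancel_right]
  have h2 : h * hv X * h⁻¹ = iota X (b, u0 X) := by
    rw [hh, show iota X (1, c) * g⁻¹ * hv X * (iota X (1, c) * g⁻¹)⁻¹ =
      iota X (1, c) * (g⁻¹ * hv X * g) * (iota X (1, c))⁻¹ by group, ← e, iota_conj, hc]
  have hbT : iota X (b, u0 X) ∈ T0 X :=
    (mem_T0 X).2 ⟨b, u0 X, Subgroup.pow_mem _ (Subgroup.mem_zpowers _) _, rfl⟩
  have hy : h * iota X (1, y0 X) * h⁻¹ ∈ T0 X := by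
    set y' := h * iota X (1, y0 X) * h⁻¹ with hy'
    have c1 : y' * hv X = hv X * y' := by
      rw [hy', ← h1]
      have := commute_conj X (g := h⁻¹) (T0_comm X (y0_mem_T0 X) htT)
      simpa using this
    have c2 : y' * iota X (b, u0 X) = iota X (b, u0 X) * y' := by
      rw [hy', ← h2]
      have := commute_conj X (g := h⁻¹) (T0_comm X (y0_mem_T0 X) (hv_mem_T0 X))
      simpa using this
    obtain ⟨d, z, e'⟩ := exists_iota X c1
    have ho : orderOf (iota X (d, z)) = nn X := by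
      rw [e', hy', show h * iota X (1, y0 X) * h⁻¹ = MulAut.conj h (iota X (1, y0 X)) from rfl,
        MulEquiv.orderOf_eq, orderOf_iota_one, orderOf_y0]
    obtain rfl : d = 1 := z2_odd (nn_spec X).2.1 (by
      have h := pow_orderOf_eq_one (iota X (d, z))
      rw [ho, ← map_pow, ← map_one (iota X)] at h
      exact congrArg Prod.fst (Cfsg.Lib.GTwoOdd.ReeInv.iota_inj X h))
    rw [← e', iota_commute_iff] at c2
    rw [orderOf_iota_one] at ho
    rw [← e']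
    exact (mem_T0 X).2 ⟨1, z, odd_mem_zpowers X (Subgroup.mem_centralizer_singleton_iff.2 c2)
      (ho ▸ (nn_spec X).2.1), rfl⟩
  have hall : ∀ x ∈ T0 X, h * x * h⁻¹ ∈ T0 X := by
    have hw : h * w0 X * h⁻¹ ∈ T0 X := by
      rcases ht with rfl | rfl | rfl
      · exact absurd rfl htv
      · rw [h1]; exact hv_mem_T0 X
      · rw [show h * w0 X * h⁻¹ = (h * hv X * h⁻¹)⁻¹ * (h * (hv X * w0 X) * h⁻¹) by group, h1, h2]
        exact mul_mem (inv_mem hbT) (hv_mem_T0 X)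
    have hcl : Subgroup.closure {hv X, w0 X, iota X (1, y0 X)} ≤ (T0 X).comap (MulAut.conj h).toMonoidHom := by
      rw [Subgroup.closure_le]
      rintro x (rfl | rfl | rfl)
      · show h * hv X * h⁻¹ ∈ T0 X
        rw [h2]; exact hbT
      · exact hw
      · exact hy
    exact fun x hx => hcl (T0_le_closure X hx)
  exact ⟨h⁻¹, inv_mem (normal_of_conj_le X hall), by rw [← h1]; group⟩

theorem stab_eq :
    Subgroup.normalizer (T0 X : Set ↥X.G1) ⊓ Subgroup.centralizer {hv X} =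
      Subgroup.centralizer {hv X} ⊓ Subgroup.centralizer {w0 X} := by
  ext g
  simp only [Subgroup.mem_inf, Subgroup.mem_centralizer_singleton_iff]
  constructor
  · rintro ⟨hN, hg⟩
    refine ⟨hg, ?_⟩
    have hmem := (Subgroup.mem_normalizer_iff.1 hN (w0 X)).1 (w0_mem_T0 X)
    obtain ⟨b, z, rfl⟩ := exists_iota X hg
    have e : iota X (b, z) * w0 X * (iota X (b, z))⁻¹ = iota X (1, z * u0 X * z⁻¹) := by
      rw [w0, ← map_inv, ← map_mul, ← map_mul]
      exact congrArg (iota X) (Prod.ext (by simp) rfl)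
    rw [e, mem_T0] at hmem
    obtain ⟨a, y, hy, e'⟩ := hmem
    obtain ⟨-, rfl⟩ := iota_inj' X e'
    have := eq_u0 X hy (by rw [show z * u0 X * z⁻¹ = MulAut.conj z (u0 X) from rfl, MulEquiv.orderOf_eq, orderOf_u0])
    rw [w0, iota_commute_iff, ← mul_inv_eq_iff_eq_mul, this]
  · rintro ⟨hg, hgw⟩
    exact ⟨normal_of_conj_le X fun x hx => T0_conj_le X hg hgw hx, hg⟩

theorem card_CV : Nat.card ↥(Subgroup.centralizer {hv X} ⊓ Subgroup.centralizer {w0 X}) = 2 * (Fintype.card K + 1) := by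
  have h : Subgroup.centralizer {hv X} ⊓ Subgroup.centralizer {w0 X} =
      ((⊤ : Subgroup Z2).prod (Subgroup.centralizer {u0 X})).map (iota X) := by
    ext g
    simp only [Subgroup.mem_inf, Subgroup.mem_centralizer_singleton_iff, Subgroup.mem_map]
    constructor
    · rintro ⟨hg, hgw⟩
      obtain ⟨b, z, rfl⟩ := exists_iota X hg
      rw [w0, iota_commute_iff] at hgw
      exact ⟨(b, z), ⟨trivial, Subgroup.mem_centralizer_singleton_iff.2 hgw⟩, rfl⟩
    · rintro ⟨⟨b, z⟩, ⟨-, hz⟩, rfl⟩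
      exact ⟨iota_cent X _, (iota_commute_iff X).2 (Subgroup.mem_centralizer_singleton_iff.1 hz)⟩
  rw [h, Subgroup.card_map_of_injective (Cfsg.Lib.GTwoOdd.ReeInv.iota_inj X),
    Nat.card_congr (Subgroup.prodEquiv _ _).toEquiv, Nat.card_prod, Subgroup.card_top,
    card_cent_involution (q_mod X) (orderOf_u0 X)]
  simp

theorem card_NT (hm : 1 ≤ X.m) :
    Nat.card ↥(Subgroup.normalizer (T0 X : Set ↥X.G1)) = 6 * (Fintype.card K + 1) := by
  rw [card_eq_orbit _ (hv X) (V3 X) (fun g hg => ?_) (fun t ht => exists_normal_swap X hm ht), card_V3, stab_eq,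
    card_CV]
  · ring
  · refine mem_V3 X ((Subgroup.mem_normalizer_iff.1 hg _).1 (hv_mem_T0 X)) ?_ ?_
    · rw [show g * hv X * g⁻¹ * (g * hv X * g⁻¹) = g * (hv X * hv X) * g⁻¹ by group,
        Cfsg.Lib.GTwoOdd.ReeInv.hv_sq, mul_one, mul_inv_cancel]
    · exact fun e => Cfsg.Lib.GTwoOdd.ReeInv.hv_ne_one X ((MulAut.conj g).injective (by simpa using e))

theorem index_NT (hm : 1 ≤ X.m) : 6 * (Subgroup.normalizer (T0 X : Set ↥X.G1)).index =
    Fintype.card K ^ 3 * (Fintype.card K - 1) * NN X := by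
  have h := Subgroup.card_mul_index (Subgroup.normalizer (T0 X : Set ↥X.G1))
  rw [card_NT X hm, card_G, ← (nn_spec X).1] at h
  exact Nat.eq_of_mul_eq_mul_left (show 0 < Fintype.card K + 1 by omega) (Eq.trans (by ring) (h.trans (by ring)))

theorem Hs_normal_cases {g : ↥X.G1} {s : Kˣ} (hs2 : s ^ 2 ≠ 1) (hg : g * hs X s * g⁻¹ ∈ Hs X) :
    g ∈ Subgroup.normalizer (Hs X : Set ↥X.G1) ∧ (g * hs X s * g⁻¹ = hs X s ∨ g * hs X s * g⁻¹ = hs X s⁻¹) := by
  obtain ⟨s', e⟩ := (mem_Hs X).1 hg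
  have hsnN : X.sn ∈ Subgroup.normalizer (Hs X : Set ↥X.G1) := normal_of_conj_le X fun x hx => by
    obtain ⟨a, rfl⟩ := (mem_Hs X).1 hx
    rw [sn_inv]; exact (mem_Hs X).2 ⟨_, rfl⟩
  rcases intertwine X hs2 (show g * hs X s = hs X s' * g by rw [e]; group) with ⟨h, rfl⟩ | ⟨⟨a, rfl⟩, rfl⟩
  · exact ⟨Subgroup.le_normalizer h, Or.inl e.symm⟩
  · exact ⟨mul_mem (Subgroup.le_normalizer ((mem_Hs X).2 ⟨a, rfl⟩)) hsnN, Or.inr e.symm⟩

theorem card_NH (hm : 1 ≤ X.m) :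
    Nat.card ↥(Subgroup.normalizer (Hs X : Set ↥X.G1)) = 2 * (Fintype.card K - 1) := by
  obtain ⟨s0, hs0⟩ := X.exists_sq_ne_one hm
  rw [card_eq_orbit _ (hs X s0) ({hs X s0, hs X s0⁻¹} : Set ↥X.G1) (fun g hg => ?_) (fun t ht => ?_),
    Nat.card_coe_set_eq, Set.ncard_pair, cent_hs X hs0, inf_eq_right.2 Subgroup.le_normalizer, card_Hs]
  · exact fun h => hs0 (by rw [sq]; nth_rw 1 [hs_inj X h]; rw [inv_mul_cancel])
  · exact (Hs_normal_cases X hs0 ((Subgroup.mem_normalizer_iff.1 hg _).1 ((mem_Hs X).2 ⟨_, rfl⟩))).2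
  · rcases ht with rfl | rfl
    · exact ⟨1, one_mem _, by group⟩
    · refine ⟨X.sn, (Hs_normal_cases X hs0 ?_).1, sn_inv X s0⟩
      rw [sn_inv]; exact (mem_Hs X).2 ⟨_, rfl⟩

theorem index_NH (hm : 1 ≤ X.m) : 2 * (Subgroup.normalizer (Hs X : Set ↥X.G1)).index =
    Fintype.card K ^ 3 * (Fintype.card K ^ 3 + 1) := by
  have h := Subgroup.card_mul_index (Subgroup.normalizer (Hs X : Set ↥X.G1))
  rw [card_NH X hm, X.card_G1] at h
  exact Nat.eq_of_mul_eq_mul_left (Nat.sub_pos_of_lt (Fintype.one_lt_card (α := K)))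
    (Eq.trans (by ring) (h.trans (by ring)))

theorem conj_into_Hs' {g : ↥X.G1} (h2 : 2 < orderOf g) (hd : orderOf g ∣ Fintype.card K - 1) :
    ∃ x : ↥X.G1, x⁻¹ * g * x ∈ Hs X := by
  obtain ⟨k, hk, -, hk'⟩ := q_param X
  rw [show Fintype.card K - 1 = 2 * hq2 X by omega] at hd
  obtain ⟨ℓ, hℓ, hℓd, hℓh⟩ : ∃ ℓ, ℓ.Prime ∧ ℓ ∣ orderOf g ∧ ℓ ∣ hq2 X := by
    by_contra hno
    push Not at hno
    have hc : Nat.Coprime (orderOf g) (hq2 X) := Nat.coprime_of_dvd fun k hk1 hk2 hk3 => hno k hk1 hk2 hk3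
    have := Nat.le_of_dvd two_pos (hc.dvd_of_dvd_mul_right hd)
    omega
  obtain ⟨j, hj⟩ := exists_prime_pow g hℓ hℓd
  obtain ⟨x, s, hs2, e⟩ := conj_into_Hs X hℓ hj hℓh
  refine ⟨x, ?_⟩
  rw [← cent_hs X hs2, Subgroup.mem_centralizer_singleton_iff, e]
  exact commute_conj X ((Commute.refl g).pow_right j).eq

theorem conj_into_T0' (hm : 1 ≤ X.m) {g : ↥X.G1} (h2 : 2 < orderOf g) (hd : orderOf g ∣ 2 * nn X) :
    ∃ x : ↥X.G1, x⁻¹ * g * x ∈ T0 X := by
  obtain ⟨ℓ, hℓ, hℓd, hℓh⟩ : ∃ ℓ, ℓ.Prime ∧ ℓ ∣ orderOf g ∧ ℓ ∣ nn X := by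
    by_contra hno
    push Not at hno
    have hc : Nat.Coprime (orderOf g) (nn X) := Nat.coprime_of_dvd fun k hk1 hk2 hk3 => hno k hk1 hk2 hk3
    have := Nat.le_of_dvd two_pos (hc.dvd_of_dvd_mul_right hd)
    omega
  obtain ⟨j, hj⟩ := exists_prime_pow g hℓ hℓd
  obtain ⟨x, hx⟩ := conj_into_T0 X hℓ hj hℓh
  have ho : orderOf (x⁻¹ * g ^ j * x) = ℓ := (orderOf_conj' X x _).trans hj
  refine ⟨x, ?_⟩
  rw [← cent_T0 X hm hx (fun e => by rw [e, orderOf_one] at ho; exact hℓ.one_lt.ne ho) (ho ▸ hℓh),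
    Subgroup.mem_centralizer_singleton_iff]
  exact commute_conj X ((Commute.refl g).pow_right j).eq

/-- A conjugator of an element of order exceeding two of the torus into the torus normalises it. -/
theorem TI_T0 (hm : 1 ≤ X.m) {g x : ↥X.G1} (hx : x ∈ T0 X) (h2 : 2 < orderOf x) (hgx : g * x * g⁻¹ ∈ T0 X) :
    g ∈ Subgroup.normalizer (T0 X : Set ↥X.G1) := by
  have hd : orderOf (x ^ 2) ∣ nn X := orderOf_dvd_of_pow_eq_one (by rw [← pow_mul]; exact T0_pow X hx)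
  have hd' : orderOf ((g * x * g⁻¹) ^ 2) ∣ nn X := orderOf_dvd_of_pow_eq_one (by rw [← pow_mul]; exact T0_pow X hgx)
  have hne : x ^ 2 ≠ 1 := fun e => by
    have := Nat.le_of_dvd two_pos (orderOf_dvd_of_pow_eq_one e); omega
  have hne' : (g * x * g⁻¹) ^ 2 ≠ 1 := fun e => hne (by
    rw [conj_pow] at e; exact (MulAut.conj g).injective (by simpa using e))
  have ce1 := cent_T0 X hm (pow_mem hx 2) hne hd
  have ce2 := cent_T0 X hm (pow_mem hgx 2) hne' hd'
  refine normal_of_conj_le X fun y hy => ?_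
  rw [← ce2, Subgroup.mem_centralizer_singleton_iff, conj_pow]
  rw [← ce1, Subgroup.mem_centralizer_singleton_iff] at hy
  calc g * y * g⁻¹ * (g * x ^ 2 * g⁻¹) = g * (y * x ^ 2) * g⁻¹ := by group
    _ = _ := by rw [hy]; group

theorem count_H (hm : 1 ≤ X.m) (p : ℕ → Prop) (hp : ∀ d, p d → 2 < d ∧ d ∣ Fintype.card K - 1) :
    2 * Nat.card {g : ↥X.G1 // p (orderOf g)} =
      Fintype.card K ^ 3 * (Fintype.card K ^ 3 + 1) * Nat.card {x : ↥X.G1 | x ∈ Hs X ∧ p (orderOf x)} := by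
  rw [card_eq_of_iff (Subgroup.normalizer (Hs X : Set ↥X.G1)) {x : ↥X.G1 | x ∈ Hs X ∧ p (orderOf x)}
    (fun g hg z hz => ⟨(Subgroup.mem_normalizer_iff.1 hg _).1 hz.1, by
      rw [show g * z * g⁻¹ = MulAut.conj g z from rfl, MulEquiv.orderOf_eq]; exact hz.2⟩)
    (fun g z hz hgz => ?_) (fun g => ⟨fun h => ?_, ?_⟩), ← index_NH X hm, mul_assoc]
  · obtain ⟨s, rfl⟩ := (mem_Hs X).1 hz.1
    exact (Hs_normal_cases X (hs_sq_ne X rfl (hp _ hz.2).1) hgz.1).1
  · obtain ⟨x, hx⟩ := conj_into_Hs' X (hp _ h).1 (hp _ h).2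
    exact ⟨x, hx, by rwa [orderOf_conj']⟩
  · rintro ⟨x, -, hx⟩
    rwa [orderOf_conj'] at hx

theorem count_T (hm : 1 ≤ X.m) (p : ℕ → Prop) (hp : ∀ d, p d → 2 < d ∧ d ∣ 2 * nn X) :
    6 * Nat.card {g : ↥X.G1 // p (orderOf g)} =
      Fintype.card K ^ 3 * (Fintype.card K - 1) * NN X * Nat.card {x : ↥X.G1 | x ∈ T0 X ∧ p (orderOf x)} := by
  rw [card_eq_of_iff (Subgroup.normalizer (T0 X : Set ↥X.G1)) {x : ↥X.G1 | x ∈ T0 X ∧ p (orderOf x)}
    (fun g hg z hz => ⟨(Subgroup.mem_normalizer_iff.1 hg _).1 hz.1, by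
      rw [show g * z * g⁻¹ = MulAut.conj g z from rfl, MulEquiv.orderOf_eq]; exact hz.2⟩)
    (fun g z hz hgz => TI_T0 X hm hz.1 (hp _ hz.2).1 hgz.1) (fun g => ⟨fun h => ?_, ?_⟩), ← index_NT X hm, mul_assoc]
  · obtain ⟨x, hx⟩ := conj_into_T0' X hm (hp _ h).1 (hp _ h).2
    exact ⟨x, hx, by rwa [orderOf_conj']⟩
  · rintro ⟨x, -, hx⟩
    rwa [orderOf_conj'] at hx

theorem card_Hs_big : Nat.card {x : ↥X.G1 | x ∈ Hs X ∧ 2 < orderOf x} = Fintype.card K - 3 := by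
  have hU : ((Hs X : Set ↥X.G1)) = {1, hv X} ∪ {x : ↥X.G1 | x ∈ Hs X ∧ 2 < orderOf x} := by
    ext x
    simp only [SetLike.mem_coe, Set.mem_union, Set.mem_insert_iff, Set.mem_singleton_iff, Set.mem_setOf_eq]
    refine ⟨fun hx => ?_, ?_⟩
    · by_cases h : 2 < orderOf x
      · exact Or.inr ⟨hx, h⟩
      left
      obtain ⟨s, rfl⟩ := (mem_Hs X).1 hx
      by_cases h1 : orderOf (hs X s) = 1
      · exact Or.inl (orderOf_eq_one_iff.1 h1)
      right
      have h2 : orderOf (hs X s) = 2 := by have := orderOf_pos (hs X s); omega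
      rw [orderOf_injective _ (hs_inj X)] at h2
      have e : (s : K) ^ 2 = 1 := by
        have := congrArg Units.val (sq_one_of_order h2)
        simpa using this
      rcases sq_eq_one_iff.1 e with e | e
      · rw [show s = 1 from Units.ext e, orderOf_one] at h2; omega
      · rw [← hs_neg_one]; exact congrArg _ (Units.ext (by simpa using e))
    · rintro ((rfl | rfl) | h)
      · exact one_mem _
      · exact (mem_Hs X).2 ⟨-1, hs_neg_one X⟩
      · exact h.1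
  have h := congrArg Set.ncard hU
  rw [Set.ncard_union_eq, Set.ncard_pair (Ne.symm (Cfsg.Lib.GTwoOdd.ReeInv.hv_ne_one X)), ← Nat.card_coe_set_eq,
    ← Nat.card_coe_set_eq, show Nat.card ↥((Hs X : Set ↥X.G1)) = Fintype.card K - 1 from card_Hs X] at h
  · omega
  · rw [Set.disjoint_left]
    rintro x (rfl | rfl) h'
    · simpa using h'.2
    · have := h'.2; rw [hv_order] at this; omega

theorem card_T0_big : Nat.card {x : ↥X.G1 | x ∈ T0 X ∧ 2 < orderOf x} = Fintype.card K - 3 := by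
  have hU : ((T0 X : Set ↥X.G1)) = ({1} ∪ V3 X) ∪ {x : ↥X.G1 | x ∈ T0 X ∧ 2 < orderOf x} := by
    ext x
    simp only [SetLike.mem_coe, Set.mem_union, Set.mem_singleton_iff, Set.mem_setOf_eq]
    refine ⟨fun hx => ?_, ?_⟩
    · by_cases h : 2 < orderOf x
      · exact Or.inr ⟨hx, h⟩
      left
      by_cases h1 : x = 1
      · exact Or.inl h1
      right
      have h2 : orderOf x = 2 := by
        have := orderOf_pos x
        have : orderOf x ≠ 1 := fun e => h1 (orderOf_eq_one_iff.1 e)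
        omega
      exact mem_V3 X hx (by rw [← sq, sq_one_of_order h2]) h1
    · rintro ((rfl | h) | h)
      · exact one_mem _
      · exact (V3_spec X h).1
      · exact h.1
  have h := congrArg Set.ncard hU
  rw [Set.ncard_union_eq, Set.ncard_union_eq, Set.ncard_singleton, ← Nat.card_coe_set_eq, ← Nat.card_coe_set_eq,
    ← Nat.card_coe_set_eq, card_V3, show Nat.card ↥((T0 X : Set ↥X.G1)) = Fintype.card K + 1 from card_T0 X] at h
  · omega
  · refine Set.disjoint_singleton_left.2 fun h => ?_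
    have := (V3_spec X h).2
    rw [orderOf_one] at this
    omega
  · rw [Set.disjoint_left]
    rintro x (rfl | h) h'
    · simpa using h'.2
    · have := h'.2; rw [(V3_spec X h).2] at this; omega

theorem count_two (hm : 1 ≤ X.m) :
    Nat.card {g : ↥X.G1 // orderOf g = 2} = Fintype.card K ^ 2 * NN X := by
  rw [card_eq_of_iff (Subgroup.centralizer {hv X}) ({hv X} : Set ↥X.G1) (fun g hg z hz => ?_) (fun g z hz h => ?_)
    (fun g => ⟨fun h => ?_, ?_⟩), Cfsg.Lib.GTwoOdd.ReeInv.index_cent, Nat.card_coe_set_eq, Set.ncard_singleton,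
    mul_one, NN]
  · rw [Set.mem_singleton_iff.1 hz, Set.mem_singleton_iff]
    rw [Subgroup.mem_centralizer_singleton_iff] at hg
    rw [hg, mul_inv_cancel_right]
  · rw [Set.mem_singleton_iff.1 hz, Set.mem_singleton_iff, mul_inv_eq_iff_eq_mul] at h
    exact Subgroup.mem_centralizer_singleton_iff.2 h
  · obtain ⟨x, hx⟩ := inv_conj X hm h
    exact ⟨x, by rw [← hx, Set.mem_singleton_iff]; group⟩
  · rintro ⟨x, hx⟩
    rw [← orderOf_conj' X x g, Set.mem_singleton_iff.1 hx, hv_order]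

theorem count_U (d : ℕ) (hd : d = 3 ∨ d = 9) :
    Nat.card {g : ↥X.G1 // orderOf g = d} =
      (Fintype.card K ^ 3 + 1) * Nat.card {u : ↥X.G1 | u ∈ Us X ∧ orderOf u = d} := by
  rw [card_eq_of_iff X.Bs {u : ↥X.G1 | u ∈ Us X ∧ orderOf u = d}
    (fun g hg z hz => ⟨conj_Us X hg hz.1, by rw [show g * z * g⁻¹ = MulAut.conj g z from rfl, MulEquiv.orderOf_eq]; exact hz.2⟩)
    (fun g z hz h => mem_Bs_of_conj X hz.1 (fun e => ?_) (Us_le_Bs X h.1))
    (fun g => ⟨fun h => ?_, ?_⟩), index_Bs]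
  · have := hz.2
    rw [e, orderOf_one] at this
    omega
  · obtain ⟨x, hx⟩ := three_conj X (w := g) (orderOf_dvd_iff_pow_eq_one.1 (by
      rw [h]; rcases hd with rfl | rfl <;> norm_num))
    exact ⟨x, hx, by rw [orderOf_conj', h]⟩
  · rintro ⟨x, -, hx⟩
    rwa [orderOf_conj'] at hx

theorem Us_cent_iff {u : ↥X.G1} (hu : u ∈ Us X) :
    u * hv X = hv X * u ↔ ∃ a, (u : GL chevG2.Idx K) = X.uu 0 a 0 := by
  constructor
  · intro h
    obtain ⟨t, a, v, e⟩ := X.mem_U1_iff.1 (Subgroup.mem_inf.2 ⟨hu, u.2⟩)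
    have h' : (u : GL chevG2.Idx K) * X.hh (-1) = X.hh (-1) * u := congrArg Subtype.val h
    rw [Subgroup.coe_subtype] at e
    rw [e] at h'
    obtain ⟨rfl, rfl⟩ := Cfsg.Lib.GTwoOdd.ReeInv.uu_fix X (t := t) (u := a) (v := v)
      (by rw [← h', mul_inv_cancel_right])
    exact ⟨a, e⟩
  · rintro ⟨a, e⟩
    refine Subtype.ext ?_
    show (u : GL chevG2.Idx K) * X.hh (-1) = X.hh (-1) * u
    have h := X.hh_conj_uu (-1) 0 a 0
    rw [(Cfsg.Lib.GTwoOdd.ReeInv.wab X).1, (Cfsg.Lib.GTwoOdd.ReeInv.wab X).2] at h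
    simp at h
    rw [e, ← mul_inv_eq_iff_eq_mul.1 (by simpa using h)]

theorem card_V : Nat.card ↥(Us X ⊓ Subgroup.centralizer {hv X}) = Fintype.card K := by
  rw [← Nat.card_eq_fintype_card]
  symm
  refine Nat.card_congr (Equiv.ofBijective (fun a : K => (⟨⟨X.uu 0 a 0, X.uu_mem_G1 _ _ _⟩,
    Subgroup.mem_inf.2 ⟨X.uu_mem_U _ _ _, Subgroup.mem_centralizer_singleton_iff.2
      ((Us_cent_iff X (u := ⟨_, X.uu_mem_G1 0 a 0⟩) (X.uu_mem_U _ _ _)).2 ⟨a, rfl⟩)⟩⟩ :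
    ↥(Us X ⊓ Subgroup.centralizer {hv X}))) ⟨fun a b h => ?_, ?_⟩)
  · exact (X.uu_inj (congrArg (fun w : ↥(Us X ⊓ Subgroup.centralizer {hv X}) =>
      ((w : ↥X.G1) : GL chevG2.Idx K)) h)).2.1
  · rintro ⟨u, hu⟩
    obtain ⟨hu, hc⟩ := Subgroup.mem_inf.1 hu
    obtain ⟨a, e⟩ := (Us_cent_iff X hu).1 (Subgroup.mem_centralizer_singleton_iff.1 hc)
    exact ⟨a, Subtype.ext (Subtype.ext e.symm)⟩

theorem card_Ct : Nat.card ↥(Subgroup.centralizer {hv X}) =
    Fintype.card K * (Fintype.card K - 1) * (Fintype.card K + 1) := by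
  rw [Nat.card_congr (centEquiv X).toEquiv, Nat.card_prod, ← Cfsg.Lib.GTwoOdd.ReeInv.card_PSL X]
  simp

theorem card_B_Ct : Nat.card ↥(X.Bs ⊓ Subgroup.centralizer {hv X}) = Fintype.card K * (Fintype.card K - 1) := by
  calc Nat.card ↥(X.Bs ⊓ Subgroup.centralizer {hv X})
      = Nat.card (↥(Us X ⊓ Subgroup.centralizer {hv X}) × Kˣ) := ?_
    _ = _ := by rw [Nat.card_prod, card_V, Nat.card_units, Nat.card_eq_fintype_card]
  symm
  have hhv : ∀ s, hs X s * hv X = hv X * hs X s := fun s => by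
    rw [← hs_neg_one, ← map_mul, ← map_mul, mul_comm]
  refine Nat.card_congr (Equiv.ofBijective (fun p : ↥(Us X ⊓ Subgroup.centralizer {hv X}) × Kˣ =>
    (⟨(p.1 : ↥X.G1) * hs X p.2, Subgroup.mem_inf.2 ⟨mul_mem (Us_le_Bs X (Subgroup.mem_inf.1 p.1.2).1) (hs_mem_Bs X _),
      mul_mem (Subgroup.mem_inf.1 p.1.2).2 (Subgroup.mem_centralizer_singleton_iff.2 (hhv _))⟩⟩ :
      ↥(X.Bs ⊓ Subgroup.centralizer {hv X}))) ⟨?_, ?_⟩)
  · rintro ⟨u, s⟩ ⟨u', s'⟩ h
    have h1 : (u : ↥X.G1) * hs X s = u' * hs X s' := congrArg Subtype.val h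
    have h2 : (u' : ↥X.G1)⁻¹ * u = hs X (s' / s) := by
      rw [map_div, eq_div_iff_mul_eq', mul_assoc, h1, inv_mul_cancel_left]
    obtain ⟨e1', e2⟩ := Us_Hs X (mul_mem (inv_mem (Subgroup.mem_inf.1 u'.2).1) (Subgroup.mem_inf.1 u.2).1) h2
    exact Prod.ext (Subtype.ext (inv_mul_eq_one.1 e1').symm) (div_eq_one.1 e2).symm
  · rintro ⟨b, hb⟩
    obtain ⟨hb, hc⟩ := Subgroup.mem_inf.1 hb
    obtain ⟨u, hu, s, rfl⟩ := Bs_cases X hb
    have hu' : u ∈ Subgroup.centralizer {hv X} := by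
      have := mul_mem hc (inv_mem (Subgroup.mem_centralizer_singleton_iff.2 (hhv s)))
      rwa [mul_inv_cancel_right] at this
    exact ⟨(⟨u, Subgroup.mem_inf.2 ⟨hu, hu'⟩⟩, s), rfl⟩

theorem count_three_Ct :
    Nat.card {y : ↥X.G1 | y ∈ Subgroup.centralizer {hv X} ∧ orderOf y = 3} = Fintype.card K ^ 2 - 1 := by
  haveI : Fact (Nat.Prime 3) := ⟨Nat.prime_three⟩
  set Ct := Subgroup.centralizer {hv X}
  set M : Subgroup ↥Ct := X.Bs.subgroupOf Ct
  set V : Subgroup ↥Ct := (Us X).subgroupOf Ct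
  set T : Set ↥Ct := {u | u ∈ V ∧ orderOf u = 3}
  have hq3 : 3 ∣ Fintype.card K := by rw [X.hK]; exact dvd_pow_self 3 (by omega)
  have h1 := Fintype.one_lt_card (α := K)
  have hcV : Nat.card V = Fintype.card K := by
    rw [show V = (Us X ⊓ Ct).subgroupOf Ct from (Subgroup.inf_subgroupOf_right _ _).symm,
      Nat.card_congr (Subgroup.subgroupOfEquivOfLe inf_le_right).toEquiv, card_V]
  have hcM : Nat.card M = Fintype.card K * (Fintype.card K - 1) := by
    rw [show M = (X.Bs ⊓ Ct).subgroupOf Ct from (Subgroup.inf_subgroupOf_right _ _).symm,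
      Nat.card_congr (Subgroup.subgroupOfEquivOfLe inf_le_right).toEquiv, card_B_Ct]
  have hVidx : V.index = (Fintype.card K - 1) * (Fintype.card K + 1) := by
    have h := V.card_mul_index
    rw [hcV, card_Ct] at h
    exact Nat.eq_of_mul_eq_mul_left Fintype.card_pos (h.trans (mul_assoc _ _ _))
  have hMidx : M.index = Fintype.card K + 1 := by
    have h := M.card_mul_index
    rw [hcM, card_Ct] at h
    exact Nat.eq_of_mul_eq_mul_left (Nat.mul_pos Fintype.card_pos (by omega)) h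
  have hcT : Nat.card T = Fintype.card K - 1 := by
    have e : T = (V : Set ↥Ct) \ {1} := by
      ext u
      simp only [T, Set.mem_setOf_eq, Set.mem_diff, SetLike.mem_coe, Set.mem_singleton_iff]
      refine ⟨fun ⟨hu, ho⟩ => ⟨hu, fun e => by rw [e, orderOf_one] at ho; omega⟩, fun ⟨hu, hne⟩ => ⟨hu, ?_⟩⟩
      refine orderOf_eq_prime (Subtype.ext (Subtype.ext ?_)) hne
      obtain ⟨a, e⟩ := (Us_cent_iff X (u := u.1) hu).1 (Subgroup.mem_centralizer_singleton_iff.1 u.2)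
      show ((u : ↥X.G1) : GL chevG2.Idx K) ^ 3 = 1
      rw [e]; exact (X.uu_cube 0 a 0).2 rfl
    rw [Nat.card_coe_set_eq, e, Set.ncard_diff_singleton_of_mem V.one_mem, ← Nat.card_coe_set_eq,
      show Nat.card ↥((V : Set ↥Ct)) = Fintype.card K from hcV]
  have key : Nat.card {y : ↥Ct // orderOf y = 3} = M.index * Nat.card T := by
    refine card_eq_of_iff M T (fun g hg z hz => ?_) (fun g z hz h => ?_) (fun y => ⟨fun hy => ?_, ?_⟩)
    · exact ⟨conj_Us X (show (g : ↥X.G1) ∈ X.Bs from hg) (show (z : ↥X.G1) ∈ Us X from hz.1), by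
        rw [show g * z * g⁻¹ = MulAut.conj g z from rfl, MulEquiv.orderOf_eq]; exact hz.2⟩
    · refine mem_Bs_of_conj X (show (z : ↥X.G1) ∈ Us X from hz.1) (fun e => ?_) (Us_le_Bs X h.1)
      have := hz.2
      rw [show z = 1 from Subtype.ext e, orderOf_one] at this
      omega
    · obtain ⟨x, hx⟩ := exists_conj_mem V (r := 3) (by
        rw [hVidx, Nat.prime_three.dvd_mul, not_or]
        exact ⟨fun h => not_three_dvd X (Or.inl h) dvd_rfl, fun h => not_three_dvd X (Or.inr h) dvd_rfl⟩) (z := y) (n := 1)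
        (by rw [pow_one, ← hy]; exact pow_orderOf_eq_one y)
      refine ⟨x, hx, ?_⟩
      rw [show x⁻¹ * y * x = MulAut.conj x⁻¹ y by simp, MulEquiv.orderOf_eq, hy]
    · rintro ⟨x, -, hx⟩
      rwa [show x⁻¹ * y * x = MulAut.conj x⁻¹ y by simp, MulEquiv.orderOf_eq] at hx
  rw [hMidx, hcT] at key
  have e : Nat.card {y : ↥X.G1 | y ∈ Ct ∧ orderOf y = 3} = Nat.card {y : ↥Ct // orderOf y = 3} :=
    Nat.card_congr {
      toFun := fun y => ⟨⟨y.1, y.2.1⟩, by rw [← Subgroup.orderOf_coe]; exact y.2.2⟩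
      invFun := fun y => ⟨y.1.1, y.1.2, by rw [Subgroup.orderOf_coe]; exact y.2⟩
      left_inv := fun _ => rfl
      right_inv := fun _ => rfl }
  rw [e, key]
  obtain ⟨k, hk⟩ : ∃ k, Fintype.card K = k + 1 := ⟨_, (Nat.sub_add_cancel h1.le).symm⟩
  rw [hk, Nat.add_sub_cancel, show (k + 1) ^ 2 = (k + 1 + 1) * k + 1 by ring, Nat.add_sub_cancel]

theorem count_six (hm : 1 ≤ X.m) :
    Nat.card {g : ↥X.G1 // orderOf g = 6} = Fintype.card K ^ 2 * NN X * (Fintype.card K ^ 2 - 1) := by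
  set Ct := Subgroup.centralizer {hv X}
  rw [card_eq_of_iff Ct {x : ↥X.G1 | x ∈ Ct ∧ orderOf x = 6 ∧ x ^ 3 = hv X} (fun g hg z hz => ?_) (fun g z hz h => ?_)
    (fun g => ⟨fun h => ?_, ?_⟩), ← count_three_Ct X, Cfsg.Lib.GTwoOdd.ReeInv.index_cent, NN]
  · refine congrArg (Fintype.card K ^ 2 * (Fintype.card K ^ 2 - Fintype.card K + 1) * ·) (Nat.card_congr {
      toFun := fun x => ⟨x.1 ^ 4, pow_mem x.2.1 4, by rw [orderOf_pow, x.2.2.1]; rfl⟩
      invFun := fun y => ⟨hv X * y.1, mul_mem (Subgroup.mem_centralizer_singleton_iff.2 rfl) y.2.1, ?_, ?_⟩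
      left_inv := fun x => Subtype.ext ?_
      right_inv := fun y => Subtype.ext ?_ })
    · have hc : Commute (hv X) y.1 := (Subgroup.mem_centralizer_singleton_iff.1 y.2.1).symm
      rw [hc.orderOf_mul_eq_mul_orderOf_of_coprime (by rw [hv_order, y.2.2]; norm_num), hv_order, y.2.2]
    · have hc : Commute (hv X) y.1 := (Subgroup.mem_centralizer_singleton_iff.1 y.2.1).symm
      rw [hc.mul_pow, pow_succ, sq, Cfsg.Lib.GTwoOdd.ReeInv.hv_sq, one_mul,
        show y.1 ^ 3 = 1 from orderOf_dvd_iff_pow_eq_one.1 (dvd_of_eq y.2.2), mul_one]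
    · show hv X * x.1 ^ 4 = x.1
      calc hv X * x.1 ^ 4 = x.1 ^ 3 * x.1 ^ 4 := congrArg (· * x.1 ^ 4) x.2.2.2.symm
        _ = x.1 := by
          rw [← pow_add, show 3 + 4 = orderOf x.1 + 1 by rw [x.2.2.1], pow_succ, pow_orderOf_eq_one, one_mul]
    · show (hv X * y.1) ^ 4 = y.1
      have hc : Commute (hv X) y.1 := (Subgroup.mem_centralizer_singleton_iff.1 y.2.1).symm
      rw [hc.mul_pow, show (4 : ℕ) = 3 + 1 from rfl, pow_succ (y.1), show y.1 ^ 3 = 1 from orderOf_dvd_iff_pow_eq_one.1 (dvd_of_eq y.2.2),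
        one_mul, show (3 + 1 : ℕ) = 2 * 2 from rfl, pow_mul, sq, sq, Cfsg.Lib.GTwoOdd.ReeInv.hv_sq, one_mul, one_mul]
  · refine ⟨mul_mem (mul_mem hg hz.1) (inv_mem hg), ?_, ?_⟩
    · rw [show g * z * g⁻¹ = MulAut.conj g z from rfl, MulEquiv.orderOf_eq]; exact hz.2.1
    · rw [conj_pow, hz.2.2, Subgroup.mem_centralizer_singleton_iff.1 hg, mul_inv_cancel_right]
  · have h3 := h.2.2
    rw [conj_pow, hz.2.2, mul_inv_eq_iff_eq_mul] at h3
    exact Subgroup.mem_centralizer_singleton_iff.2 h3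
  · obtain ⟨x, hx⟩ := inv_conj X hm (s := g ^ 3) (by rw [orderOf_pow, h]; rfl)
    have h3 : (x⁻¹ * g * x) ^ 3 = hv X := by
      rw [show x⁻¹ * g * x = x⁻¹ * g * x⁻¹⁻¹ by rw [inv_inv], conj_pow, ← hx]; group
    refine ⟨x, ?_, by rw [orderOf_conj', h], h3⟩
    rw [Subgroup.mem_centralizer_singleton_iff, ← h3]
    exact ((Commute.refl _).pow_right 3).eq
  · rintro ⟨x, -, hx, -⟩
    rwa [orderOf_conj'] at hx

end Cfsg.Lib.ReeStruct
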