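import Cfsg.Agent.Chev.GTwoOdd.ReeS.Tori

/-! Element orders, cyclic Hall subgroups and the Sylow 2-normaliser of a small Ree group. -/

set_option autoImplicit false
set_option linter.dupNamespace false
set_option linter.unusedSectionVars false

open Cfsg.Lie

namespace Cfsg.Lib.ReeStruct

open Cfsg.Lib.Chev
open Cfsg.Lib.Chev.Ree (Ree SG)
open Cfsg.Lib.GTwoOdd.ReeInv (hv iota)

variable {K : Type*} [Field K] [Fintype K] (X : Ree K)

local notation "PSL2K" => Matrix.ProjectiveSpecialLinearGroup (Fin 2) K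
local notation "Z2" => Multiplicative (ZMod 2)

/-- The smaller Hall order. -/
noncomputable def lo (X : Ree K) : ℕ := Fintype.card K + 1 - 3 * X.e

/-- The larger Hall order. -/
noncomputable def hi (X : Ree K) : ℕ := Fintype.card K + 1 + 3 * X.e

theorem lo_eq : 3 ^ (2 * X.m + 1) - 3 ^ (X.m + 1) + 1 = lo X := by
  have := three_e_le X
  rw [lo, ← X.hK, pow_succ' 3 X.m, show 3 ^ X.m = X.e from rfl]
  omega

theorem hi_eq : 3 ^ (2 * X.m + 1) + 3 ^ (X.m + 1) + 1 = hi X := by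
  rw [hi, ← X.hK, pow_succ' 3 X.m, show 3 ^ X.m = X.e from rfl]
  omega

theorem z2_ofAdd_one_ne : (Multiplicative.ofAdd (1 : ZMod 2)) ≠ 1 := by decide

theorem z2_ofAdd_one_mul_ne : (Multiplicative.ofAdd (1 : ZMod 2)) * 1 ≠ 1 := by decide

theorem lo_mul_hi : lo X * hi X = NN X := NN_factor X

theorem exists_gen (A : Subgroup ↥X.G1) (hA : IsCyclic A) :
    ∃ a, a ∈ A ∧ A = Subgroup.zpowers a ∧ orderOf a = Nat.card A := by
  obtain ⟨⟨a, ha⟩, hgen⟩ := hA.exists_generator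
  have e : A = Subgroup.zpowers a := by
    refine le_antisymm (fun x hx => ?_) (Subgroup.zpowers_le.2 ha)
    obtain ⟨k, hk⟩ := Subgroup.mem_zpowers_iff.1 (hgen ⟨x, hx⟩)
    exact ⟨k, congrArg Subtype.val hk⟩
  exact ⟨a, ha, e, by rw [← Nat.card_zpowers, ← e]⟩

theorem cent_zpowers' (a : ↥X.G1) :
    Subgroup.centralizer ((Subgroup.zpowers a : Subgroup ↥X.G1) : Set ↥X.G1) = Subgroup.centralizer {a} := by
  rw [Subgroup.zpowers_eq_closure, Subgroup.centralizer_closure]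

/-- The cyclic subgroup of order `(q + 1) / 4`. -/
noncomputable def Dn : Subgroup ↥X.G1 := Subgroup.zpowers (iota X (1, y0 X))

theorem card_Dn : Nat.card (Dn X) = nn X := by rw [Dn, Nat.card_zpowers, orderOf_iota_one, orderOf_y0]

theorem Dn_le : Dn X ≤ T0 X := Subgroup.zpowers_le.2 (y0_mem_T0 X)

theorem mem_Dn {x : ↥X.G1} (hx : x ∈ T0 X) (ho : orderOf x ∣ nn X) : x ∈ Dn X := by
  have hodd : Odd (orderOf x) := (nn_spec X).2.1.of_dvd_nat ho
  obtain ⟨a, y, hy, rfl⟩ := (mem_T0 X).1 hx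
  obtain rfl : a = 1 := z2_odd hodd (by
    have h := pow_orderOf_eq_one (iota X (a, y))
    rw [← map_pow, ← map_one (iota X)] at h
    exact congrArg Prod.fst (Cfsg.Lib.GTwoOdd.ReeInv.iota_inj X h))
  rw [orderOf_iota_one] at ho
  -- `y` lies in the subgroup of index two
  obtain ⟨j, hj⟩ := ho
  have h1 : y ∈ Subgroup.zpowers (y0 X) := by
    obtain ⟨d, hd⟩ : Odd (orderOf y) := (nn_spec X).2.1.of_dvd_nat ⟨j, hj⟩
    obtain ⟨i, rfl⟩ := hy
    refine ⟨i * ((d : ℤ) + 1), ?_⟩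
    show y0 X ^ (i * ((d : ℤ) + 1)) = z0 X ^ i
    rw [y0, ← zpow_natCast (z0 X) 2, ← zpow_mul,
      show ((2 : ℕ) : ℤ) * (i * ((d : ℤ) + 1)) = i + i * ((orderOf (z0 X ^ i) : ℕ) : ℤ) by rw [hd]; push_cast; ring,
      zpow_add, zpow_mul, zpow_natCast, pow_orderOf_eq_one, mul_one]
  obtain ⟨i, hi⟩ := h1
  exact ⟨i, by
    show iota X (1, y0 X) ^ i = iota X (1, y)
    rw [← map_zpow]; exact congrArg (iota X) (Prod.ext (by simp) hi)⟩

theorem exists_hs_gen : ∃ ζ : Kˣ, orderOf ζ = Fintype.card K - 1 := by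
  obtain ⟨ζ, hζ⟩ := IsCyclic.exists_generator (α := Kˣ)
  exact ⟨ζ, by rw [orderOf_eq_card_of_forall_mem_zpowers hζ, Nat.card_units, Nat.card_eq_fintype_card]⟩

theorem q_pred : Fintype.card K - 1 = 2 * hq2 X := by
  obtain ⟨k, hk, -, hk'⟩ := q_param X; omega

/-- A generator of the odd part of the split torus. -/
noncomputable def h2 : ↥X.G1 := hs X (Classical.choose (exists_hs_gen (K := K)) ^ 2)

theorem orderOf_h2 : orderOf (h2 X) = hq2 X := by
  rw [h2, orderOf_injective _ (hs_inj X), orderOf_pow, Classical.choose_spec (exists_hs_gen (K := K)), q_pred X,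
    Nat.gcd_mul_right_left, Nat.mul_div_cancel_left _ two_pos]

theorem h2_mem : h2 X ∈ Hs X := (mem_Hs X).2 ⟨_, rfl⟩

theorem cent_Hs_odd {x : ↥X.G1} (hx : x ∈ Hs X) (hx1 : x ≠ 1) (ho : orderOf x ∣ hq2 X) :
    Subgroup.centralizer {x} = Hs X := by
  obtain ⟨s, rfl⟩ := (mem_Hs X).1 hx
  refine cent_hs X (hs_sq_ne X rfl ?_)
  have h1 : orderOf (hs X s) ≠ 1 := fun e => hx1 (orderOf_eq_one_iff.1 e)
  have h2 : orderOf (hs X s) ≠ 2 := fun e => by
    rw [e] at ho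
    obtain ⟨k, -, -, hk⟩ := q_param X
    omega
  have := orderOf_pos (hs X s)
  omega

/-- Conjugate cyclic subgroups. -/
theorem conj_cyclic {R A B : Subgroup ↥X.G1} [IsCyclic R] (hA : IsCyclic A) (hB : IsCyclic B)
    (hc : Nat.card A = Nat.card B) (h : ∀ a : ↥X.G1, orderOf a = Nat.card A → ∃ x, x⁻¹ * a * x ∈ R) :
    ∃ g : ↥X.G1, B = A.map (MulAut.conj g).toMonoidHom := by
  obtain ⟨a, -, rfl, ha⟩ := exists_gen X A hA
  obtain ⟨b, -, rfl, hb⟩ := exists_gen X B hB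
  obtain ⟨x, hx⟩ := h a ha
  obtain ⟨y, hy⟩ := h b (hb.trans hc.symm)
  have he : Subgroup.zpowers (x⁻¹ * a * x) = Subgroup.zpowers (y⁻¹ * b * y) :=
    eq_of_card_eq (Subgroup.zpowers_le.2 hx) (Subgroup.zpowers_le.2 hy)
      (by rw [Nat.card_zpowers, Nat.card_zpowers, orderOf_conj', orderOf_conj', ha, hb, hc])
  refine ⟨y * x⁻¹, (Subgroup.eq_of_le_of_card_ge ?_ ?_).symm⟩
  · rw [MonoidHom.map_zpowers, Subgroup.zpowers_le]
    have h' : x⁻¹ * a * x ∈ Subgroup.zpowers (y⁻¹ * b * y) := he ▸ Subgroup.mem_zpowers _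
    obtain ⟨i, hi⟩ := h'
    refine ⟨i, ?_⟩
    show b ^ i = y * x⁻¹ * a * (y * x⁻¹)⁻¹
    calc b ^ i = y * (y⁻¹ * b * y) ^ i * y⁻¹ := by
          rw [show y⁻¹ * b * y = y⁻¹ * b * y⁻¹⁻¹ by rw [inv_inv], conj_zpow]; group
      _ = _ := by rw [show (y⁻¹ * b * y) ^ i = x⁻¹ * a * x from hi]; group
  · rw [Subgroup.card_map_of_injective (MulAut.conj _).injective, hc]

theorem norm_sub {A C : Subgroup ↥X.G1} [IsCyclic A] (hAC : A ≤ C)
    (hchar : ∀ g ∈ Subgroup.normalizer (C : Set ↥X.G1), ∀ x ∈ A, g * x * g⁻¹ ∈ A)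
    (hcent : ∀ x ∈ A, x ≠ 1 → Subgroup.centralizer {x} = C) {A₀ : Subgroup ↥X.G1} (h0 : A₀ ≤ A) (hne : A₀ ≠ ⊥) :
    Subgroup.normalizer (A₀ : Set ↥X.G1) = Subgroup.normalizer (C : Set ↥X.G1) := by
  obtain ⟨x, hx, hx1⟩ := Subgroup.ne_bot_iff_exists_ne_one.1 hne |> fun ⟨x, hx⟩ =>
    (⟨x.1, x.2, fun e => hx (Subtype.ext e)⟩ : ∃ x, x ∈ A₀ ∧ x ≠ 1)
  ext g
  constructor
  · intro hg
    have h1 := hcent _ (h0 ((Subgroup.mem_normalizer_iff.1 hg x).1 hx))
      (fun e => hx1 ((MulAut.conj g).injective (by simpa using e)))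
    rw [cent_conj X (hcent x (h0 hx) hx1)] at h1
    exact normal_of_conj_le X fun y hy => (SetLike.ext_iff.1 h1 _).1 ⟨y, hy, rfl⟩
  · intro hg
    refine normal_of_conj_le X fun y hy => ?_
    have hle : A₀.map (MulAut.conj g).toMonoidHom ≤ A := by
      rintro _ ⟨z, hz, rfl⟩; exact hchar g hg z (h0 hz)
    have he := eq_of_card_eq hle h0 (Subgroup.card_map_of_injective (MulAut.conj g).injective)
    exact (SetLike.ext_iff.1 he _).1 ⟨y, hy, rfl⟩

theorem zpowers_char {C : Subgroup ↥X.G1} {a : ↥X.G1} (hmem : ∀ x ∈ C, orderOf x ∣ orderOf a → x ∈ Subgroup.zpowers a)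
    (ha : a ∈ C) : ∀ g ∈ Subgroup.normalizer (C : Set ↥X.G1), ∀ x ∈ Subgroup.zpowers a,
      g * x * g⁻¹ ∈ Subgroup.zpowers a := by
  intro g hg x hx
  refine hmem _ ((Subgroup.mem_normalizer_iff.1 hg x).1 (Subgroup.zpowers_le.2 ha hx)) ?_
  rw [show g * x * g⁻¹ = MulAut.conj g x from rfl, MulEquiv.orderOf_eq]
  exact orderOf_dvd_of_mem_zpowers hx

theorem mem_h2 {x : ↥X.G1} (hx : x ∈ Hs X) (ho : orderOf x ∣ orderOf (h2 X)) : x ∈ Subgroup.zpowers (h2 X) := by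
  haveI := cyclic_Hs X
  obtain ⟨j, hj⟩ : ∃ j, orderOf (h2 X) = orderOf x * j := ho
  have hpow : orderOf (h2 X ^ j) = orderOf x := by
    have hj0 : j ≠ 0 := fun e => by rw [e, mul_zero] at hj; exact (orderOf_pos (h2 X)).ne' hj
    rw [orderOf_pow' _ hj0, hj, Nat.gcd_mul_left_left, Nat.mul_div_cancel _ (Nat.pos_of_ne_zero hj0)]
  have he : Subgroup.zpowers x = Subgroup.zpowers (h2 X ^ j) :=
    eq_of_card_eq (A := Hs X) (Subgroup.zpowers_le.2 hx) (Subgroup.zpowers_le.2 (pow_mem (h2_mem X) j))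
      (by rw [Nat.card_zpowers, Nat.card_zpowers, hpow])
  exact Subgroup.zpowers_le.2 (pow_mem (Subgroup.mem_zpowers _) j) (he ▸ Subgroup.mem_zpowers x)

/-- The reference subgroups for the four toral orders. -/
structure Ref (R C : Subgroup ↥X.G1) (n c : ℕ) : Prop where
  cyc : IsCyclic R
  le : R ≤ C
  card : Nat.card R = n
  cardC : Nat.card C = c
  mem : ∀ x ∈ C, orderOf x ∣ n → x ∈ R
  cent : ∀ x ∈ R, x ≠ 1 → Subgroup.centralizer {x} = C
  conj : ∀ g : ↥X.G1, 1 < orderOf g → orderOf g ∣ n → ∃ x, x⁻¹ * g * x ∈ R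

theorem ref_Hs : Ref X (Subgroup.zpowers (h2 X)) (Hs X) (hq2 X) (Fintype.card K - 1) where
  cyc := inferInstance
  le := Subgroup.zpowers_le.2 (h2_mem X)
  card := by rw [Nat.card_zpowers, orderOf_h2]
  cardC := card_Hs X
  mem x hx ho := mem_h2 X hx (by rwa [orderOf_h2])
  cent x hx hx1 := cent_Hs_odd X (Subgroup.zpowers_le.2 (h2_mem X) hx) hx1
    (orderOf_h2 X ▸ orderOf_dvd_of_mem_zpowers hx)
  conj g h1 hd := by
    obtain ⟨k, hk, -, hk'⟩ := q_param X
    have h3 : 2 < orderOf g := by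
      obtain ⟨j, hj⟩ : Odd (orderOf g) := Odd.of_dvd_nat ⟨2 * k, by omega⟩ hd
      omega
    obtain ⟨x, hx⟩ := conj_into_Hs' X h3 (hd.trans ⟨2, by rw [q_pred X, mul_comm]⟩)
    exact ⟨x, mem_h2 X hx (by rw [orderOf_conj', orderOf_h2]; exact hd)⟩

theorem ref_T0 (hm : 1 ≤ X.m) : Ref X (Dn X) (T0 X) (nn X) (Fintype.card K + 1) where
  cyc := by rw [Dn]; infer_instance
  le := Dn_le X
  card := card_Dn X
  cardC := card_T0 X
  mem x hx ho := mem_Dn X hx ho
  cent x hx hx1 := cent_T0 X hm (Dn_le X hx) hx1 (card_Dn X ▸ Subgroup.orderOf_dvd_natCard _ hx)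
  conj g h1 hd := by
    have h3 : 2 < orderOf g := by
      obtain ⟨j, hj⟩ := (nn_spec X).2.1.of_dvd_nat hd
      omega
    obtain ⟨x, hx⟩ := conj_into_T0' X hm h3 (hd.trans (dvd_mul_left _ 2))
    exact ⟨x, mem_Dn X hx (by rw [orderOf_conj']; exact hd)⟩

theorem ref_tor (hm : 1 ≤ X.m) : ∃ A B : Subgroup ↥X.G1, IsTor X A (lo X) ∧ IsTor X B (hi X) ∧
    Ref X A A (lo X) (lo X) ∧ Ref X B B (hi X) (hi X) := by
  obtain ⟨A, B, hA, hB, hco, hcov⟩ := exists_tori X hm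
  refine ⟨A, B, hA, hB, ⟨hA.cyc, le_rfl, hA.card, hA.card, fun _ h _ => h, hA.cent, fun g h1 hd => ?_⟩,
    ⟨hB.cyc, le_rfl, hB.card, hB.card, fun _ h _ => h, hB.cent, fun g h1 hd => ?_⟩⟩
  · obtain ⟨x, h | h⟩ := hcov g h1 (hd.trans (lo_mul_hi X ▸ dvd_mul_right _ _))
    · exact ⟨x, h⟩
    · have h2 := Subgroup.orderOf_dvd_natCard _ h
      rw [orderOf_conj', hB.card] at h2
      have := Nat.eq_one_of_dvd_coprimes hco hd h2
      omega
  · obtain ⟨x, h | h⟩ := hcov g h1 (hd.trans (lo_mul_hi X ▸ dvd_mul_left _ _))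
    · have h2 := Subgroup.orderOf_dvd_natCard _ h
      rw [orderOf_conj', hA.card] at h2
      have := Nat.eq_one_of_dvd_coprimes hco h2 hd
      omega
    · exact ⟨x, h⟩

variable {X}

theorem Ref.conjugate {R C : Subgroup ↥X.G1} {n c : ℕ} (h : Ref X R C n c) {d : ℕ} (hd : d ∣ n)
    {A B : Subgroup ↥X.G1} (hA : IsCyclic A) (hB : IsCyclic B) (hAd : Nat.card A = d) (hBd : Nat.card B = d) :
    ∃ g : ↥X.G1, B = A.map (MulAut.conj g).toMonoidHom := by
  by_cases hd1 : d = 1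
  · refine ⟨1, ?_⟩
    rw [Subgroup.card_eq_one.1 (hAd.trans hd1), Subgroup.card_eq_one.1 (hBd.trans hd1), Subgroup.map_bot]
  · haveI := h.cyc
    refine conj_cyclic X hA hB (hAd.trans hBd.symm) fun a ha => h.conj a ?_ (ha ▸ hAd ▸ hd)
    have := orderOf_pos a
    omega

theorem Ref.centralizer {R C : Subgroup ↥X.G1} {n c : ℕ} (h : Ref X R C n c) {H : Subgroup ↥X.G1} (hH : IsCyclic H)
    (hc : Nat.card H = n) (hn : 1 < n) :
    ∃ g : ↥X.G1, Subgroup.centralizer (H : Set ↥X.G1) = C.map (MulAut.conj g).toMonoidHom ∧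
      ∀ A : Subgroup ↥X.G1, A ≤ H → A ≠ ⊥ →
        Subgroup.centralizer (A : Set ↥X.G1) = Subgroup.centralizer (H : Set ↥X.G1) := by
  obtain ⟨a, -, ea, ha⟩ := exists_gen X H hH
  obtain ⟨x, hx⟩ := h.conj a (by rw [ha, hc]; exact hn) (by rw [ha, hc])
  have key : ∀ b ∈ H, b ≠ 1 → Subgroup.centralizer ({b} : Set ↥X.G1) = C.map (MulAut.conj x).toMonoidHom := by
    intro b hb hb1
    rw [ea] at hb
    obtain ⟨i, hi⟩ := hb
    have hb' : x⁻¹ * b * x ∈ R := by
      rw [← show a ^ i = b from hi, show x⁻¹ * a ^ i * x = (x⁻¹ * a * x) ^ i by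
        rw [show x⁻¹ * a * x = x⁻¹ * a * x⁻¹⁻¹ by rw [inv_inv], conj_zpow, inv_inv]]
      exact zpow_mem hx i
    have := cent_conj X (g := x) (h.cent _ hb' fun e => hb1 (by
      calc b = x * (x⁻¹ * b * x) * x⁻¹ := by group
        _ = 1 := by rw [e]; group))
    rwa [show x * (x⁻¹ * b * x) * x⁻¹ = b by group] at this
  have hHC : Subgroup.centralizer (H : Set ↥X.G1) = C.map (MulAut.conj x).toMonoidHom := by
    rw [ea, cent_zpowers', key a (ea ▸ Subgroup.mem_zpowers a) (fun e => by rw [e, orderOf_one] at ha; omega)]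
  refine ⟨x, hHC, fun A hA hne => ?_⟩
  haveI := hH
  obtain ⟨b, hb, eb, -⟩ := exists_gen X A (isCyclic_of_injective (Subgroup.inclusion hA) (Subgroup.inclusion_injective hA))
  rw [hHC, eb, cent_zpowers', key b (hA hb) fun e => hne (by rw [eb, e, Subgroup.zpowers_one_eq_bot])]

theorem Ref.normalizer {R C : Subgroup ↥X.G1} {n c : ℕ} (h : Ref X R C n c) {A₀ : Subgroup ↥X.G1} (h0 : A₀ ≤ R)
    (hne : A₀ ≠ ⊥) : Subgroup.normalizer (A₀ : Set ↥X.G1) = Subgroup.normalizer (C : Set ↥X.G1) := by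
  haveI := h.cyc
  refine norm_sub X h.le (fun g hg x hx => ?_) h.cent h0 hne
  refine h.mem _ ((Subgroup.mem_normalizer_iff.1 hg x).1 (h.le hx)) ?_
  rw [show g * x * g⁻¹ = MulAut.conj g x from rfl, MulEquiv.orderOf_eq, ← h.card]
  exact Subgroup.orderOf_dvd_natCard _ hx

variable (X)

theorem exists_pow_order {d M : ℕ} {g : ↥X.G1} (hg : orderOf g = M) (hd : d ∣ M) : ∃ a : ↥X.G1, orderOf a = d :=
  ⟨g ^ (M / d), by subst hg; rw [orderOf_pow, Nat.gcd_eq_right (Nat.div_dvd_of_dvd hd), Nat.div_div_self hd (orderOf_pos g).ne']⟩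

theorem element_orders (hm : 1 ≤ X.m) (d : ℕ) : (∃ g : ↥X.G1, orderOf g = d) ↔
    (d ∣ 6 ∨ d ∣ 9 ∨ d ∣ Fintype.card K - 1 ∨ d ∣ 2 * nn X ∨ d ∣ lo X ∨ d ∣ hi X) := by
  obtain ⟨A, B, hA, hB, hco, hcov⟩ := exists_tori X hm
  have h27 := NN_ge X hm
  constructor
  · rintro ⟨g, rfl⟩
    rcases classify X hm g with h | h | h | h | ⟨h1, h⟩
    · exact Or.inl h
    · exact Or.inr (Or.inl h.dvd)
    · exact Or.inr (Or.inr (Or.inl h))
    · exact Or.inr (Or.inr (Or.inr (Or.inl h)))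
    · obtain ⟨x, h' | h'⟩ := hcov g h1 h <;> have h2 := Subgroup.orderOf_dvd_natCard _ h' <;> rw [orderOf_conj'] at h2
      · exact Or.inr (Or.inr (Or.inr (Or.inr (Or.inl (by rw [hA.card] at h2; exact h2)))))
      · exact Or.inr (Or.inr (Or.inr (Or.inr (Or.inr (by rw [hB.card] at h2; exact h2)))))
  · have six : ∃ g : ↥X.G1, orderOf g = 6 := by
      by_contra hno
      push Not at hno
      haveI : IsEmpty {g : ↥X.G1 // orderOf g = 6} := ⟨fun g => hno g.1 g.2⟩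
      have := count_six X hm
      rw [Nat.card_of_isEmpty] at this
      have h1 : 0 < Fintype.card K ^ 2 - 1 := by
        have : 2 ^ 2 ≤ Fintype.card K ^ 2 := Nat.pow_le_pow_left (by omega) 2
        omega
      have := Nat.mul_pos (Nat.mul_pos (pow_pos (Fintype.card_pos (α := K)) 2) (NN_pos X)) h1
      omega
    have nine : ∃ g : ↥X.G1, orderOf g = 9 := by
      have h9 := card_Us_nine X
      have : Nonempty {u : ↥X.G1 | u ∈ Us X ∧ orderOf u = 9} := by
        by_contra hno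
        rw [not_nonempty_iff] at hno
        rw [Nat.card_of_isEmpty, zero_add] at h9
        have : Fintype.card K ^ 2 < Fintype.card K ^ 3 := Nat.pow_lt_pow_right (by omega) (by omega)
        omega
      obtain ⟨⟨u, -, hu⟩⟩ := this
      exact ⟨u, hu⟩
    rintro (h | h | h | h | h | h)
    · obtain ⟨g, hg⟩ := six; exact exists_pow_order X hg h
    · obtain ⟨g, hg⟩ := nine; exact exists_pow_order X hg h
    · obtain ⟨ζ, hζ⟩ := exists_hs_gen (K := K)
      exact exists_pow_order X (g := hs X ζ) ((orderOf_injective _ (hs_inj X) ζ).trans hζ) h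
    · exact exists_pow_order X (g := iota X (1, z0 X)) ((orderOf_iota_one X _).trans (orderOf_z0 X)) h
    · obtain ⟨a, -, -, ha⟩ := exists_gen X A hA.cyc; exact exists_pow_order X (ha.trans hA.card) h
    · obtain ⟨b, -, -, hb⟩ := exists_gen X B hB.cyc; exact exists_pow_order X (hb.trans hB.card) h

theorem count_i_pred (hm : 1 ≤ X.m) {i : ℕ} (hi : 2 < i) (hd : i ∣ Fintype.card K - 1) :
    2 * Nat.card {g : ↥X.G1 // orderOf g = i} = i.totient * Fintype.card K ^ 3 * (Fintype.card K ^ 3 + 1) := by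
  haveI := cyclic_Hs X
  rw [count_H X hm (fun d => d = i) (by rintro d rfl; exact ⟨hi, hd⟩), card_order_cyclic (Hs X) (card_Hs X ▸ hd)]
  ring

theorem count_i_nn (hm : 1 ≤ X.m) {i : ℕ} (hi : 1 < i) (hd : i ∣ nn X) :
    6 * Nat.card {g : ↥X.G1 // orderOf g = i} =
      i.totient * Fintype.card K ^ 3 * (Fintype.card K - 1) * NN X ∧
    2 * Nat.card {g : ↥X.G1 // orderOf g = 2 * i} =
      i.totient * Fintype.card K ^ 3 * (Fintype.card K - 1) * NN X := by
  have hodd : Odd i := (nn_spec X).2.1.of_dvd_nat hd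
  obtain ⟨j, hj⟩ := hodd
  haveI : IsCyclic (Dn X) := (ref_T0 X hm).cyc
  have hDi : {x : ↥X.G1 | x ∈ T0 X ∧ orderOf x = i} = {x : ↥X.G1 | x ∈ Dn X ∧ orderOf x = i} := by
    ext x
    exact ⟨fun h => ⟨mem_Dn X h.1 (h.2 ▸ hd), h.2⟩, fun h => ⟨Dn_le X h.1, h.2⟩⟩
  have hphi : Nat.card {x : ↥X.G1 | x ∈ T0 X ∧ orderOf x = i} = i.totient := by
    rw [hDi]; exact card_order_cyclic (Dn X) (by rw [card_Dn]; exact hd)
  refine ⟨?_, ?_⟩
  · rw [count_T X hm (fun d => d = i) (by rintro d rfl; exact ⟨by omega, hd.trans (dvd_mul_left _ 2)⟩), hphi]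
    ring
  · have h6 : 6 * Nat.card {g : ↥X.G1 // orderOf g = 2 * i} = _ :=
      count_T X hm (fun d => d = 2 * i) (by rintro d rfl; exact ⟨by omega, Nat.mul_dvd_mul_left 2 hd⟩)
    have hprod : Nat.card {x : ↥X.G1 | x ∈ T0 X ∧ orderOf x = 2 * i} = 3 * i.totient := by
      rw [← card_V3 X, ← hphi, ← Nat.card_prod]
      refine Nat.card_congr {
        toFun := fun x => (⟨x.1 ^ i, ?_⟩, ⟨x.1 ^ (i + 1), pow_mem x.2.1 _, ?_⟩)
        invFun := fun p => ⟨p.1.1 * p.2.1, mul_mem (V3_spec X p.1.2).1 p.2.2.1, ?_⟩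
        left_inv := fun x => Subtype.ext ?_
        right_inv := fun p => Prod.ext (Subtype.ext ?_) (Subtype.ext ?_) }
      · have ho : orderOf (x.1 ^ i) = 2 := by
          rw [orderOf_pow, x.2.2, Nat.gcd_mul_left_left, Nat.mul_div_cancel _ (show 0 < i by omega)]
        refine mem_V3 X (pow_mem x.2.1 _) (by rw [← sq, sq_one_of_order ho]) fun e => ?_
        rw [e, orderOf_one] at ho
        omega
      · have hg : Nat.gcd (2 * i) (i + 1) = 2 := by
          rw [hj, show 2 * j + 1 + 1 = 2 * (j + 1) by ring, Nat.gcd_mul_left,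
            show 2 * j + 1 = j + (j + 1) by ring, Nat.gcd_add_self_left, Nat.gcd_self_add_right, Nat.gcd_one_right]
        rw [orderOf_pow, x.2.2, hg, Nat.mul_div_cancel_left _ two_pos]
      · have hc : Commute p.1.1 p.2.1 := T0_comm X (V3_spec X p.1.2).1 p.2.2.1
        rw [hc.orderOf_mul_eq_mul_orderOf_of_coprime (by
          rw [(V3_spec X p.1.2).2, p.2.2.2]; exact (Nat.coprime_two_left).2 ⟨j, hj⟩), (V3_spec X p.1.2).2, p.2.2.2]
      · show x.1 ^ i * x.1 ^ (i + 1) = x.1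
        rw [← pow_add, show i + (i + 1) = orderOf x.1 + 1 by rw [x.2.2]; ring, pow_succ, pow_orderOf_eq_one, one_mul]
      · show (p.1.1 * p.2.1) ^ i = p.1.1
        have hc : Commute p.1.1 p.2.1 := T0_comm X (V3_spec X p.1.2).1 p.2.2.1
        rw [hc.mul_pow, show p.2.1 ^ i = 1 from orderOf_dvd_iff_pow_eq_one.1 (dvd_of_eq p.2.2.2), mul_one,
          show p.1.1 ^ i = p.1.1 ^ (2 * j + 1) from congrArg (p.1.1 ^ ·) hj,
          pow_succ, pow_mul, sq_one_of_order (V3_spec X p.1.2).2, one_pow, one_mul]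
      · show (p.1.1 * p.2.1) ^ (i + 1) = p.2.1
        have hc : Commute p.1.1 p.2.1 := T0_comm X (V3_spec X p.1.2).1 p.2.2.1
        rw [hc.mul_pow, pow_succ p.2.1, show p.2.1 ^ i = 1 from orderOf_dvd_iff_pow_eq_one.1 (dvd_of_eq p.2.2.2), one_mul,
          show p.1.1 ^ (i + 1) = p.1.1 ^ (2 * (j + 1)) from congrArg (p.1.1 ^ ·) (by omega), pow_mul, sq_one_of_order (V3_spec X p.1.2).2, one_pow, one_mul]
    rw [hprod] at h6
    refine Nat.eq_of_mul_eq_mul_left three_pos (Eq.trans ?_ (h6.trans ?_))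
    · ring
    · ring

theorem count_i_tor {A : Subgroup ↥X.G1} {a b : ℕ} (hA : IsTor X A a) (hR : Ref X A A a a)
    (hab : a * b = NN X) {i : ℕ} (hi : 1 < i) (hd : i ∣ a) :
    6 * Nat.card {g : ↥X.G1 // orderOf g = i} =
      i.totient * Fintype.card K ^ 3 * (Fintype.card K ^ 2 - 1) * b := by
  haveI := hA.cyc
  have hnorm : ∀ g ∈ Subgroup.normalizer (A : Set ↥X.G1), ∀ z ∈ {x : ↥X.G1 | x ∈ A ∧ orderOf x = i},
      g * z * g⁻¹ ∈ {x : ↥X.G1 | x ∈ A ∧ orderOf x = i} := fun g hg z hz =>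
    ⟨(Subgroup.mem_normalizer_iff.1 hg _).1 hz.1, by
      rw [show g * z * g⁻¹ = MulAut.conj g z from rfl, MulEquiv.orderOf_eq]; exact hz.2⟩
  have hcount : Nat.card {g : ↥X.G1 // orderOf g = i} =
      (Subgroup.normalizer (A : Set ↥X.G1)).index * Nat.card {x : ↥X.G1 | x ∈ A ∧ orderOf x = i} := by
    refine card_eq_of_iff _ _ hnorm (fun g z hz h => TI_cent X hA.cent hz.1 (fun e => ?_) h.1) fun g => ⟨fun hg => ?_, ?_⟩
    · have := hz.2; rw [e, orderOf_one] at this; omega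
    · obtain ⟨x, hx⟩ := hR.conj g (hg ▸ hi) (hg ▸ hd)
      exact ⟨x, hx, by rw [orderOf_conj', hg]⟩
    · rintro ⟨x, -, hx⟩
      rwa [orderOf_conj'] at hx
  have hidx := Subgroup.card_mul_index (Subgroup.normalizer (A : Set ↥X.G1))
  rw [hA.norm, card_G, ← (nn_spec X).1, ← hab] at hidx
  have ha : 0 < a := hA.card ▸ Nat.card_pos
  have h2 : Fintype.card K ^ 2 - 1 = (Fintype.card K - 1) * (Fintype.card K + 1) := by
    rw [mul_comm, ← Nat.sq_sub_sq, one_pow]
  rw [hcount, card_order_cyclic A (hA.card.symm ▸ hd), h2]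
  refine Nat.eq_of_mul_eq_mul_left ha ?_
  calc a * (6 * ((Subgroup.normalizer (A : Set ↥X.G1)).index * i.totient))
      = i.totient * (6 * a * (Subgroup.normalizer (A : Set ↥X.G1)).index) := by ring
    _ = _ := by rw [hidx]; ring

/-- The centralizer of a Sylow 2-subgroup. -/
theorem cent_sylow (hm : 1 ≤ X.m) (S : Sylow 2 ↥X.G1) :
    Subgroup.centralizer ((S : Subgroup ↥X.G1) : Set ↥X.G1) = S := by
  haveI : Fact (Nat.Prime 2) := ⟨Nat.prime_two⟩
  obtain ⟨hS8, hsq⟩ := Cfsg.Lib.GTwoOdd.ReeInv.sylow_two X S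
  have hle : (S : Subgroup ↥X.G1) ≤ Subgroup.centralizer ((S : Subgroup ↥X.G1) : Set ↥X.G1) := by
    intro x hx
    rw [Subgroup.mem_centralizer_iff]
    intro y hy
    have hi : ∀ z ∈ (S : Subgroup ↥X.G1), z⁻¹ = z := fun z hz => (eq_inv_of_mul_eq_one_left (hsq z hz)).symm
    have h := hi (x * y) (mul_mem hx hy)
    rwa [mul_inv_rev, hi x hx, hi y hy] at h
  refine S.is_maximal' ?_ hle
  refine IsPGroup.of_card (n := (Nat.card ↥(Subgroup.centralizer ((S : Subgroup ↥X.G1) : Set ↥X.G1))).primeFactorsList.length) ?_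
  refine Nat.eq_prime_pow_of_unique_prime_dvd Nat.card_pos.ne' fun {ℓ} hℓ hd => ?_
  haveI : Fact ℓ.Prime := ⟨hℓ⟩
  obtain ⟨⟨w, hwC⟩, hw⟩ := exists_prime_orderOf_dvd_card' ℓ hd
  rw [← Subgroup.orderOf_coe] at hw
  have hcomm : ∀ y ∈ (S : Subgroup ↥X.G1), y * w = w * y := fun y hy => Subgroup.mem_centralizer_iff.1 hwC y hy
  have hbound : ∀ {g : ↥X.G1} {C : Subgroup ↥X.G1},
      (∀ y : ↥X.G1, y * w = w * y → g⁻¹ * y * g ∈ C) → 8 ∣ Nat.card C := by
    intro g C hC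
    rw [← hS8, ← Subgroup.card_map_of_injective (K := (S : Subgroup ↥X.G1))
      (f := (MulAut.conj g⁻¹).toMonoidHom) (MulAut.conj g⁻¹).injective]
    refine Subgroup.card_dvd_of_le ?_
    rintro _ ⟨y, hy, rfl⟩
    simpa using hC y (hcomm y hy)
  by_contra h2
  rcases prime_cases X hℓ (hd.trans (Subgroup.card_subgroup_dvd_card _)) with rfl | rfl | h | h | h
  · exact h2 rfl
  · obtain ⟨g, hg⟩ := three_conj X (w := w) (by
      rw [show (9 : ℕ) = 3 * 3 from rfl, pow_mul, show w ^ 3 = 1 from orderOf_dvd_iff_pow_eq_one.1 (dvd_of_eq hw), one_pow])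
    have hne : g⁻¹ * w * g ≠ 1 := fun e => by
      have := orderOf_conj' X g w
      rw [e, orderOf_one] at this
      exact hℓ.ne_one (hw.symm.trans this.symm)
    have h8 := hbound (g := g) (C := X.Bs) fun y hy => cent_three X hg hne (commute_conj X hy)
    rw [card_Bs] at h8
    have h8' : 8 ∣ Fintype.card K - 1 := by
      refine Nat.Coprime.dvd_of_dvd_mul_left ?_ h8
      refine Nat.Coprime.pow 3 3 (Nat.coprime_two_left.2 (Nat.odd_iff.2 ?_))
      have := q_mod X; omega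
    have := q_mod X; omega
  · obtain ⟨g, s, hs2, e⟩ := conj_into_Hs X hℓ hw h
    have h8 := hbound (g := g) (C := Hs X) fun y hy => by
      rw [← cent_hs X hs2, Subgroup.mem_centralizer_singleton_iff, e]; exact commute_conj X hy
    rw [card_Hs] at h8
    have := q_mod X; omega
  · obtain ⟨g, hg⟩ := conj_into_T0 X hℓ hw h
    have ho : orderOf (g⁻¹ * w * g) = ℓ := (orderOf_conj' X g w).trans hw
    have h8 := hbound (g := g) (C := T0 X) fun y hy => by
      rw [← cent_T0 X hm hg (fun e => by rw [e, orderOf_one] at ho; exact hℓ.one_lt.ne ho) (ho ▸ h),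
        Subgroup.mem_centralizer_singleton_iff]
      exact commute_conj X hy
    rw [card_T0] at h8
    have := q_mod X; omega
  · obtain ⟨-, hdv, -⟩ := amb X hℓ h hw
    have h8 := hbound (g := 1) (C := Subgroup.centralizer {w}) fun y hy => by
      rw [inv_one, one_mul, mul_one]; exact Subgroup.mem_centralizer_singleton_iff.2 hy
    exact not_two_dvd_NN X (((show 2 ∣ 8 by norm_num).trans h8).trans hdv)

theorem sylow_trans (hm : 1 ≤ X.m) (S : Sylow 2 ↥X.G1) {a b : ↥X.G1} (ha : a ∈ S) (ha1 : a ≠ 1) (hb : b ∈ S)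
    (hb1 : b ≠ 1) : ∃ n ∈ Subgroup.normalizer ((S : Subgroup ↥X.G1) : Set ↥X.G1), n * a * n⁻¹ = b := by
  haveI : Fact (Nat.Prime 2) := ⟨Nat.prime_two⟩
  obtain ⟨-, hsq⟩ := Cfsg.Lib.GTwoOdd.ReeInv.sylow_two X S
  have ho : ∀ x ∈ (S : Subgroup ↥X.G1), x ≠ 1 → orderOf x = 2 := fun x hx h1 =>
    orderOf_eq_prime (by rw [sq]; exact hsq x hx) h1
  obtain ⟨g, hg⟩ := inv_conj X hm (ho a ha ha1)
  obtain ⟨k, hk⟩ := inv_conj X hm (ho b hb hb1)
  have hz : ∀ x ∈ (S : Subgroup ↥X.G1), x ∈ Subgroup.centralizer ((S : Subgroup ↥X.G1) : Set ↥X.G1) := fun x hx =>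
    (cent_sylow X hm S).symm ▸ hx
  have hconj : (g * k⁻¹)⁻¹ * a * (g * k⁻¹) = b := by rw [← hg, ← hk]; group
  obtain ⟨n, hn, e⟩ := S.conj_eq_normalizer_conj_of_mem_centralizer a (g * k⁻¹) (hz a ha)
    (by rw [hconj]; exact hz b hb)
  refine ⟨n⁻¹, inv_mem hn, ?_⟩
  rw [inv_inv, ← hconj, e]

theorem norm_sylow (hm : 1 ≤ X.m) (S : Sylow 2 ↥X.G1) :
    Nat.card ↥(Subgroup.normalizer ((S : Subgroup ↥X.G1) : Set ↥X.G1)) = 168 := by
  haveI : Fact (Nat.Prime 2) := ⟨Nat.prime_two⟩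
  obtain ⟨S₀, hS₀⟩ := (IsPGroup.of_card (p := 2) (n := 1) (G := ↥(Subgroup.zpowers (hv X)))
    (by rw [Nat.card_zpowers, hv_order, pow_one])).exists_le_sylow
  obtain ⟨g, rfl⟩ := MulAction.exists_smul_eq ↥X.G1 S₀ S
  have hmap : Subgroup.normalizer (((g • S₀ : Sylow 2 ↥X.G1) : Subgroup ↥X.G1) : Set ↥X.G1) =
      (Subgroup.normalizer ((S₀ : Subgroup ↥X.G1) : Set ↥X.G1)).map (MulAut.conj g).toMonoidHom := by
    rw [Sylow.coe_subgroup_smul]
    exact (Subgroup.map_equiv_normalizer_eq (S₀ : Subgroup ↥X.G1) (MulAut.conj g)).symm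
  rw [hmap, Subgroup.card_map_of_injective (MulAut.conj g).injective]
  clear hmap g
  obtain ⟨hS8, hsq⟩ := Cfsg.Lib.GTwoOdd.ReeInv.sylow_two X S₀
  set N := Subgroup.normalizer ((S₀ : Subgroup ↥X.G1) : Set ↥X.G1) with hN
  have hvS : hv X ∈ S₀ := hS₀ (Subgroup.mem_zpowers _)
  have hcomm : ∀ x ∈ (S₀ : Subgroup ↥X.G1), ∀ y ∈ (S₀ : Subgroup ↥X.G1), x * y = y * x := fun x hx y hy =>
    (Subgroup.mem_centralizer_iff.1 ((cent_sylow X hm S₀).symm ▸ hy : y ∈ Subgroup.centralizer _) x hx)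
  have hNmem : ∀ n ∈ N, ∀ x ∈ (S₀ : Subgroup ↥X.G1), n * x * n⁻¹ ∈ S₀ := fun n hn x hx =>
    (Subgroup.mem_normalizer_iff.1 hn x).1 hx
  have hT : Nat.card {x : ↥X.G1 | x ∈ S₀ ∧ x ≠ 1} = 7 := by
    rw [Nat.card_coe_set_eq, show {x : ↥X.G1 | x ∈ S₀ ∧ x ≠ 1} = ((S₀ : Subgroup ↥X.G1) : Set ↥X.G1) \ {1} by ext; simp,
      Set.ncard_diff_singleton_of_mem (S₀ : Subgroup ↥X.G1).one_mem, ← Nat.card_coe_set_eq,
      show Nat.card ↥(((S₀ : Subgroup ↥X.G1) : Set ↥X.G1)) = 8 from hS8]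
  rw [card_eq_orbit N (hv X) {x : ↥X.G1 | x ∈ S₀ ∧ x ≠ 1}
    (fun n hn => ⟨hNmem n hn _ hvS, fun e =>
      Cfsg.Lib.GTwoOdd.ReeInv.hv_ne_one X ((MulAut.conj n).injective (by simpa using e))⟩)
    (fun y hy => sylow_trans X hm S₀ hvS (Cfsg.Lib.GTwoOdd.ReeInv.hv_ne_one X) hy.1 hy.2), hT]
  suffices h : Nat.card ↥(N ⊓ Subgroup.centralizer {hv X}) = 24 by rw [h]
  -- the second coordinates
  set TA : Set ↥X.G1 := {x | x ∈ S₀ ∧ x ≠ 1 ∧ ∃ u, iota X (1, u) = x}
  have hSC : ∀ x ∈ (S₀ : Subgroup ↥X.G1), x * hv X = hv X * x := fun x hx => hcomm x hx _ hvS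
  have hTA : Nat.card TA = 3 := by
    have hS : ((S₀ : Subgroup ↥X.G1) : Set ↥X.G1) = (insert 1 TA) ∪ (hv X * ·) '' (insert 1 TA) := by
      ext x
      simp only [SetLike.mem_coe, Set.mem_union, Set.mem_image]
      constructor
      · intro hx
        obtain ⟨a, u, e⟩ := exists_iota X (hSC x hx)
        rcases z2_cases a with rfl | rfl
        · left
          by_cases h1 : x = 1
          · exact Or.inl h1
          · exact Or.inr ⟨hx, h1, u, e⟩
        · right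
          refine ⟨hv X * x, ?_, by rw [← mul_assoc, Cfsg.Lib.GTwoOdd.ReeInv.hv_sq, one_mul]⟩
          by_cases h1 : hv X * x = 1
          · exact Or.inl h1
          · refine Or.inr ⟨mul_mem hvS hx, h1, u, ?_⟩
            rw [← e, ← iota_e1, ← map_mul]
            exact congrArg (iota X) (Prod.ext (Cfsg.Lib.GTwoOdd.ReeInv.z2_sq _).symm (one_mul u).symm)
      · rintro (h | ⟨y, h, rfl⟩)
        · rcases h with rfl | h
          · exact one_mem _
          · exact h.1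
        · refine mul_mem hvS ?_
          rcases h with rfl | h
          · exact one_mem _
          · exact h.1
    have hd : Disjoint (insert 1 TA) ((hv X * ·) '' (insert 1 TA)) := by
      have hsnd : ∀ y ∈ insert 1 TA, ∃ u, iota X (1, u) = y := by
        rintro y (rfl | h)
        · exact ⟨1, map_one _⟩
        · exact h.2.2
      rw [Set.disjoint_left]
      rintro x hx ⟨y, hy, e⟩
      obtain ⟨u, rfl⟩ := hsnd x hx
      obtain ⟨v, rfl⟩ := hsnd y hy
      simp only at e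
      rw [← iota_e1, ← map_mul] at e
      exact absurd (congrArg Prod.fst (Cfsg.Lib.GTwoOdd.ReeInv.iota_inj X e))
        z2_ofAdd_one_mul_ne
    have h1 : (1 : ↥X.G1) ∉ TA := fun h => h.2.1 rfl
    have h := congrArg Set.ncard hS
    rw [Set.ncard_union_eq hd, Set.ncard_image_of_injective _ (mul_right_injective _),
      Set.ncard_insert_of_notMem h1, ← Nat.card_coe_set_eq, ← Nat.card_coe_set_eq,
      show Nat.card ↥(((S₀ : Subgroup ↥X.G1) : Set ↥X.G1)) = 8 from hS8] at h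
    omega
  obtain ⟨⟨t, htS, ht1, u, htu⟩⟩ : Nonempty TA := (Nat.card_pos_iff.1 (hTA ▸ three_pos)).1
  have hTAN : ∀ n ∈ N ⊓ Subgroup.centralizer {hv X}, n * t * n⁻¹ ∈ TA := by
    intro n hn
    obtain ⟨hn, hc⟩ := Subgroup.mem_inf.1 hn
    refine ⟨hNmem n hn t htS, fun e => ht1 ((MulAut.conj n).injective (by simpa using e)), ?_⟩
    obtain ⟨b, z, rfl⟩ := exists_iota X (Subgroup.mem_centralizer_singleton_iff.1 hc)
    refine ⟨z * u * z⁻¹, ?_⟩
    rw [← htu, ← map_inv, ← map_mul, ← map_mul]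
    exact congrArg (iota X) (Prod.ext (by simp) rfl)
  have hsurj : ∀ y ∈ TA, ∃ n ∈ N ⊓ Subgroup.centralizer {hv X}, n * t * n⁻¹ = y := by
    rintro y ⟨hyS, hy1, v, rfl⟩
    have hou : ∀ {w : PSL2K}, iota X (1, w) ∈ S₀ → iota X (1, w) ≠ 1 → orderOf w = 2 := fun {w} hw h1 => by
      rw [← orderOf_iota_one X w]; exact orderOf_eq_prime (by rw [sq]; exact hsq _ hw) h1
    obtain ⟨c, hc⟩ := involution_conj_P (hou (htu ▸ htS) (htu ▸ ht1)) (hou hyS hy1) (q_mod X)
    set k := iota X (1, c)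
    set C2 := Subgroup.centralizer {hv X} ⊓ Subgroup.centralizer {iota X (1, v)}
    have h1 : (S₀ : Subgroup ↥X.G1) ≤ C2 := fun x hx => Subgroup.mem_inf.2
      ⟨Subgroup.mem_centralizer_singleton_iff.2 (hSC x hx), Subgroup.mem_centralizer_singleton_iff.2 (hcomm x hx _ hyS)⟩
    have h2 : ((k • S₀ : Sylow 2 ↥X.G1) : Subgroup ↥X.G1) ≤ C2 := by
      rw [Sylow.coe_subgroup_smul]
      rintro _ ⟨x, hx, rfl⟩
      refine Subgroup.mem_inf.2 ⟨Subgroup.mem_centralizer_singleton_iff.2 ?_, Subgroup.mem_centralizer_singleton_iff.2 ?_⟩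
      · show k * x * k⁻¹ * hv X = hv X * (k * x * k⁻¹)
        have := commute_conj X (g := k⁻¹) (hSC x hx)
        simp only [inv_inv] at this
        rwa [iota_cent, mul_inv_cancel_right] at this
      · show k * x * k⁻¹ * iota X (1, v) = iota X (1, v) * (k * x * k⁻¹)
        have := commute_conj X (g := k⁻¹) (hcomm x hx t htS)
        simp only [inv_inv] at this
        rwa [← htu, iota_conj, hc] at this
    obtain ⟨d, hd⟩ := MulAction.exists_smul_eq ↥C2 ((k • S₀).subtype h2) (S₀.subtype h1)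
    rw [Sylow.smul_subtype] at hd
    have hd' : (d : ↥X.G1) • k • S₀ = S₀ := Sylow.subtype_injective hd
    obtain ⟨hdv, hdt⟩ := Subgroup.mem_inf.1 d.2
    rw [Subgroup.mem_centralizer_singleton_iff] at hdv hdt
    refine ⟨(d : ↥X.G1) * k, Subgroup.mem_inf.2 ⟨?_, Subgroup.mem_centralizer_singleton_iff.2 ?_⟩, ?_⟩
    · exact Sylow.smul_eq_iff_mem_normalizer.1 (by rw [mul_smul]; exact hd')
    · rw [mul_assoc, iota_cent, ← mul_assoc, hdv, mul_assoc]
    · calc (d : ↥X.G1) * k * t * ((d : ↥X.G1) * k)⁻¹ = d * (k * t * k⁻¹) * (d : ↥X.G1)⁻¹ := by group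
        _ = _ := by rw [← htu, iota_conj, hc, hdt, mul_inv_cancel_right]
  rw [card_eq_orbit _ t TA hTAN hsurj, hTA]
  suffices h : (N ⊓ Subgroup.centralizer {hv X}) ⊓ Subgroup.centralizer {t} = (S₀ : Subgroup ↥X.G1) by
    rw [h, show Nat.card ↥(S₀ : Subgroup ↥X.G1) = 8 from hS8]
  have hle : (S₀ : Subgroup ↥X.G1) ≤ (N ⊓ Subgroup.centralizer {hv X}) ⊓ Subgroup.centralizer {t} := fun x hx =>
    Subgroup.mem_inf.2 ⟨Subgroup.mem_inf.2 ⟨Subgroup.le_normalizer hx,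
      Subgroup.mem_centralizer_singleton_iff.2 (hSC x hx)⟩, Subgroup.mem_centralizer_singleton_iff.2 (hcomm x hx t htS)⟩
  refine S₀.is_maximal' ?_ hle
  refine IsPGroup.of_card
    (n := (Nat.card ↥((N ⊓ Subgroup.centralizer {hv X}) ⊓ Subgroup.centralizer {t})).primeFactorsList.length) ?_
  refine Nat.eq_prime_pow_of_unique_prime_dvd Nat.card_pos.ne' fun {ℓ} hℓ hd => ?_
  by_contra hℓ2
  haveI : Fact ℓ.Prime := ⟨hℓ⟩
  obtain ⟨⟨w, hwM⟩, hw⟩ := exists_prime_orderOf_dvd_card' ℓ hd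
  rw [← Subgroup.orderOf_coe] at hw
  obtain ⟨hw1, hwt⟩ := Subgroup.mem_inf.1 hwM
  obtain ⟨hwN, hwv⟩ := Subgroup.mem_inf.1 hw1
  rw [Subgroup.mem_centralizer_singleton_iff] at hwt hwv
  -- an element of odd order fixing a four-group in `S₀` pointwise centralizes `S₀`
  set φ : ↥X.G1 → ↥X.G1 := fun x => w * x * w⁻¹ with hφdef
  set V : Subgroup ↥X.G1 := Subgroup.closure {hv X, t}
  have hV : ∀ x ∈ V, φ x = x := by
    intro x hx
    have hxc : x ∈ Subgroup.centralizer {w} := by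
      refine (Subgroup.closure_le _).2 ?_ hx
      rintro y (rfl | rfl) <;> rw [SetLike.mem_coe, Subgroup.mem_centralizer_singleton_iff]
      · exact hwv.symm
      · exact hwt.symm
    show w * x * w⁻¹ = x
    rw [← Subgroup.mem_centralizer_singleton_iff.1 hxc, mul_inv_cancel_right]
  have hVS : V ≤ (S₀ : Subgroup ↥X.G1) := by
    rw [Subgroup.closure_le]; rintro y (rfl | rfl) <;> assumption
  have hw2 : w ^ 2 ∈ Subgroup.centralizer ((S₀ : Subgroup ↥X.G1) : Set ↥X.G1) := by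
    have hidx : (V.subgroupOf (S₀ : Subgroup ↥X.G1)).index ≤ 2 := by
      have h4 : 4 ≤ Nat.card V := by
        have hsub : ({1, hv X, t, hv X * t} : Set ↥X.G1) ⊆ (V : Set ↥X.G1) := by
          have m1 : hv X ∈ V := Subgroup.subset_closure (by simp)
          have m2 : t ∈ V := Subgroup.subset_closure (by simp)
          rintro y (rfl | rfl | rfl | rfl)
          exacts [one_mem _, m1, m2, mul_mem m1 m2]
        have hne : hv X ≠ t := by
          rw [← htu, ← iota_e1]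
          intro e
          exact absurd (iota_inj' X e).1 z2_ofAdd_one_ne
        have h := Set.ncard_le_ncard hsub
        rw [Set.ncard_insert_of_notMem, Set.ncard_insert_of_notMem, Set.ncard_pair] at h
        · exact h.trans_eq (Nat.card_coe_set_eq _).symm
        · intro e
          exact Cfsg.Lib.GTwoOdd.ReeInv.hv_ne_one X (mul_eq_right.1 e.symm)
        · simp only [Set.mem_insert_iff, Set.mem_singleton_iff, not_or]
          exact ⟨hne, fun e => ht1 (mul_eq_left.1 e.symm)⟩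
        · simp only [Set.mem_insert_iff, Set.mem_singleton_iff, not_or]
          refine ⟨Ne.symm (Cfsg.Lib.GTwoOdd.ReeInv.hv_ne_one X), Ne.symm ht1, fun e => hne ?_⟩
          exact (mul_left_cancel ((Cfsg.Lib.GTwoOdd.ReeInv.hv_sq X).trans e))
      have h := Subgroup.card_mul_index (V.subgroupOf (S₀ : Subgroup ↥X.G1))
      rw [Nat.card_congr (Subgroup.subgroupOfEquivOfLe hVS).toEquiv,
        show Nat.card ↥(S₀ : Subgroup ↥X.G1) = 8 from hS8] at h
      nlinarith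
    rw [Subgroup.mem_centralizer_iff]
    intro s hs
    -- `w` moves `s` within its coset
    have hs' := hNmem w hwN s hs
    have hv' : s * (w * s * w⁻¹) ∈ V := by
      rcases Nat.lt_or_ge (V.subgroupOf (S₀ : Subgroup ↥X.G1)).index 2 with hlt | hge
      · have h1 : (V.subgroupOf (S₀ : Subgroup ↥X.G1)).index = 1 := by
          have : (V.subgroupOf (S₀ : Subgroup ↥X.G1)).index ≠ 0 := Subgroup.index_ne_zero_of_finite
          omega
        rw [Subgroup.index_eq_one] at h1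
        exact Subgroup.mem_subgroupOf.1 (h1 ▸ Subgroup.mem_top (⟨_, mul_mem hs hs'⟩ : ↥(S₀ : Subgroup ↥X.G1)))
      · have h2 := le_antisymm hidx hge
        by_cases hsV : s ∈ V
        · rw [show w * s * w⁻¹ = s from hV s hsV]; exact mul_mem hsV hsV
        · have hnV : w * s * w⁻¹ ∉ V := fun h => hsV (by
            have e : w * (w * s * w⁻¹) * w⁻¹ = w * s * w⁻¹ := hV _ h
            rw [← show w * s * w⁻¹ = s from (MulAut.conj w).injective e]
            exact h)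
          exact Subgroup.mem_subgroupOf.1 ((Subgroup.mul_mem_iff_of_index_two h2
            (a := ⟨s, hs⟩) (b := ⟨_, hs'⟩)).2
            ⟨fun h => absurd (Subgroup.mem_subgroupOf.1 h) hsV, fun h => absurd (Subgroup.mem_subgroupOf.1 h) hnV⟩)
    have hfix : w * (w * s * w⁻¹) * w⁻¹ = s := by
      have h1 : w * s * w⁻¹ = s * (s * (w * s * w⁻¹)) := by rw [← mul_assoc, hsq s hs, one_mul]
      calc w * (w * s * w⁻¹) * w⁻¹ = (w * s * w⁻¹) * (w * (s * (w * s * w⁻¹)) * w⁻¹) := by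
            conv_lhs => rw [h1]
            group
        _ = (w * s * w⁻¹) * (s * (w * s * w⁻¹)) := by rw [show w * (s * (w * s * w⁻¹)) * w⁻¹ = _ from hV _ hv']
        _ = (w * s * w⁻¹) * ((w * s * w⁻¹) * s) := by rw [hcomm s hs _ hs']
        _ = s := by rw [← mul_assoc, hsq _ hs', one_mul]
    rw [sq]
    calc s * (w * w) = w * (w * s * w⁻¹) * w⁻¹ * (w * w) := by rw [hfix]
      _ = _ := by group
  rw [cent_sylow X hm S₀] at hw2
  have hodd : Odd ℓ := hℓ.odd_of_ne_two hℓ2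
  obtain ⟨j, hj⟩ := hodd
  have hwS : w ∈ (S₀ : Subgroup ↥X.G1) := by
    have : w = (w ^ 2) ^ (j + 1) := by
      rw [← pow_mul, show 2 * (j + 1) = orderOf w + 1 by rw [hw, hj]; ring, pow_succ, pow_orderOf_eq_one, one_mul]
    rw [this]; exact pow_mem hw2 _
  have := Nat.le_of_dvd two_pos (orderOf_dvd_of_pow_eq_one (show w ^ 2 = 1 by rw [sq]; exact hsq w hwS))
  rw [hw] at this
  have := hℓ.two_le
  omega

end Cfsg.Lib.ReeStruct
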