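import Cfsg.Agent.Known.SLTwo.Spectrum
import Cfsg.Agent.Classical.PSLTwoDihedral

/-! Centralizers in `PSL₂(q)` for `q ≡ 3 mod 8`. -/

set_option autoImplicit false
set_option linter.unusedSectionVars false

open Matrix
open scoped MatrixGroups

namespace Cfsg.Lib.ReeStruct

open Cfsg.Lib.GLTwo

variable {F : Type*} [Field F] [Fintype F]

local notation "P2" => Matrix.ProjectiveSpecialLinearGroup (Fin 2) F

theorem odd_of_mod (hq : Fintype.card F % 8 = 3) : Odd (Fintype.card F) := Nat.odd_iff.2 (by omega)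

theorem sq_eq_of_trace_zero {s : SL(2, F)} (ht : (s : Matrix (Fin 2) (Fin 2) F).trace = 0) : s * s = -1 := by
  have hd := s.2
  rw [Matrix.det_fin_two] at hd
  rw [Matrix.trace_fin_two] at ht
  apply Subtype.ext
  rw [Matrix.SpecialLinearGroup.coe_mul, Matrix.SpecialLinearGroup.coe_neg, Matrix.SpecialLinearGroup.coe_one]
  ext i j
  fin_cases i <;> fin_cases j <;> simp [Matrix.mul_apply, Fin.sum_univ_two]
  · linear_combination (s : Matrix (Fin 2) (Fin 2) F) 0 0 * ht - hd
  · linear_combination (s : Matrix (Fin 2) (Fin 2) F) 0 1 * ht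
  · linear_combination (s : Matrix (Fin 2) (Fin 2) F) 1 0 * ht
  · linear_combination (s : Matrix (Fin 2) (Fin 2) F) 1 1 * ht - hd

theorem card_cent_mul {s : SL(2, F)} {N : ℕ} (hodd : Odd (Fintype.card F))
    (h : Nat.card ↥((Subgroup.centralizer ({prj s} : Set P2)).comap prj) = N) :
    2 * Nat.card ↥(Subgroup.centralizer ({prj s} : Set P2)) = N := by
  have h1 := index_cent_prj_mul s
  rw [h, ← Cfsg.Lib.PSLTwoDihedral.card_P (Nat.odd_iff.1 hodd),
    ← Subgroup.card_mul_index (Subgroup.centralizer ({prj s} : Set P2))] at h1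
  exact (Nat.eq_of_mul_eq_mul_left (Nat.pos_of_ne_zero Subgroup.index_ne_zero_of_finite)
    (h1.trans (by ring))).symm

theorem not_scalar {s : SL(2, F)} (h : prj s ≠ 1) : NonScalar (s : Matrix (Fin 2) (Fin 2) F) := by
  by_contra hn
  exact h ((prj_eq_one_iff s).2 ((mem_center_iff_pm s).1 ((mem_center_iff s).2 hn)))

theorem card_cent_involution (hq : Fintype.card F % 8 = 3) {u : P2} (hu : orderOf u = 2) :
    Nat.card ↥(Subgroup.centralizer ({u} : Set P2)) = Fintype.card F + 1 := by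
  have hodd := odd_of_mod hq
  have h2 := two_ne_zero_of_odd (F := F) hodd
  obtain ⟨s, rfl⟩ : ∃ s, prj s = u := QuotientGroup.mk'_surjective _ u
  have hne : prj s ≠ 1 := fun e => by rw [e, orderOf_one] at hu; omega
  have hs := not_scalar hne
  have hsq : s * s = -1 := by
    have h := pow_orderOf_eq_one (prj s)
    rw [hu, sq, ← map_mul, prj_eq_one_iff] at h
    refine h.resolve_left fun h1 => hne ((prj_eq_one_iff s).2 (eq_pm_one_of_sq h2 h1))
  have ht : (s : Matrix (Fin 2) (Fin 2) F).trace = 0 := by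
    by_contra ht
    have hd := s.2
    rw [Matrix.det_fin_two] at hd
    have h' := congrArg (fun z : SL(2, F) => (z : Matrix (Fin 2) (Fin 2) F)) hsq
    simp only [Matrix.SpecialLinearGroup.coe_mul, Matrix.SpecialLinearGroup.coe_neg,
      Matrix.SpecialLinearGroup.coe_one] at h'
    have e00 := congrFun (congrFun h' 0) 0
    have e01 := congrFun (congrFun h' 0) 1
    have e10 := congrFun (congrFun h' 1) 0
    have e11 := congrFun (congrFun h' 1) 1
    simp [Matrix.mul_apply, Fin.sum_univ_two] at e00 e01 e10 e11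
    rw [Matrix.trace_fin_two] at ht
    refine hs ⟨(mul_eq_zero.1 (show ((s : Matrix (Fin 2) (Fin 2) F) 0 0 + (s : Matrix (Fin 2) (Fin 2) F) 1 1) *
        (s : Matrix (Fin 2) (Fin 2) F) 0 1 = 0 by linear_combination e01)).resolve_left ht,
      (mul_eq_zero.1 (show ((s : Matrix (Fin 2) (Fin 2) F) 0 0 + (s : Matrix (Fin 2) (Fin 2) F) 1 1) *
        (s : Matrix (Fin 2) (Fin 2) F) 1 0 = 0 by linear_combination e10)).resolve_left ht, ?_⟩
    exact sub_eq_zero.1 ((mul_eq_zero.1 (show ((s : Matrix (Fin 2) (Fin 2) F) 0 0 + (s : Matrix (Fin 2) (Fin 2) F) 1 1) *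
      ((s : Matrix (Fin 2) (Fin 2) F) 0 0 - (s : Matrix (Fin 2) (Fin 2) F) 1 1) = 0 by
        linear_combination e00 - e11)).resolve_left ht)
  have hns : ¬ IsSquare (-1 : F) := fun h => (FiniteField.isSquare_neg_one_iff.1 h) (by omega)
  have hC : Nat.card ↥(Subgroup.centralizer ({s} : Set SL(2, F))) = Fintype.card F + 1 := by
    rcases kinds hs with ⟨-, h⟩ | ⟨⟨r, r', -, e, e'⟩, -⟩ | ⟨⟨r, hr, e⟩, -⟩
    · exact h
    · exact absurd ⟨r, by rw [ht] at e; linear_combination r * e - e'⟩ hns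
    · rw [ht] at e
      exact absurd ((mul_eq_zero.1 (show (2 : F) * r = 0 by linear_combination -e)).resolve_left h2)
        (left_ne_zero_of_mul_eq_one hr)
  have := card_cent_mul hodd ((card_comap_cent_of_trace_eq h2 hs ht).trans (by rw [hC]))
  omega

theorem cent_odd_plus (hq : Fintype.card F % 8 = 3) {y : P2} (hy1 : y ≠ 1)
    (hy : orderOf y ∣ (Fintype.card F + 1) / 4) :
    IsCyclic ↥(Subgroup.centralizer ({y} : Set P2)) ∧
      2 * Nat.card ↥(Subgroup.centralizer ({y} : Set P2)) = Fintype.card F + 1 := by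
  have hodd := odd_of_mod hq
  have h2 := two_ne_zero_of_odd (F := F) hodd
  obtain ⟨p, hp⟩ := CharP.exists F
  haveI : Fact p.Prime := ⟨CharP.char_is_prime F p⟩
  obtain ⟨k, hk⟩ : ∃ k, Fintype.card F = 8 * k + 3 := ⟨Fintype.card F / 8, by omega⟩
  have hN : (Fintype.card F + 1) / 4 = 2 * k + 1 := by omega
  rw [hN] at hy
  obtain ⟨s, rfl⟩ : ∃ s, prj s = y := QuotientGroup.mk'_surjective _ y
  have hs := not_scalar hy1
  have key : ∀ M, s ^ M = 1 → Nat.Coprime M (2 * k + 1) → False := by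
    intro M hM hc
    refine hy1 (orderOf_eq_one_iff.1 (Nat.eq_one_of_dvd_coprimes hc ?_ hy))
    exact (orderOf_map_dvd prj s).trans (orderOf_dvd_of_pow_eq_one hM)
  have hpow := pow_card_cent s
  have hgcd : Nat.gcd 2 (Fintype.card F - 1) = 2 := Nat.gcd_eq_left (by omega)
  rcases kinds hs with ⟨hi, hC⟩ | ⟨-, hC⟩ | ⟨-, hC⟩
  rotate_left
  · rw [hC, hk, show 8 * k + 3 - 1 = 2 * (4 * k + 1) by omega] at hpow
    refine (key _ hpow (Nat.Coprime.mul_left ((Nat.coprime_two_left).2 (odd_two_mul_add_one k)) ?_)).elim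
    rw [show 4 * k + 1 = 2 * k + (2 * k + 1) by ring, Nat.coprime_add_self_left, Nat.coprime_self_add_right]
    exact Nat.coprime_one_right _
  · rw [hC, hgcd, hk] at hpow
    refine (key _ hpow (Nat.Coprime.mul_left ((Nat.coprime_two_left).2 (odd_two_mul_add_one k)) ?_)).elim
    rw [show 8 * k + 3 = (2 * k) * 1 + (3 * (2 * k + 1)) by ring, Nat.coprime_add_mul_right_left, mul_one,
      Nat.coprime_self_add_right]
    exact Nat.coprime_one_right _
  have ht : (s : Matrix (Fin 2) (Fin 2) F).trace ≠ 0 := fun h => by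
    refine key 4 ?_ ?_
    · rw [show (4 : ℕ) = 2 * 2 from rfl, pow_mul, sq s, sq_eq_of_trace_zero h]
      simp
    · exact (Nat.Coprime.pow_left 2 ((Nat.coprime_two_left).2 (odd_two_mul_add_one k)))
  have hcard := card_comap_cent_of_trace_ne (s := s) (.inl ht)
  refine ⟨?_, card_cent_mul hodd (hcard.trans hC)⟩
  haveI := irred_cyclic p hs hi
  have hle : Subgroup.centralizer ({s} : Set SL(2, F)) ≤ (Subgroup.centralizer ({prj s} : Set P2)).comap prj :=
    fun x hx => mem_comap_cent.2 (.inl (mul_inv_eq_iff_eq_mul.2 (Subgroup.mem_centralizer_singleton_iff.1 hx)))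
  have heq := Subgroup.eq_of_le_of_card_ge hle hcard.le
  rw [← Subgroup.map_comap_eq_self_of_surjective (f := prj) (QuotientGroup.mk'_surjective _)
    (Subgroup.centralizer ({prj s} : Set P2)), ← heq]
  exact isCyclic_of_surjective _ (prj.subgroupMap_surjective _)

theorem exists_half_plus (hq : Fintype.card F % 8 = 3) : ∃ z : P2, orderOf z = (Fintype.card F + 1) / 2 := by
  obtain ⟨p, hp⟩ := CharP.exists F
  haveI : Fact p.Prime := ⟨CharP.char_is_prime F p⟩
  have hgcd : Nat.gcd 2 (Fintype.card F - 1) = 2 := Nat.gcd_eq_left (by omega)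
  exact (psl_spectrum (F := F) p ((Fintype.card F + 1) / 2)).2 (Or.inr (Or.inr (by rw [hgcd])))

end Cfsg.Lib.ReeStruct
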