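import Cfsg.Agent.Chev.GTwoOdd.ReeS.Borel
import Cfsg.Agent.Chev.GTwoOdd.ReeS.PSLData
import Cfsg.Agent.Chev.Ree.Simple

/-! Involutions of a small Ree group and the tori in the centralizer of one of them. -/

set_option autoImplicit false
set_option linter.dupNamespace false
set_option linter.unusedSectionVars false

open Cfsg.Lie

namespace Cfsg.Lib.ReeStruct

open Cfsg.Lib.Chev
open Cfsg.Lib.Chev.Ree (Ree SG)
open Cfsg.Lib.GTwoOdd.ReeInv (hv iota centEquiv)

variable {K : Type*} [Field K] [Fintype K] (X : Ree K)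

local notation "PSL2K" => Matrix.ProjectiveSpecialLinearGroup (Fin 2) K
local notation "Z2" => Multiplicative (ZMod 2)
local notation "e1" => (Multiplicative.ofAdd (1 : ZMod 2))

theorem z2_cases : ∀ a : Z2, a = 1 ∨ a = e1 := by decide

theorem sq_one_of_order {M : Type*} [Monoid M] {x : M} (h : orderOf x = 2) : x ^ 2 = 1 :=
  h ▸ pow_orderOf_eq_one x

theorem z2_odd {a : Z2} {d : ℕ} (hd : Odd d) (h : a ^ d = 1) : a = 1 := by
  obtain ⟨j, rfl⟩ := hd
  rwa [pow_succ, pow_mul, sq, Cfsg.Lib.GTwoOdd.ReeInv.z2_sq, one_pow, one_mul] at h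

theorem iota_e1 : iota X (e1, (1 : PSL2K)) = hv X := by
  show Cfsg.Lib.GTwoOdd.ReeInv.jv X e1 * Cfsg.Lib.GTwoOdd.ReeInv.psiBar X 1 = hv X
  rw [map_one (Cfsg.Lib.GTwoOdd.ReeInv.psiBar X), mul_one, Cfsg.Lib.GTwoOdd.ReeInv.jv_one]

theorem iota_cent (p : Z2 × PSL2K) : iota X p * hv X = hv X * iota X p :=
  Subgroup.mem_centralizer_singleton_iff.1 (Cfsg.Lib.GTwoOdd.ReeInv.iota_mem X p)

theorem exists_iota {g : ↥X.G1} (h : g * hv X = hv X * g) : ∃ a y, iota X (a, y) = g := by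
  have hg : g ∈ (iota X).range := by
    rw [Cfsg.Lib.GTwoOdd.ReeInv.range_iota]; exact Subgroup.mem_centralizer_singleton_iff.2 h
  obtain ⟨⟨a, y⟩, e⟩ := hg
  exact ⟨a, y, e⟩

theorem iota_inj' {a b : Z2} {y z : PSL2K} (h : iota X (a, y) = iota X (b, z)) : a = b ∧ y = z :=
  Prod.ext_iff.1 (Cfsg.Lib.GTwoOdd.ReeInv.iota_inj X h)

theorem iota_conj (c y : PSL2K) (a : Z2) :
    iota X (1, c) * iota X (a, y) * (iota X (1, c))⁻¹ = iota X (a, c * y * c⁻¹) := by
  rw [← map_inv, ← map_mul, ← map_mul]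
  exact congrArg (iota X) (Prod.ext (by simp) rfl)

theorem iota_commute_iff {a b : Z2} {y z : PSL2K} :
    iota X (a, y) * iota X (b, z) = iota X (b, z) * iota X (a, y) ↔ y * z = z * y := by
  rw [← map_mul, ← map_mul, (Cfsg.Lib.GTwoOdd.ReeInv.iota_inj X).eq_iff, Prod.ext_iff]
  exact ⟨fun h => h.2, fun h => ⟨mul_comm a b, h⟩⟩

theorem orderOf_iota_one (y : PSL2K) : orderOf (iota X (1, y)) = orderOf y := by
  rw [orderOf_injective _ (Cfsg.Lib.GTwoOdd.ReeInv.iota_inj X), Prod.orderOf_mk, orderOf_one, Nat.lcm_one_left]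

/-- The projection of the centralizer of the involution on its central factor. -/
noncomputable def chi0 : ↥(Subgroup.centralizer {hv X}) →* Z2 :=
  (MonoidHom.fst Z2 PSL2K).comp (centEquiv X).toMonoidHom

theorem chi0_eq {a : Z2} {y : PSL2K} {g : ↥(Subgroup.centralizer {hv X})} (h : iota X (a, y) = g) : chi0 X g = a := by
  have e : centEquiv X g = (a, y) := by
    apply (centEquiv X).symm.injective
    rw [MulEquiv.symm_apply_apply]
    exact Subtype.ext h.symm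
  exact congrArg Prod.fst e

include X in
theorem q_mod : Fintype.card K % 8 = 3 := Cfsg.Lib.GTwoOdd.ReeInv.q_mod X

theorem odd_index : Odd (Subgroup.centralizer {hv X}).index := by
  rw [Cfsg.Lib.GTwoOdd.ReeInv.index_cent]
  have hq : Odd (Fintype.card K) := Nat.odd_iff.2 (by have := q_mod X; omega)
  refine hq.pow.mul ?_
  exact (Nat.Odd.sub_odd hq.pow hq : Even (Fintype.card K ^ 2 - Fintype.card K)).add_one

theorem hv_order : orderOf (hv X) = 2 :=
  orderOf_eq_prime (by rw [sq]; exact Cfsg.Lib.GTwoOdd.ReeInv.hv_sq X) (Cfsg.Lib.GTwoOdd.ReeInv.hv_ne_one X)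

theorem involution_conj_P {u v : PSL2K} (hu : orderOf u = 2) (hv' : orderOf v = 2) (hq : Fintype.card K % 8 = 3) :
    ∃ c, c * u * c⁻¹ = v :=
  isConj_iff.1 (Cfsg.Lib.PSLTwoDihedral.involution_conj (by omega) hu hv')

theorem conj_snd (hm : 1 ≤ X.m) {u : PSL2K} (hu : orderOf u = 2) :
    ∃ g, g * hv X * g⁻¹ = iota X (1, u) := by
  obtain ⟨x, hx, hχ⟩ := exists_fused (Subgroup.centralizer {hv X}) (chi0 X) (odd_index X) (X.perfect hm)
    (g := hv X) (Cfsg.Lib.GTwoOdd.ReeInv.hv_sq X)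
  obtain ⟨a, y, e⟩ := exists_iota X (Subgroup.mem_centralizer_singleton_iff.1 hx)
  obtain rfl : a = 1 := (chi0_eq X (g := ⟨_, hx⟩) e).symm.trans hχ
  have hy : orderOf y = 2 := by
    rw [← orderOf_iota_one X y, e, ← hv_order X]
    conv_lhs => rw [show x⁻¹ * hv X * x = MulAut.conj x⁻¹ (hv X) by simp]
    exact MulEquiv.orderOf_eq (MulAut.conj x⁻¹) (hv X)
  obtain ⟨c, hc⟩ := involution_conj_P hy hu (q_mod X)
  refine ⟨iota X (1, c) * x⁻¹, ?_⟩
  rw [← hc, ← iota_conj, e]; group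

theorem inv_conj (hm : 1 ≤ X.m) {s : ↥X.G1} (hs : orderOf s = 2) : ∃ g, g * hv X * g⁻¹ = s := by
  haveI : Fact (Nat.Prime 2) := ⟨Nat.prime_two⟩
  have hsd := fun (g : ↥X.G1) => (MulEquiv.orderOf_eq (MulAut.conj g) s).trans hs
  obtain ⟨g, hg⟩ := exists_conj_mem (Subgroup.centralizer {hv X}) (r := 2)
    (fun h => (Nat.not_even_iff_odd.2 (odd_index X)) (even_iff_two_dvd.2 h)) (z := s) (n := 1)
    (by rw [pow_one, ← hs]; exact pow_orderOf_eq_one s)
  suffices h : ∃ g', g' * hv X * g'⁻¹ = g⁻¹ * s * g by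
    obtain ⟨g', e⟩ := h
    exact ⟨g * g', by
      rw [show g * g' * hv X * (g * g')⁻¹ = g * (g' * hv X * g'⁻¹) * g⁻¹ by group, e]; group⟩
  obtain ⟨a, y, e⟩ := exists_iota X (Subgroup.mem_centralizer_singleton_iff.1 hg)
  have ho : orderOf (iota X (a, y)) = 2 := by
    rw [e, show g⁻¹ * s * g = MulAut.conj g⁻¹ s by simp]; exact hsd g⁻¹
  by_cases hy : y = 1
  · subst hy
    rcases z2_cases a with rfl | rfl
    · rw [show ((1 : Z2), (1 : PSL2K)) = 1 from rfl, map_one, orderOf_one] at ho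
      omega
    · exact ⟨1, by rw [← e, iota_e1]; group⟩
  have hy2 : orderOf y = 2 := by
    refine orderOf_eq_prime ?_ hy
    have h := pow_orderOf_eq_one (iota X (a, y))
    rw [ho, ← map_pow, ← map_one (iota X)] at h
    exact congrArg Prod.snd (Cfsg.Lib.GTwoOdd.ReeInv.iota_inj X h)
  rcases z2_cases a with rfl | rfl
  · rw [← e]; exact conj_snd X hm hy2
  · obtain ⟨x, hx, hχ⟩ := exists_fused (Subgroup.centralizer {hv X}) (chi0 X) (odd_index X) (X.perfect hm)
      (g := g⁻¹ * s * g) (by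
        rw [← e, ← map_mul, ← map_one (iota X)]
        refine congrArg (iota X) (Prod.ext (Cfsg.Lib.GTwoOdd.ReeInv.z2_sq _) ?_)
        show y * y = 1
        rw [← sq, sq_one_of_order hy2])
    obtain ⟨b, z, e'⟩ := exists_iota X (Subgroup.mem_centralizer_singleton_iff.1 hx)
    obtain rfl : b = 1 := (chi0_eq X (g := ⟨_, hx⟩) e').symm.trans hχ
    have hz : orderOf z = 2 := by
      rw [← orderOf_iota_one X z, e',
        show x⁻¹ * (g⁻¹ * s * g) * x = MulAut.conj (g * x)⁻¹ s by simp [mul_assoc]]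
      exact hsd _
    obtain ⟨g', hg'⟩ := conj_snd X hm hz
    exact ⟨x * g', by rw [show x * g' * hv X * (x * g')⁻¹ = x * (g' * hv X * g'⁻¹) * x⁻¹ by group, hg', e']; group⟩

/-- The odd part of `q + 1`. -/
noncomputable def nn (_ : Ree K) : ℕ := (Fintype.card K + 1) / 4

theorem nn_spec : Fintype.card K + 1 = 4 * nn X ∧ Odd (nn X) ∧ (Fintype.card K + 1) / 2 = 2 * nn X := by
  have h := q_mod X
  refine ⟨?_, Nat.odd_iff.2 ?_, ?_⟩ <;> unfold nn <;> omega

/-- A generator of a non-split torus of the second factor. -/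
noncomputable def z0 (X : Ree K) : PSL2K := Classical.choose (exists_half_plus (q_mod X))

theorem orderOf_z0 : orderOf (z0 X) = 2 * nn X :=
  (Classical.choose_spec (exists_half_plus (q_mod X))).trans (nn_spec X).2.2

/-- The involution of the torus. -/
noncomputable def u0 : PSL2K := z0 X ^ nn X

/-- The odd generator. -/
noncomputable def y0 : PSL2K := z0 X ^ 2

theorem nn_pos : 0 < nn X := (nn_spec X).2.1.pos

theorem orderOf_u0 : orderOf (u0 X) = 2 := by
  rw [u0, orderOf_pow, orderOf_z0, Nat.gcd_mul_left_left, Nat.mul_div_cancel _ (nn_pos X)]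

theorem orderOf_y0 : orderOf (y0 X) = nn X := by
  rw [y0, orderOf_pow, orderOf_z0, Nat.gcd_mul_right_left, Nat.mul_div_cancel_left _ two_pos]

theorem eq_u0 {y : PSL2K} (hy : y ∈ Subgroup.zpowers (z0 X)) (h : orderOf y = 2) : y = u0 X := by
  have he : Subgroup.zpowers y = Subgroup.zpowers (u0 X) :=
    eq_of_card_eq (A := Subgroup.zpowers (z0 X)) (Subgroup.zpowers_le.2 hy)
      (Subgroup.zpowers_le.2 (Subgroup.pow_mem _ (Subgroup.mem_zpowers _) _))
      (by rw [Nat.card_zpowers, Nat.card_zpowers, h, orderOf_u0])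
  obtain ⟨k, hk⟩ := he ▸ Subgroup.mem_zpowers y
  simp only at hk
  rcases Int.even_or_odd k with ⟨j, rfl⟩ | ⟨j, rfl⟩
  · exfalso
    have : y = 1 := by
      rw [← hk, zpow_add, ← (Commute.refl (u0 X)).mul_zpow, ← sq, sq_one_of_order (orderOf_u0 X), one_zpow]
    rw [this, orderOf_one] at h
    omega
  · rw [← hk, zpow_add, zpow_one, zpow_mul, zpow_two, ← sq, sq_one_of_order (orderOf_u0 X), one_zpow, one_mul]

/-- The torus of order `q + 1`. -/
noncomputable def T0 : Subgroup ↥X.G1 := ((⊤ : Subgroup Z2).prod (Subgroup.zpowers (z0 X))).map (iota X)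

/-- The second involution of the torus. -/
noncomputable def w0 : ↥X.G1 := iota X (1, u0 X)

theorem mem_T0 {g : ↥X.G1} : g ∈ T0 X ↔ ∃ a y, y ∈ Subgroup.zpowers (z0 X) ∧ iota X (a, y) = g := by
  rw [T0, Subgroup.mem_map]
  constructor
  · rintro ⟨⟨a, y⟩, h, e⟩; exact ⟨a, y, h.2, e⟩
  · rintro ⟨a, y, h, e⟩; exact ⟨(a, y), ⟨trivial, h⟩, e⟩

theorem hv_mem_T0 : hv X ∈ T0 X := (mem_T0 X).2 ⟨e1, 1, one_mem _, iota_e1 X⟩

theorem w0_mem_T0 : w0 X ∈ T0 X := (mem_T0 X).2 ⟨1, _, Subgroup.pow_mem _ (Subgroup.mem_zpowers _) _, rfl⟩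

theorem card_T0 : Nat.card (T0 X) = Fintype.card K + 1 := by
  rw [T0, Subgroup.card_map_of_injective (Cfsg.Lib.GTwoOdd.ReeInv.iota_inj X),
    Nat.card_congr (Subgroup.prodEquiv _ _).toEquiv, Nat.card_prod, Subgroup.card_top, Nat.card_zpowers,
    orderOf_z0, (nn_spec X).1]
  simp
  ring

theorem T0_le : T0 X ≤ Subgroup.centralizer {hv X} := by
  intro g hg
  obtain ⟨a, y, -, rfl⟩ := (mem_T0 X).1 hg
  exact Cfsg.Lib.GTwoOdd.ReeInv.iota_mem X _

theorem T0_comm {g h : ↥X.G1} (hg : g ∈ T0 X) (hh : h ∈ T0 X) : g * h = h * g := by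
  obtain ⟨a, y, hy, rfl⟩ := (mem_T0 X).1 hg
  obtain ⟨b, z, hz, rfl⟩ := (mem_T0 X).1 hh
  rw [iota_commute_iff]
  obtain ⟨i, rfl⟩ := hy
  obtain ⟨j, rfl⟩ := hz
  exact zpow_mul_comm _ i j

theorem T0_pow {g : ↥X.G1} (hg : g ∈ T0 X) : g ^ (2 * nn X) = 1 := by
  obtain ⟨a, y, hy, rfl⟩ := (mem_T0 X).1 hg
  rw [← map_pow, ← map_one (iota X)]
  refine congrArg (iota X) (Prod.ext ?_ ?_)
  · show a ^ (2 * nn X) = 1
    rw [pow_mul, sq, Cfsg.Lib.GTwoOdd.ReeInv.z2_sq, one_pow]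
  · show y ^ (2 * nn X) = 1
    rw [← orderOf_z0 X]
    exact orderOf_dvd_iff_pow_eq_one.1 (orderOf_dvd_of_mem_zpowers hy)

theorem T0_involutions {g : ↥X.G1} (hg : g ∈ T0 X) (h : g * g = 1) :
    g = 1 ∨ g = hv X ∨ g = w0 X ∨ g = hv X * w0 X := by
  obtain ⟨a, y, hy, rfl⟩ := (mem_T0 X).1 hg
  rw [← map_mul, ← map_one (iota X)] at h
  have hyy : y * y = 1 := congrArg Prod.snd (Cfsg.Lib.GTwoOdd.ReeInv.iota_inj X h)
  have hu : y = 1 ∨ y = u0 X :=
    (em (y = 1)).imp id fun hy1 => eq_u0 X hy (orderOf_eq_prime (by rw [sq]; exact hyy) hy1)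
  rw [w0, ← iota_e1, ← map_mul]
  rcases z2_cases a with rfl | rfl <;> rcases hu with rfl | rfl
  · exact Or.inl (map_one _)
  · exact Or.inr (Or.inr (Or.inl rfl))
  · exact Or.inr (Or.inl rfl)
  · exact Or.inr (Or.inr (Or.inr (by simp)))

theorem cent_zpowers {y : PSL2K} (hy : y ∈ Subgroup.zpowers (z0 X)) (hy1 : y ≠ 1) (hd : orderOf y ∣ nn X) :
    Subgroup.centralizer {y} = Subgroup.zpowers (z0 X) := by
  refine (Subgroup.eq_of_le_of_card_ge ?_ ?_).symm
  · rw [Subgroup.zpowers_le, Subgroup.mem_centralizer_singleton_iff]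
    obtain ⟨i, rfl⟩ := hy
    exact ((Commute.refl (z0 X)).zpow_right i).eq
  · have h := (cent_odd_plus (q_mod X) hy1 hd).2
    rw [Nat.card_zpowers, orderOf_z0]
    have := (nn_spec X).1
    omega

/-- An element of odd order dividing `q + 1` commuting with the involution lies in a conjugate of the torus. -/
theorem exists_conj_T0 {x : ↥X.G1} (hx : x * hv X = hv X * x) (hx1 : x ≠ 1) (hd : orderOf x ∣ nn X) :
    ∃ c, c * hv X = hv X * c ∧ c * x * c⁻¹ ∈ T0 X := by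
  have hodd : Odd (orderOf x) := (nn_spec X).2.1.of_dvd_nat hd
  obtain ⟨a, y, rfl⟩ := exists_iota X hx
  obtain rfl : a = 1 := z2_odd hodd (by
    have h := pow_orderOf_eq_one (iota X (a, y))
    rw [← map_pow, ← map_one (iota X)] at h
    exact congrArg Prod.fst (Cfsg.Lib.GTwoOdd.ReeInv.iota_inj X h))
  rw [orderOf_iota_one] at hd hodd
  have hy1 : y ≠ 1 := fun h => hx1 (by rw [h]; exact map_one _)
  obtain ⟨-, hc2⟩ := cent_odd_plus (q_mod X) hy1 hd
  have h2 : 2 ∣ Nat.card ↥(Subgroup.centralizer ({y} : Set PSL2K)) := by have := (nn_spec X).1; omega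
  haveI : Fact (Nat.Prime 2) := ⟨Nat.prime_two⟩
  obtain ⟨⟨u, hu⟩, hu2⟩ := exists_prime_orderOf_dvd_card' 2 h2
  rw [← Subgroup.orderOf_coe] at hu2
  obtain ⟨c, hc⟩ := involution_conj_P hu2 (orderOf_u0 X) (q_mod X)
  refine ⟨iota X (1, c), iota_cent X _, ?_⟩
  rw [iota_conj, mem_T0]
  refine ⟨1, c * y * c⁻¹, ?_, rfl⟩
  set y' := c * y * c⁻¹
  have hy'u : y' * u0 X = u0 X * y' := by
    rw [← hc]
    have e := Subgroup.mem_centralizer_singleton_iff.1 hu
    calc c * y * c⁻¹ * (c * u * c⁻¹) = c * (y * u) * c⁻¹ := by group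
      _ = c * (u * y) * c⁻¹ := by rw [e]
      _ = _ := by simp only [y']; group
  have hy'C : y' ∈ Subgroup.centralizer {u0 X} := Subgroup.mem_centralizer_singleton_iff.2 hy'u
  have hle : Subgroup.zpowers (z0 X) ≤ Subgroup.centralizer {u0 X} := by
    rw [Subgroup.zpowers_le, Subgroup.mem_centralizer_singleton_iff]
    exact ((Commute.refl (z0 X)).pow_right _).eq
  have hindex : ((Subgroup.zpowers (z0 X)).subgroupOf (Subgroup.centralizer {u0 X})).index = 2 := by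
    have h := Subgroup.card_mul_index ((Subgroup.zpowers (z0 X)).subgroupOf (Subgroup.centralizer {u0 X}))
    rw [Nat.card_congr (Subgroup.subgroupOfEquivOfLe hle).toEquiv, Nat.card_zpowers, orderOf_z0,
      card_cent_involution (q_mod X) (orderOf_u0 X), (nn_spec X).1] at h
    exact Nat.eq_of_mul_eq_mul_left (show 0 < 2 * nn X by have := nn_pos X; omega) (h.trans (by ring))
  have hsq : y' * y' ∈ Subgroup.zpowers (z0 X) :=
    Subgroup.mem_subgroupOf.1 (Subgroup.mul_self_mem_of_index_two hindex ⟨y', hy'C⟩)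
  obtain ⟨j, hj⟩ : Odd (orderOf y') := by
    rw [show y' = MulAut.conj c y from rfl, MulEquiv.orderOf_eq]; exact hodd
  have : (y' * y') ^ (j + 1) = y' := by
    rw [← sq, ← pow_mul, show 2 * (j + 1) = orderOf y' + 1 by omega, pow_succ, pow_orderOf_eq_one, one_mul]
  rw [← this]
  exact pow_mem hsq _

theorem cent_inf {x : ↥X.G1} (hx : x ∈ T0 X) (hx1 : x ≠ 1) (hd : orderOf x ∣ nn X) {g : ↥X.G1}
    (hg : g * hv X = hv X * g) (hgx : g * x = x * g) : g ∈ T0 X := by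
  have hodd : Odd (orderOf x) := (nn_spec X).2.1.of_dvd_nat hd
  obtain ⟨a, y, hy, rfl⟩ := (mem_T0 X).1 hx
  obtain rfl : a = 1 := z2_odd hodd (by
    have h := pow_orderOf_eq_one (iota X (a, y))
    rw [← map_pow, ← map_one (iota X)] at h
    exact congrArg Prod.fst (Cfsg.Lib.GTwoOdd.ReeInv.iota_inj X h))
  obtain ⟨b, z, rfl⟩ := exists_iota X hg
  rw [iota_commute_iff] at hgx
  rw [orderOf_iota_one] at hd
  refine (mem_T0 X).2 ⟨b, z, ?_, rfl⟩
  rw [← cent_zpowers X hy (fun h => hx1 (by rw [h]; exact map_one _)) hd, Subgroup.mem_centralizer_singleton_iff]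
  exact hgx

end Cfsg.Lib.ReeStruct
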