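import Cfsg.Agent.Chev.GTwoOdd.ReeS.MultThree

/-! The multiplier of a small Ree group is trivial. -/

set_option autoImplicit false
set_option linter.dupNamespace false
set_option linter.unusedSectionVars false

open Cfsg.Lie
open scoped commutatorElement

namespace Cfsg.Lib.ReeStruct

open Cfsg.Lib.Chev
open Cfsg.Lib.Chev.Ree (Ree SG)
open Cfsg.Lib.GTwoOdd.ReeInv (hv iota)

/-- An elementary abelian group of order eight on which an element of order seven acts: the three generators. -/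
theorem exists_orbit_basis {Q : Type*} [Group Q] [Finite Q] (S : Subgroup Q) (h8 : Nat.card S = 8)
    (hsq : ∀ x ∈ S, x * x = 1) (hcent : Subgroup.centralizer (S : Set Q) = S) (g : Q) (hg7 : orderOf g = 7)
    (hgS : ∀ x ∈ S, g * x * g⁻¹ ∈ S) :
    ∃ a b c : Q, g * a * g⁻¹ = b ∧ g * b * g⁻¹ = c ∧ (g * c * g⁻¹ = a * b ∨ g * c * g⁻¹ = a * c) ∧
      S ≤ Subgroup.closure {a, b, c} ∧ a * b = b * a ∧ a * c = c * a ∧ b * c = c * b := by
  classical
  haveI : Fact (Nat.Prime 7) := ⟨by norm_num⟩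
  have hcomm : ∀ x ∈ S, ∀ y ∈ S, x * y = y * x := fun x hx y hy =>
    Subgroup.mem_centralizer_iff.1 (hcent.symm ▸ hy : y ∈ Subgroup.centralizer (S : Set Q)) x hx
  obtain ⟨a, haS, hab⟩ : ∃ a ∈ S, g * a * g⁻¹ ≠ a := by
    by_contra hno
    push Not at hno
    have h : g ∈ S := by
      rw [← hcent, Subgroup.mem_centralizer_iff]
      exact fun x hx => (mul_inv_eq_iff_eq_mul.1 (hno x hx)).symm
    have h7 : orderOf g ∣ 2 := orderOf_dvd_of_pow_eq_one (by rw [sq]; exact hsq g h)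
    rw [hg7] at h7
    omega
  have key : ∀ k, 0 < k → k < 7 → ∀ x, g ^ k * x * (g ^ k)⁻¹ = x → g * x * g⁻¹ = x := by
    intro k h0 h7 x hx
    obtain ⟨m, hm⟩ := exists_pow_eq_self_of_coprime (x := g) (n := k) (by
      rw [hg7]
      exact Nat.Coprime.symm ((Nat.Prime.coprime_iff_not_dvd (by norm_num)).2
        (fun hd => absurd (Nat.le_of_dvd h0 hd) (by omega))))
    have hc : Commute (g ^ k) x := mul_inv_eq_iff_eq_mul.1 hx
    have hc' := hc.pow_left m
    rw [hm] at hc'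
    rw [hc'.eq, mul_inv_cancel_right]
  set b := g * a * g⁻¹ with hbdef
  set c := g * b * g⁻¹ with hcdef
  set e := g * c * g⁻¹ with hedef
  have hbS : b ∈ S := hgS a haS
  have hcS : c ∈ S := hgS b hbS
  have heS : e ∈ S := hgS c hcS
  have ha1 : a ≠ 1 := fun h => hab (by rw [hbdef, h, mul_one, mul_inv_cancel])
  have inj : ∀ x y : Q, g * x * g⁻¹ = g * y * g⁻¹ → x = y := fun x y h => (MulAut.conj g).injective h
  have hb1 : b ≠ 1 := fun h => ha1 (inj a 1 (by rw [mul_one, mul_inv_cancel]; exact h))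
  have hc1 : c ≠ 1 := fun h => hb1 (inj b 1 (by rw [mul_one, mul_inv_cancel]; exact h))
  have hcb : c ≠ b := fun h => hab (inj b a (by rw [← hcdef, ← hbdef]; exact h))
  have hca : c ≠ a := fun h => hab (key 2 (by omega) (by omega) a (by
    calc g ^ 2 * a * (g ^ 2)⁻¹ = g * (g * a * g⁻¹) * g⁻¹ := by simp [pow_succ, mul_assoc]
      _ = a := h))
  have hk3 : e ≠ a := fun h => hab (key 3 (by omega) (by omega) a (by
    calc g ^ 3 * a * (g ^ 3)⁻¹ = g * (g * (g * a * g⁻¹) * g⁻¹) * g⁻¹ := by simp [pow_succ, mul_assoc]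
      _ = a := h))
  have hmul : ∀ x y : Q, g * (x * y) * g⁻¹ = (g * x * g⁻¹) * (g * y * g⁻¹) := fun x y => by group
  have hab' : a ≠ b := Ne.symm hab
  have hcab : c ≠ a * b := fun h => hk3 (by
    have h' : e = b * c := by rw [hedef, h, hmul, ← hcdef, ← hbdef]; rw [h]
    rw [h', h, hcomm a haS b hbS, ← mul_assoc, hsq b hbS, one_mul])
  -- the eight elements
  set s4 : Set Q := {1, a, b, a * b} with hs4
  have hs4S : s4 ⊆ (S : Set Q) := by
    rintro x (rfl | rfl | rfl | rfl)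
    exacts [one_mem S, haS, hbS, mul_mem haS hbS]
  have hs4n : s4.ncard = 4 := by
    rw [hs4, Set.ncard_insert_of_notMem, Set.ncard_insert_of_notMem, Set.ncard_pair]
    · exact fun h => ha1 (mul_eq_right.1 h.symm)
    · simp only [Set.mem_insert_iff, Set.mem_singleton_iff, not_or]
      exact ⟨hab', fun h => hb1 (mul_eq_left.1 h.symm)⟩
    · simp only [Set.mem_insert_iff, Set.mem_singleton_iff, not_or]
      exact ⟨ha1.symm, hb1.symm, fun h => hab' ((mul_left_cancel ((hsq a haS).trans h)))⟩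
  have hs4c : ∀ x ∈ s4, ∀ y ∈ s4, x * y ∈ s4 := by
    have e1 := hsq a haS
    have e2 := hsq b hbS
    have e3 : b * a = a * b := hcomm b hbS a haS
    have e4 : a * (a * b) = b := by rw [← mul_assoc, e1, one_mul]
    have e5 : a * b * a = b := by rw [mul_assoc, e3, e4]
    have e6 : a * b * b = a := by rw [mul_assoc, e2, mul_one]
    have e7 : b * (a * b) = a := by rw [← mul_assoc, e3, e6]
    have e8 : a * b * (a * b) = 1 := by rw [mul_assoc, e7, e1]
    rintro x (rfl | rfl | rfl | rfl) y (rfl | rfl | rfl | rfl) <;>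
      simp [hs4, e1, e2, e3, e4, e5, e6, e7, e8]
  have hdisj : Disjoint s4 ((c * ·) '' s4) := by
    rw [Set.disjoint_left]
    rintro x hx ⟨y, hy, rfl⟩
    have h : c = c * y * y := by rw [mul_assoc, hsq y (hs4S hy), mul_one]
    have : c ∈ s4 := h ▸ hs4c _ hx _ hy
    rcases this with h' | h' | h' | h'
    exacts [hc1 h', hca h', hcb h', hcab h']
  have hsub : s4 ∪ (c * ·) '' s4 ⊆ (S : Set Q) := by
    rintro x (h | ⟨y, hy, rfl⟩)
    exacts [hs4S h, mul_mem hcS (hs4S hy)]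
  have hS : s4 ∪ (c * ·) '' s4 = (S : Set Q) := by
    refine Set.eq_of_subset_of_ncard_le hsub ?_
    rw [Set.ncard_union_eq hdisj, Set.ncard_image_of_injective _ (mul_right_injective c), hs4n,
      ← Nat.card_coe_set_eq]
    exact le_of_eq h8
  have he1 : e ≠ 1 := fun h => hc1 (inj c 1 (by rw [mul_one, mul_inv_cancel]; exact h))
  have heb : e ≠ b := fun h => hca (inj c a (by rw [← hedef, ← hbdef]; exact h))
  have hec : e ≠ c := fun h => hcb (inj c b (by rw [← hedef, ← hcdef]; exact h))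
  have hkey : e = a * b ∨ e = a * c := by
    have hmem : e ∈ s4 ∪ (c * ·) '' s4 := hS.symm ▸ heS
    rcases hmem with h | ⟨y, hy, h⟩
    · rcases h with h | h | h | h
      exacts [absurd h he1, absurd h hk3, absurd h heb, Or.inl h]
    · change c * y = e at h
      rcases hy with hy | hy | hy | hy <;> rw [hy] at h
      · exact absurd (h.symm.trans (mul_one c)) hec
      · exact Or.inr (h.symm.trans (hcomm c hcS a haS))
      · refine absurd (inj c (a * b) ?_) hcab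
        rw [← hedef, ← h, hmul, ← hbdef, ← hcdef, hcomm c hcS b hbS]
      · exfalso
        refine hab (key 4 (by omega) (by omega) a ?_)
        have h2 : g * e * g⁻¹ = e * (b * c) := by
          conv_lhs => rw [← h]
          rw [hmul, ← hedef, hmul, ← hbdef, ← hcdef]
        calc g ^ 4 * a * (g ^ 4)⁻¹ = g * (g * (g * (g * a * g⁻¹) * g⁻¹) * g⁻¹) * g⁻¹ := by simp [pow_succ, mul_assoc]
          _ = g * e * g⁻¹ := rfl
          _ = c * (a * b) * (b * c) := by rw [h2, ← h]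
          _ = c * a * (b * b) * c := by group
          _ = a := by rw [hsq b hbS, mul_one, hcomm c hcS a haS, mul_assoc, hsq c hcS, mul_one]
  refine ⟨a, b, c, rfl, rfl, hkey, ?_, hcomm a haS b hbS, hcomm a haS c hcS, hcomm b hbS c hcS⟩
  intro x hx
  have ma : a ∈ Subgroup.closure ({a, b, c} : Set Q) := Subgroup.subset_closure (by simp)
  have mb : b ∈ Subgroup.closure ({a, b, c} : Set Q) := Subgroup.subset_closure (by simp)
  have mc : c ∈ Subgroup.closure ({a, b, c} : Set Q) := Subgroup.subset_closure (by simp)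
  have m4 : ∀ y ∈ s4, y ∈ Subgroup.closure ({a, b, c} : Set Q) := by
    rintro y (rfl | rfl | rfl | rfl)
    exacts [one_mem _, ma, mb, mul_mem ma mb]
  have hx' : x ∈ s4 ∪ (c * ·) '' s4 := hS.symm ▸ hx
  rcases hx' with h | ⟨y, hy, rfl⟩
  exacts [m4 x h, mul_mem mc (m4 y hy)]

variable {K : Type*} [Field K] [Fintype K] (X : Ree K)

theorem exists_sylow_two_trivial (hm : 1 ≤ X.m) {Γ : Type*} [Group Γ] [Finite Γ] {σ : Γ →* ↥X.G1}
    (hσ : Cfsg.IsStemExtension σ) [Fact (Nat.Prime 2)] :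
    ∃ S : Sylow 2 Γ, ∀ z ∈ σ.ker, z ∈ ⁅(S : Subgroup Γ), (S : Subgroup Γ)⁆ → z = 1 := by
  obtain ⟨P⟩ : Nonempty (Sylow 2 ↥X.G1) := inferInstance
  obtain ⟨h8, hsq⟩ := Cfsg.Lib.GTwoOdd.ReeInv.sylow_two X P
  set N := Subgroup.normalizer ((P : Subgroup ↥X.G1) : Set ↥X.G1) with hN
  haveI : Fact (Nat.Prime 7) := ⟨by norm_num⟩
  obtain ⟨⟨g, hgN⟩, hg⟩ := exists_prime_orderOf_dvd_card' (G := N) 7 (by rw [norm_sylow X hm P]; norm_num)
  replace hg : orderOf g = 7 := (Subgroup.orderOf_mk g hgN).symm.trans hg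
  obtain ⟨a, b, c, hab, hbc, hce, hle, c1, c2, c3⟩ := exists_orbit_basis (P : Subgroup ↥X.G1) h8 hsq
    (cent_sylow X hm P) g hg (fun x hx => (Subgroup.mem_normalizer_iff.1 hgN x).1 hx)
  obtain ⟨S, hS⟩ := Cfsg.Lib.Schur.exists_sylow_map_le hσ.1 (P : Subgroup ↥X.G1) P.card_eq_multiplicity
  refine ⟨S, fun z _ hzS => ?_⟩
  obtain ⟨A, rfl⟩ := hσ.1 a
  obtain ⟨G, rfl⟩ := hσ.1 g
  have hcen : ∀ w, σ w = 1 → ∀ g, g * w = w * g := fun w hw => Subgroup.mem_center_iff.mp (hσ.2.1 hw)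
  set B := G * A * G⁻¹ with hB
  set C := G * B * G⁻¹ with hCdef
  set E := G * C * G⁻¹ with hE
  have sB : σ B = b := by rw [hB, map_mul, map_mul, map_inv, hab]
  have sC : σ C = c := by rw [hCdef, map_mul, map_mul, map_inv, sB, hbc]
  have cg := @Cfsg.Lib.Schur.comm_congr Γ _ ↥X.G1 _ σ hσ.2.1
  have k1 : σ ⁅A, B⁆ = 1 := by rw [map_commutatorElement, sB]; exact commutatorElement_eq_one_iff_mul_comm.2 c1
  have k2 : σ ⁅A, C⁆ = 1 := by rw [map_commutatorElement, sC]; exact commutatorElement_eq_one_iff_mul_comm.2 c2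
  have k3 : σ ⁅B, C⁆ = 1 := by rw [map_commutatorElement, sB, sC]; exact commutatorElement_eq_one_iff_mul_comm.2 c3
  have hconjc : ∀ x y : Γ, σ ⁅x, y⁆ = 1 → ⁅G * x * G⁻¹, G * y * G⁻¹⁆ = ⁅x, y⁆ := fun x y h => by
    rw [show ⁅G * x * G⁻¹, G * y * G⁻¹⁆ = G * ⁅x, y⁆ * G⁻¹ by simp only [commutatorElement_def]; group, hcen _ h,
      mul_inv_cancel_right]
  have hBC : ⁅B, C⁆ = ⁅A, B⁆ := hconjc A B k1
  have hCE : ⁅C, E⁆ = ⁅A, B⁆ := (hconjc B C k3).trans hBC
  have hBE : ⁅B, E⁆ = ⁅A, C⁆ := hconjc A C k2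
  have split : ∀ x y z : Γ, σ ⁅x, z⁆ = 1 → ⁅x, y * z⁆ = ⁅x, y⁆ * ⁅x, z⁆ := fun x y z h => by
    rw [show ⁅x, y * z⁆ = ⁅x, y⁆ * (y * ⁅x, z⁆ * y⁻¹) by simp only [commutatorElement_def]; group, hcen _ h,
      mul_inv_cancel_right]
  have inv' : ∀ x y : Γ, ⁅y, x⁆ = ⁅x, y⁆⁻¹ := fun x y => (commutatorElement_inv x y).symm
  have hboth : ⁅A, B⁆ = 1 ∧ ⁅A, C⁆ = 1 := by
    rcases hce with h | h
    · have e : ∀ x, ⁅x, E⁆ = ⁅x, A * B⁆ := fun x => cg rfl (by rw [hE, map_mul, map_mul, map_inv, sC, h, map_mul, sB])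
      rw [e, split C A B (by rw [inv', map_inv, k3, inv_one]), inv' A C, inv' B C, hBC] at hCE
      rw [e, split B A B (by rw [commutatorElement_self, map_one]), commutatorElement_self, mul_one, inv' A B] at hBE
      rw [← hBE, inv_inv, mul_inv_cancel] at hCE
      exact ⟨hCE.symm, by rw [← hBE, ← hCE, inv_one]⟩
    · have e : ∀ x, ⁅x, E⁆ = ⁅x, A * C⁆ := fun x => cg rfl (by rw [hE, map_mul, map_mul, map_inv, sC, h, map_mul, sC])
      rw [e, split C A C (by rw [commutatorElement_self, map_one]), commutatorElement_self, mul_one, inv' A C] at hCE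
      rw [e, split B A C k3, inv' A B, hBC, inv_mul_cancel] at hBE
      exact ⟨by rw [← hCE, ← hBE, inv_one], hBE.symm⟩
  refine Cfsg.Lib.Schur.eq_one_of_commuting hσ.2.1 (T := {A, B, C}) ?_ ?_ hzS
  · rw [Set.image_insert_eq, Set.image_pair, sB, sC]
    exact hS.trans hle
  · have h1 : A * B = B * A := commutatorElement_eq_one_iff_mul_comm.1 hboth.1
    have h2 : A * C = C * A := commutatorElement_eq_one_iff_mul_comm.1 hboth.2
    have h3 : B * C = C * B := commutatorElement_eq_one_iff_mul_comm.1 (hBC.trans hboth.1)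
    rintro t (rfl | rfl | rfl) u (rfl | rfl | rfl)
    exacts [rfl, h1, h2, h1.symm, rfl, h3, h2.symm, h3.symm, rfl]

theorem Ref.sylow_cyclic {X : Ree K} {R C : Subgroup ↥X.G1} {n c : ℕ} (h : Ref X R C n c) (hc : c ∣ 4 * n)
    {p : ℕ} [hp : Fact p.Prime] (hp2 : p ≠ 2) {x : ↥X.G1} (hx : orderOf x = p) (hd : p ∣ n)
    (P : Subgroup ↥X.G1) (hP : IsPGroup p P) (hcomm : ∀ y ∈ P, y * x = x * y) : IsCyclic P := by
  obtain ⟨g, hg⟩ := h.conj x (hx ▸ hp.out.one_lt) (hx ▸ hd)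
  have hz := h.cent _ hg (fun e => hp.out.ne_one (by rw [← hx, ← orderOf_conj' X g x, e, orderOf_one]))
  have hle : P ≤ R.map (MulAut.conj g).toMonoidHom := by
    intro y hy
    refine ⟨g⁻¹ * y * g, h.mem _ ?_ ?_, by show g * (g⁻¹ * y * g) * g⁻¹ = y; group⟩
    · rw [← hz, Subgroup.mem_centralizer_singleton_iff]; exact commute_conj X (hcomm y hy)
    · have hC : g⁻¹ * y * g ∈ C := by
        rw [← hz, Subgroup.mem_centralizer_singleton_iff]; exact commute_conj X (hcomm y hy)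
      have h1 := Subgroup.orderOf_dvd_natCard _ hC
      rw [h.cardC, orderOf_conj'] at h1
      rw [orderOf_conj']
      obtain ⟨k, hk⟩ := IsPGroup.iff_orderOf.1 hP ⟨y, hy⟩
      replace hk : orderOf y = p ^ k := (Subgroup.orderOf_mk y hy).symm.trans hk
      rw [hk] at h1 ⊢
      refine (Nat.Coprime.pow_left k ?_).dvd_of_dvd_mul_left (h1.trans hc)
      exact (Nat.Coprime.pow_right 2 ((Nat.coprime_primes hp.out Nat.prime_two).2 hp2) : Nat.Coprime p (2 ^ 2))
  haveI := h.cyc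
  haveI : IsCyclic ↥(R.map (MulAut.conj g).toMonoidHom) :=
    isCyclic_of_surjective _ (MulEquiv.subgroupMap (MulAut.conj g) R).surjective
  exact isCyclic_of_injective (Subgroup.inclusion hle) (Subgroup.inclusion_injective hle)

theorem sylow_cyclic (hm : 1 ≤ X.m) {p : ℕ} [hp : Fact p.Prime] (hp2 : p ≠ 2) (hp3 : p ≠ 3)
    (P : Sylow p ↥X.G1) : IsCyclic P := by
  by_cases hd : p ∣ Nat.card ↥X.G1
  swap
  · haveI : Subsingleton ↥(P : Subgroup ↥X.G1) := by
      rw [← not_nontrivial_iff_subsingleton]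
      intro hne
      obtain ⟨k, hk, hk'⟩ := P.isPGroup'.nontrivial_iff_card.1 hne
      exact hd ((dvd_pow_self p hk.ne').trans (hk' ▸ Subgroup.card_subgroup_dvd_card _))
    exact isCyclic_of_subsingleton
  haveI : Nontrivial ↥(P : Subgroup ↥X.G1) := by
    rw [Subgroup.nontrivial_iff_ne_bot]
    exact P.ne_bot_of_dvd_card hd
  have hcn : Nontrivial ↥(Subgroup.center ↥(P : Subgroup ↥X.G1)) := P.isPGroup'.center_nontrivial
  obtain ⟨k, hk0, hk⟩ := (P.isPGroup'.to_subgroup (Subgroup.center ↥(P : Subgroup ↥X.G1))).nontrivial_iff_card.1 hcn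
  obtain ⟨⟨⟨x, hxP⟩, hxc⟩, hx⟩ := exists_prime_orderOf_dvd_card' (G := Subgroup.center ↥(P : Subgroup ↥X.G1)) p
    (by rw [hk]; exact dvd_pow_self p hk0.ne')
  rw [← Subgroup.orderOf_coe, ← Subgroup.orderOf_coe] at hx
  replace hx : orderOf x = p := hx
  have hcomm : ∀ y ∈ (P : Subgroup ↥X.G1), y * x = x * y := fun y hy =>
    congrArg Subtype.val (Subgroup.mem_center_iff.1 hxc ⟨y, hy⟩)
  obtain ⟨A, B, hA, hB, rA, rB⟩ := ref_tor X hm
  obtain ⟨k', hk', hn, hh⟩ := q_param X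
  rcases prime_cases X hp.out hd with rfl | rfl | h | h | h
  · exact absurd rfl hp2
  · exact absurd rfl hp3
  · exact (ref_Hs X).sylow_cyclic ⟨2, by omega⟩ hp2 hx h _ P.isPGroup' hcomm
  · exact (ref_T0 X hm).sylow_cyclic ⟨1, by omega⟩ hp2 hx h _ P.isPGroup' hcomm
  · rcases (Nat.Prime.dvd_mul hp.out).1 (lo_mul_hi X ▸ h) with h' | h'
    · exact rA.sylow_cyclic ⟨4, by ring⟩ hp2 hx h' _ P.isPGroup' hcomm
    · exact rB.sylow_cyclic ⟨4, by ring⟩ hp2 hx h' _ P.isPGroup' hcomm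

theorem ker_eq_bot (hm : 1 ≤ X.m) {Γ : Type*} [Group Γ] [Finite Γ] {σ : Γ →* ↥X.G1}
    (hσ : Cfsg.IsStemExtension σ) : σ.ker = ⊥ := by
  refine Cfsg.Lib.Schur.ker_eq_bot_of_sylow hσ fun p hp => ?_
  haveI := hp
  by_cases hp2 : p = 2
  · subst hp2; exact exists_sylow_two_trivial X hm hσ
  by_cases hp3 : p = 3
  · subst hp3; exact exists_sylow_three_trivial X hm hσ
  obtain ⟨P⟩ : Nonempty (Sylow p ↥X.G1) := inferInstance
  haveI := sylow_cyclic X hm hp2 hp3 P
  obtain ⟨g, hg⟩ := IsCyclic.exists_generator (α := (P : Subgroup ↥X.G1))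
  obtain ⟨S, hS⟩ := Cfsg.Lib.Schur.exists_sylow_map_le hσ.1 (P : Subgroup ↥X.G1) P.card_eq_multiplicity
  obtain ⟨G, hG⟩ := hσ.1 (g : ↥X.G1)
  refine ⟨S, fun z _ hzS => Cfsg.Lib.Schur.eq_one_of_commuting hσ.2.1 (T := {G}) ?_ (by simp) hzS⟩
  rw [Set.image_singleton, ← Subgroup.zpowers_eq_closure, hG]
  refine hS.trans fun y hy => ?_
  obtain ⟨k, hk⟩ := Subgroup.mem_zpowers_iff.mp (hg ⟨y, hy⟩)
  exact Subgroup.mem_zpowers_iff.mpr ⟨k, congrArg Subtype.val hk⟩

/-- The multiplier of a small Ree group is trivial. -/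
theorem multiplier (hm : 1 ≤ X.m) : Cfsg.HasCyclicSchurMultiplier ↥X.G1 1 :=
  Cfsg.Lib.Schur.hasCyclicSchurMultiplier_one_of fun _ _ _ _ hσ => ker_eq_bot X hm hσ

end Cfsg.Lib.ReeStruct
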