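import Cfsg.Agent.Chev.GTwoOdd.ReeS.Counts

/-! The two cyclic Hall subgroups of orders `q ± 3^(m+1) + 1`. -/

set_option autoImplicit false
set_option linter.dupNamespace false
set_option linter.unusedSectionVars false

open Cfsg.Lie

namespace Cfsg.Lib.ReeStruct

open Cfsg.Lib.Chev
open Cfsg.Lib.Chev.Ree (Ree SG)
open Cfsg.Lib.GTwoOdd.ReeInv (hv)

variable {K : Type*} [Field K] [Fintype K] (X : Ree K)

/-- A self-centralizing cyclic subgroup meeting its conjugates trivially, with normalizer quotient of order six. -/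
structure IsTor (A : Subgroup ↥X.G1) (a : ℕ) : Prop where
  cyc : IsCyclic A
  card : Nat.card A = a
  norm : Nat.card ↥(Subgroup.normalizer (A : Set ↥X.G1)) = 6 * a
  cent : ∀ x ∈ A, x ≠ 1 → Subgroup.centralizer {x} = A

theorem cent_conj {A : Subgroup ↥X.G1} {g x : ↥X.G1} (h : Subgroup.centralizer {x} = A) :
    Subgroup.centralizer {g * x * g⁻¹} = A.map (MulAut.conj g).toMonoidHom := by
  ext y
  rw [conj_map_eq, ← h, Subgroup.mem_centralizer_singleton_iff, Subgroup.mem_centralizer_singleton_iff]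
  constructor
  · intro e
    calc g⁻¹ * y * g * x = g⁻¹ * (y * (g * x * g⁻¹)) * g := by group
      _ = _ := by rw [e]; group
  · intro e
    calc y * (g * x * g⁻¹) = g * (g⁻¹ * y * g * x) * g⁻¹ := by group
      _ = _ := by rw [e]; group

/-- A conjugator of a non-trivial element of such a subgroup back into it normalises it. -/
theorem TI_cent {A : Subgroup ↥X.G1} (hA : ∀ x ∈ A, x ≠ 1 → Subgroup.centralizer {x} = A) {g x : ↥X.G1}
    (hx : x ∈ A) (hx1 : x ≠ 1) (h : g * x * g⁻¹ ∈ A) : g ∈ Subgroup.normalizer (A : Set ↥X.G1) := by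
  have e : A.map (MulAut.conj g).toMonoidHom = A := by
    rw [← cent_conj X (hA x hx hx1)]
    exact hA _ h fun e => hx1 ((MulAut.conj g).injective (by simpa using e))
  exact normal_of_conj_le X fun y hy => e ▸ ⟨y, hy, rfl⟩

section Prime

variable {ℓ : ℕ} (hℓ : ℓ.Prime) (hN : ℓ ∣ NN X) {z : ↥X.G1} (hz : orderOf z = ℓ)
include hℓ hN hz

theorem cent_eq {a : ↥X.G1} (ha : a ∈ Subgroup.centralizer {z}) (ha1 : a ≠ 1) :
    Subgroup.centralizer {a} = Subgroup.centralizer {z} := by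
  obtain ⟨hcyc, hdv, -⟩ := amb X hℓ hN hz
  have hzC : z ∈ Subgroup.centralizer {z} := Subgroup.mem_centralizer_singleton_iff.2 rfl
  have hcomm : ∀ x ∈ Subgroup.centralizer ({z} : Set ↥X.G1), ∀ y ∈ Subgroup.centralizer ({z} : Set ↥X.G1),
      x * y = y * x := fun x hx y hy =>
    congrArg Subtype.val (hcyc.commGroup.mul_comm (⟨x, hx⟩ : ↥(Subgroup.centralizer ({z} : Set ↥X.G1))) ⟨y, hy⟩)
  obtain ⟨p, hp, hpa⟩ := Nat.exists_prime_and_dvd fun e => ha1 (orderOf_eq_one_iff.1 e)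
  obtain ⟨k, hk⟩ := exists_prime_pow a hp hpa
  obtain ⟨hcyc', -, -⟩ := amb X hp (hpa.trans ((Subgroup.orderOf_dvd_natCard _ ha).trans hdv)) hk
  have hz' : z ∈ Subgroup.centralizer {a ^ k} :=
    Subgroup.mem_centralizer_singleton_iff.2 (hcomm z hzC _ (pow_mem ha k))
  refine le_antisymm (fun x hx => ?_) fun x hx => Subgroup.mem_centralizer_singleton_iff.2 (hcomm x hx a ha)
  rw [Subgroup.mem_centralizer_singleton_iff] at hx ⊢
  have hx' : x ∈ Subgroup.centralizer {a ^ k} :=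
    Subgroup.mem_centralizer_singleton_iff.2 ((show Commute x a from hx).pow_right k).eq
  exact congrArg Subtype.val
    (hcyc'.commGroup.mul_comm (⟨x, hx'⟩ : ↥(Subgroup.centralizer ({a ^ k} : Set ↥X.G1))) ⟨z, hz'⟩)

theorem fact_eq (hm : 1 ≤ X.m) {p : ℕ} (hp : p.Prime)
    (h : p ∣ Nat.card ↥(Subgroup.centralizer ({z} : Set ↥X.G1))) :
    (NN X).factorization p ≤ (Nat.card ↥(Subgroup.centralizer ({z} : Set ↥X.G1))).factorization p := by
  obtain ⟨-, hdv, -⟩ := amb X hℓ hN hz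
  haveI : Fact p.Prime := ⟨hp⟩
  have h5 := five_le X hp (h.trans hdv)
  obtain ⟨⟨w, hwC⟩, hw⟩ := exists_prime_orderOf_dvd_card' (G := ↥(Subgroup.centralizer ({z} : Set ↥X.G1))) p h
  rw [← Subgroup.orderOf_coe] at hw
  have hw1 : w ≠ 1 := fun e => hp.ne_one (hw.symm.trans (orderOf_eq_one_iff.2 e))
  have hP : IsPGroup p ↥(Subgroup.zpowers w) := IsPGroup.of_card (n := 1) (by rw [Nat.card_zpowers, pow_one]; exact hw)
  obtain ⟨L, hL⟩ := hP.exists_le_sylow
  haveI := Cfsg.Lib.GTwoOdd.ReeInv.sylow_cyclic X hm (show 3 < p by omega) L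
  have hle : (L : Subgroup ↥X.G1) ≤ Subgroup.centralizer {z} := fun x hx => by
    rw [← cent_eq X hℓ hN hz hwC hw1, Subgroup.mem_centralizer_singleton_iff]
    exact congrArg Subtype.val (IsCyclic.commGroup.mul_comm (⟨x, hx⟩ : ↥(L : Subgroup ↥X.G1))
      ⟨w, hL (Subgroup.mem_zpowers w)⟩)
  have hdiv : NN X ∣ Nat.card ↥X.G1 := by rw [card_G]; exact dvd_mul_left _ _
  refine le_trans ((Nat.factorization_le_iff_dvd (NN_pos X).ne' Nat.card_pos.ne').2 hdiv p) ?_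
  refine (Nat.Prime.pow_dvd_iff_le_factorization hp Nat.card_pos.ne').1 ?_
  rw [← L.card_eq_multiplicity]
  exact Subgroup.card_dvd_of_le hle

theorem card_norm :
    ∃ k, k ∣ 6 ∧ Nat.card ↥(Subgroup.normalizer ((Subgroup.centralizer ({z} : Set ↥X.G1) : Subgroup ↥X.G1) : Set ↥X.G1)) =
      k * Nat.card ↥(Subgroup.centralizer ({z} : Set ↥X.G1)) := by
  obtain ⟨hcyc, hdv, hj⟩ := amb X hℓ hN hz
  haveI : Fact ℓ.Prime := ⟨hℓ⟩
  set A := Subgroup.centralizer ({z} : Set ↥X.G1) with hA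
  set Z := Subgroup.zpowers z with hZ
  have hzA : z ∈ A := Subgroup.mem_centralizer_singleton_iff.2 rfl
  have hCZ : Subgroup.centralizer (Z : Set ↥X.G1) = A := by
    rw [hZ, Subgroup.zpowers_eq_closure, Subgroup.centralizer_closure, hA]
  have hNeq : Subgroup.normalizer (A : Set ↥X.G1) = Subgroup.normalizer (Z : Set ↥X.G1) := by
    ext g
    constructor
    · intro hg
      refine normal_of_conj_le X fun x hx => ?_
      have hle : Z.map (MulAut.conj g).toMonoidHom ≤ A := by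
        rintro _ ⟨y, hy, rfl⟩
        exact (Subgroup.mem_normalizer_iff.1 hg y).1 (Subgroup.zpowers_le.2 hzA hy)
      haveI := hcyc
      have he := eq_of_card_eq hle (Subgroup.zpowers_le.2 hzA)
        (Subgroup.card_map_of_injective (MulAut.conj g).injective)
      exact (SetLike.ext_iff.1 he _).1 ⟨x, hx, rfl⟩
    · intro hg
      refine normal_of_conj_le X fun x hx => ?_
      rw [← hCZ, Subgroup.mem_centralizer_iff] at hx ⊢
      intro y hy
      have hy' := (Subgroup.mem_normalizer_iff''.1 hg y).1 hy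
      calc y * (g * x * g⁻¹) = g * (g⁻¹ * y * g * x) * g⁻¹ := by group
        _ = _ := by rw [hx _ hy']; group
  rw [hNeq]
  let ψ := Z.normalizerMonoidHom
  have hker : Nat.card ψ.ker = Nat.card A := by
    rw [Subgroup.normalizerMonoidHom_ker, hCZ]
    refine Nat.card_congr (Subgroup.subgroupOfEquivOfLe ?_).toEquiv
    rw [← hCZ]
    exact Subgroup.centralizer_le_normalizer _
  refine ⟨Nat.card ψ.range, ?_, ?_⟩
  · haveI : IsCyclic Z := inferInstance
    have hpr : Nat.card Z = ℓ := by rw [hZ, Nat.card_zpowers, hz]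
    haveI : Fact (Nat.card Z).Prime := ⟨hpr.symm ▸ hℓ⟩
    haveI : IsCyclic (ZMod (Nat.card Z))ˣ := inferInstance
    haveI : IsCyclic (MulAut Z) :=
      isCyclic_of_surjective (IsCyclic.mulAutMulEquiv Z).symm (IsCyclic.mulAutMulEquiv Z).symm.surjective
    obtain ⟨⟨φ, hφ⟩, hgen⟩ := IsCyclic.exists_generator (α := ψ.range)
    rw [← orderOf_eq_card_of_forall_mem_zpowers hgen]
    refine orderOf_dvd_of_pow_eq_one (Subtype.ext ?_)
    obtain ⟨⟨n, hn⟩, rfl⟩ := hφ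
    show ψ ⟨n, hn⟩ ^ 6 = 1
    obtain ⟨i, hi⟩ := (Subgroup.mem_zpowers_iff).1 ((Subgroup.mem_normalizer_iff.1 hn z).1 (Subgroup.mem_zpowers z))
    obtain ⟨j, hji⟩ : ∃ j : ℕ, z ^ j = z ^ i := by
      have hm : z ^ i ∈ Submonoid.powers z := mem_powers_iff_mem_zpowers.2 (Subgroup.zpow_mem _ (Subgroup.mem_zpowers z) i)
      obtain ⟨j, hj⟩ := hm
      exact ⟨j, hj⟩
    have hnz : n * z * n⁻¹ = z ^ j := by rw [hji, hi]
    have h6 := hj n j hnz
    have hfix : n ^ 6 * z * (n ^ 6)⁻¹ = z := by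
      have hstep : ∀ (t : ℕ), n ^ t * z * (n ^ t)⁻¹ = z ^ (j ^ t) := by
        intro t
        induction t with
        | zero => simp
        | succ t ih =>
          calc n ^ (t + 1) * z * (n ^ (t + 1))⁻¹ = n * (n ^ t * z * (n ^ t)⁻¹) * n⁻¹ := by rw [pow_succ']; group
            _ = (n * z * n⁻¹) ^ (j ^ t) := by rw [ih, conj_pow]
            _ = _ := by rw [hnz, ← pow_mul, ← pow_succ']
      rw [hstep 6, h6]
    rw [← map_pow, ← MonoidHom.mem_ker, Subgroup.normalizerMonoidHom_ker, Subgroup.mem_subgroupOf,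
      hCZ, hA, Subgroup.mem_centralizer_singleton_iff, SubmonoidClass.coe_pow]
    exact mul_inv_eq_iff_eq_mul.1 hfix
  · rw [← hker, Subgroup.card_eq_card_quotient_mul_card_subgroup ψ.ker,
      Nat.card_congr (QuotientGroup.quotientKerEquivRange ψ).toEquiv]

end Prime

theorem card_union {A : Subgroup ↥X.G1} (hA : ∀ x ∈ A, x ≠ 1 → Subgroup.centralizer {x} = A) :
    Nat.card {g : ↥X.G1 | g ≠ 1 ∧ ∃ x, x⁻¹ * g * x ∈ A} =
      (Subgroup.normalizer (A : Set ↥X.G1)).index * (Nat.card A - 1) := by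
  have hT : Nat.card {a : ↥X.G1 | a ∈ A ∧ a ≠ 1} = Nat.card A - 1 := by
    rw [Nat.card_coe_set_eq, show {a : ↥X.G1 | a ∈ A ∧ a ≠ 1} = (A : Set ↥X.G1) \ {1} by ext; simp,
      Set.ncard_diff_singleton_of_mem A.one_mem, ← Nat.card_coe_set_eq]
    rfl
  rw [← hT]
  refine card_eq_of_iff _ {a : ↥X.G1 | a ∈ A ∧ a ≠ 1} (fun g hg z hz => ⟨(Subgroup.mem_normalizer_iff.1 hg _).1 hz.1,
    fun e => hz.2 ((MulAut.conj g).injective (by simpa using e))⟩)
    (fun g z hz h => TI_cent X hA hz.1 hz.2 h.1) (fun g => ?_)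
  constructor
  · rintro ⟨h1, x, hx⟩
    exact ⟨x, hx, fun e => h1 (by
      calc g = x * (x⁻¹ * g * x) * x⁻¹ := by group
        _ = 1 := by rw [e]; group)⟩
  · rintro ⟨x, hx, hne⟩
    exact ⟨fun e => hne (by rw [e]; group), x, hx⟩

theorem conj_of_common (hm : 1 ≤ X.m) {ℓ : ℕ} (hℓ : ℓ.Prime) (hN : ℓ ∣ NN X) {z : ↥X.G1} (hz : orderOf z = ℓ)
    {A : Subgroup ↥X.G1} (hA : ∀ x ∈ A, x ≠ 1 → Subgroup.centralizer {x} = A) (hd : ℓ ∣ Nat.card A) :
    ∃ g : ↥X.G1, g⁻¹ * z * g ∈ A := by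
  haveI : Fact ℓ.Prime := ⟨hℓ⟩
  have h5 := five_le X hℓ hN
  obtain ⟨⟨w, hwA⟩, hw⟩ := exists_prime_orderOf_dvd_card' (G := ↥A) ℓ hd
  rw [← Subgroup.orderOf_coe] at hw
  have hPw : IsPGroup ℓ ↥(Subgroup.zpowers w) := IsPGroup.of_card (n := 1) (by rw [Nat.card_zpowers, pow_one]; exact hw)
  obtain ⟨L, hL⟩ := hPw.exists_le_sylow
  haveI := Cfsg.Lib.GTwoOdd.ReeInv.sylow_cyclic X hm (show 3 < ℓ by omega) L
  have hidx : ¬ ℓ ∣ (L : Subgroup ↥X.G1).index := L.not_dvd_index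
  obtain ⟨g, hg⟩ := exists_conj_mem (L : Subgroup ↥X.G1) hidx (z := z) (n := 1)
    (by rw [pow_one, ← hz, pow_orderOf_eq_one])
  have he : Subgroup.zpowers (g⁻¹ * z * g) = Subgroup.zpowers w :=
    eq_of_card_eq (Subgroup.zpowers_le.2 hg) hL (by rw [Nat.card_zpowers, Nat.card_zpowers, orderOf_conj', hz]; exact hw.symm)
  exact ⟨g, Subgroup.zpowers_le.2 hwA (he ▸ Subgroup.mem_zpowers _)⟩

theorem NN_ge (hm : 1 ≤ X.m) : 27 ≤ Fintype.card K := by
  rw [X.hK]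
  calc 27 = 3 ^ 3 := rfl
    _ ≤ _ := Nat.pow_le_pow_right (by norm_num) (by omega)

theorem fiber_iff (d : ℕ) (P Q R : Prop) [Decidable P] [Decidable Q] [Decidable R]
    (hP : P → d ≠ 3 ∧ d ≠ 6 ∧ d ≠ 9 ∧ ¬ Q ∧ ¬ R ∧ 2 < d) (hQ : Q → d ≠ 3 ∧ d ≠ 6 ∧ d ≠ 9 ∧ ¬ R ∧ 2 < d)
    (hR : R → d ≠ 2 ∧ d ≠ 3 ∧ d ≠ 9 ∧ d ≠ 6 ∧ 1 < d)
    (hall : d = 1 ∨ d = 2 ∨ d = 3 ∨ d = 6 ∨ d = 9 ∨ P ∨ Q ∨ R) :
    let f : Fin 8 := if d = 1 then 0 else if d = 2 then 1 else if d = 3 then 2 else if d = 9 then 3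
      else if d = 6 then 4 else if P then 5 else if Q then 6 else 7
    (f = 0 ↔ d = 1) ∧ (f = 1 ↔ d = 2) ∧ (f = 2 ↔ d = 3) ∧ (f = 3 ↔ d = 9) ∧ (f = 4 ↔ d = 6) ∧
      (f = 5 ↔ P) ∧ (f = 6 ↔ Q) ∧ (f = 7 ↔ R) := by
  intro f
  refine ⟨?_, ?_, ?_, ?_, ?_, ?_, ?_, ?_⟩ <;> (simp only [f]; split_ifs) <;> simp_all <;>
    first | omega | tauto | (intro h; have := hP h; omega) | (intro h; have := hQ h; omega) | (intro h; have := hR h; omega)

open Classical in
theorem count_S (hm : 1 ≤ X.m) :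
    3 * (Nat.card {g : ↥X.G1 | 1 < orderOf g ∧ orderOf g ∣ NN X} * NN X) +
      Nat.card ↥X.G1 * (Fintype.card K + 1) = Nat.card ↥X.G1 * NN X := by
  set q := Fintype.card K with hq
  let f : ↥X.G1 → Fin 8 := fun g =>
    if orderOf g = 1 then 0 else if orderOf g = 2 then 1 else if orderOf g = 3 then 2 else if orderOf g = 9 then 3
    else if orderOf g = 6 then 4 else if 2 < orderOf g ∧ orderOf g ∣ q - 1 then 5
    else if 2 < orderOf g ∧ orderOf g ∣ 2 * nn X then 6 else 7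
  have htot : Nat.card ↥X.G1 = ∑ i : Fin 8, Nat.card {g : ↥X.G1 // f g = i} := by
    rw [← Nat.card_sigma]
    exact (Nat.card_congr (Equiv.sigmaFiberEquiv f)).symm
  obtain ⟨kk, hk1, hk2, -⟩ := q_param X
  have hN0 := NN_pos X
  -- disjointness
  have dH : ∀ d : ℕ, d ∣ q - 1 → ¬ 3 ∣ d := fun d h => not_three_dvd X (Or.inl h)
  have dT : ∀ d : ℕ, d ∣ 2 * nn X → ¬ 3 ∣ d := fun d h =>
    not_three_dvd X (Or.inr (by rw [(nn_spec X).1]; exact h.trans ⟨2, by ring⟩))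
  have dHT : ∀ d : ℕ, d ∣ q - 1 → d ∣ 2 * nn X → d ∣ 2 := by
    intro d h h'
    have := Nat.dvd_gcd h h'
    rw [Nat.Coprime.gcd_mul_right_cancel_right _ (coprime_nn_pred X)] at this
    exact this.trans (Nat.gcd_dvd_right _ _)
  have dN : ∀ d : ℕ, 1 < d → d ∣ NN X → ¬ d ∣ 6 ∧ d ≠ 9 ∧ ¬ d ∣ q - 1 ∧ ¬ d ∣ 2 * nn X := by
    intro d hd hdN
    obtain ⟨p, hp, hpd⟩ := Nat.exists_prime_and_dvd hd.ne'
    have h5 := five_le X hp (hpd.trans hdN)
    refine ⟨fun h => ?_, fun h => ?_, fun h => not_dvd_NN X hp (Or.inl (hpd.trans h)) (hpd.trans hdN),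
      fun h => not_dvd_NN X hp (Or.inr (by rw [(nn_spec X).1]; exact hpd.trans (h.trans ⟨2, by ring⟩))) (hpd.trans hdN)⟩
    · have h6 := hpd.trans h
      have := Nat.le_of_dvd (by norm_num) h6
      interval_cases p <;> first | omega | exact absurd hp (by norm_num)
    · subst h
      exact not_three_dvd_NN X ((show 3 ∣ 9 by norm_num).trans hdN)
  have hiff : ∀ g, (f g = 0 ↔ orderOf g = 1) ∧ (f g = 1 ↔ orderOf g = 2) ∧ (f g = 2 ↔ orderOf g = 3) ∧
      (f g = 3 ↔ orderOf g = 9) ∧ (f g = 4 ↔ orderOf g = 6) ∧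
      (f g = 5 ↔ 2 < orderOf g ∧ orderOf g ∣ q - 1) ∧ (f g = 6 ↔ 2 < orderOf g ∧ orderOf g ∣ 2 * nn X) ∧
      (f g = 7 ↔ 1 < orderOf g ∧ orderOf g ∣ NN X) := by
    intro g
    have hcl := classify X hm g
    have hpos := orderOf_pos g
    simp only [f]
    generalize orderOf g = d at hcl hpos ⊢
    refine fiber_iff d (2 < d ∧ d ∣ q - 1) (2 < d ∧ d ∣ 2 * nn X) (1 < d ∧ d ∣ NN X) (fun h => ?_) (fun h => ?_)
      (fun h => ?_) ?_
    · refine ⟨fun e => dH d h.2 (by omega), fun e => dH d h.2 (by omega), fun e => dH d h.2 (by omega),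
        fun h' => ?_, fun h' => (dN d h'.1 h'.2).2.2.1 h.2, h.1⟩
      have := Nat.le_of_dvd (by norm_num) (dHT d h.2 h'.2)
      omega
    · exact ⟨fun e => dT d h.2 (by omega), fun e => dT d h.2 (by omega), fun e => dT d h.2 (by omega),
        fun h' => (dN d h'.1 h'.2).2.2.2 h.2, h.1⟩
    · obtain ⟨n6, n9, -, -⟩ := dN d h.1 h.2
      exact ⟨fun e => n6 (by subst e; norm_num), fun e => n6 (by subst e; norm_num), n9, fun e => n6 (by subst e; norm_num),
        h.1⟩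
    · rcases hcl with h | h | h | h | h
      · have := Nat.le_of_dvd (by norm_num) h
        interval_cases d <;> omega
      · omega
      · by_cases h2 : 2 < d
        · exact Or.inr (Or.inr (Or.inr (Or.inr (Or.inr (Or.inl ⟨h2, h⟩)))))
        · omega
      · by_cases h2 : 2 < d
        · exact Or.inr (Or.inr (Or.inr (Or.inr (Or.inr (Or.inr (Or.inl ⟨h2, h⟩))))))
        · omega
      · exact Or.inr (Or.inr (Or.inr (Or.inr (Or.inr (Or.inr (Or.inr h))))))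
  have c0 : Nat.card {g : ↥X.G1 // f g = 0} = 1 := by
    rw [Nat.card_congr (Equiv.subtypeEquivRight fun g => (hiff g).1.trans orderOf_eq_one_iff)]
    simp
  have c1 := (Nat.card_congr (Equiv.subtypeEquivRight fun g => (hiff g).2.1)).trans (count_two X hm)
  have c2 := (Nat.card_congr (Equiv.subtypeEquivRight fun g => (hiff g).2.2.1)).trans (count_U X 3 (Or.inl rfl))
  rw [card_Us_three] at c2
  have c3 := (Nat.card_congr (Equiv.subtypeEquivRight fun g => (hiff g).2.2.2.1)).trans (count_U X 9 (Or.inr rfl))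
  have c4 := (Nat.card_congr (Equiv.subtypeEquivRight fun g => (hiff g).2.2.2.2.1)).trans (count_six X hm)
  have c5 := count_H X hm (fun d => 2 < d ∧ d ∣ q - 1) (fun d h => h)
  have c6 := count_T X hm (fun d => 2 < d ∧ d ∣ 2 * nn X) (fun d h => h)
  rw [← Nat.card_congr (Equiv.subtypeEquivRight fun g => (hiff g).2.2.2.2.2.1),
    show {x : ↥X.G1 | x ∈ Hs X ∧ 2 < orderOf x ∧ orderOf x ∣ q - 1} = {x : ↥X.G1 | x ∈ Hs X ∧ 2 < orderOf x} by
      ext x
      exact ⟨fun h => ⟨h.1, h.2.1⟩, fun h => ⟨h.1, h.2, by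
        rw [hq, ← card_Hs X]; exact Subgroup.orderOf_dvd_natCard _ h.1⟩⟩,
    card_Hs_big] at c5
  rw [← Nat.card_congr (Equiv.subtypeEquivRight fun g => (hiff g).2.2.2.2.2.2.1),
    show {x : ↥X.G1 | x ∈ T0 X ∧ 2 < orderOf x ∧ orderOf x ∣ 2 * nn X} = {x : ↥X.G1 | x ∈ T0 X ∧ 2 < orderOf x} by
      ext x
      exact ⟨fun h => ⟨h.1, h.2.1⟩, fun h => ⟨h.1, h.2, orderOf_dvd_of_pow_eq_one (T0_pow X h.1)⟩⟩,
    card_T0_big] at c6
  have c7 := Nat.card_congr (Equiv.subtypeEquivRight fun g => (hiff g).2.2.2.2.2.2.2)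
  rw [show Nat.card {g : ↥X.G1 | 1 < orderOf g ∧ orderOf g ∣ NN X} =
    Nat.card {g : ↥X.G1 // 1 < orderOf g ∧ orderOf g ∣ NN X} from rfl, ← c7]
  have c9 := card_Us_nine X
  rw [Fin.sum_univ_eight, c0, c1, c2, c3, c4] at htot
  have hG := X.card_G1
  have hc := cube_succ X
  have hNc := NN_cast X
  generalize Nat.card {g : ↥X.G1 // f g = 5} = cH at *
  generalize Nat.card {g : ↥X.G1 // f g = 6} = cT at *
  generalize Nat.card {g : ↥X.G1 // f g = 7} = cS at *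
  generalize Nat.card {u : ↥X.G1 | u ∈ Us X ∧ orderOf u = 9} = u9 at *
  generalize Nat.card ↥X.G1 = GG at *
  generalize NN X = N at *
  rw [← hq] at c5 c6 c9 hG hc hNc htot
  have h1q : 3 ≤ q := by omega
  have h2q : 1 ≤ q ^ 2 := Nat.one_le_pow _ _ (by omega)
  zify [h1q, h2q, show 1 ≤ q by omega] at htot hG hc c5 c6 c9 ⊢
  generalize (q : ℤ) = Q at *
  have hu : (u9 : ℤ) = Q ^ 3 - Q ^ 2 := by linear_combination c9
  generalize (N : ℤ) = M at *
  subst hNc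
  rw [hu] at htot
  rw [hG] at htot ⊢
  refine mul_left_cancel₀ (two_ne_zero (α := ℤ)) ?_
  linear_combination (-6 * (Q ^ 2 - Q + 1)) * htot - 3 * (Q ^ 2 - Q + 1) * c5 - (Q ^ 2 - Q + 1) * c6

end Cfsg.Lib.ReeStruct
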