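import Cfsg.Agent.Chev.GTwoOdd.ReeS.Tor

/-! Existence of the cyclic Hall subgroups of orders `q ± 3^(m+1) + 1` by counting. -/

set_option autoImplicit false
set_option linter.dupNamespace false
set_option linter.unusedSectionVars false

open Cfsg.Lie

namespace Cfsg.Lib.ReeStruct

open Cfsg.Lib.Chev
open Cfsg.Lib.Chev.Ree (Ree SG)

variable {K : Type*} [Field K] [Fintype K] (X : Ree K)

/-- The non-trivial conjugates of the elements of a subgroup. -/
noncomputable def USet (A : Subgroup ↥X.G1) : Set ↥X.G1 := {g | g ≠ 1 ∧ ∃ x, x⁻¹ * g * x ∈ A}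

/-- The non-trivial elements of order dividing `q² - q + 1`. -/
noncomputable def SSet : Set ↥X.G1 := {g | 1 < orderOf g ∧ orderOf g ∣ NN X}

theorem q_eq : Fintype.card K = 3 * X.e ^ 2 := by
  rw [X.hK, Cfsg.Lib.Chev.Ree.Ree.e, ← pow_mul, ← pow_succ', mul_comm X.m 2]

theorem three_e_le : 3 * X.e ≤ Fintype.card K := by
  rw [q_eq X]
  have := X.e_pos
  nlinarith

theorem NN_factor : (Fintype.card K + 1 - 3 * X.e) * (Fintype.card K + 1 + 3 * X.e) = NN X := by
  have hle := three_e_le X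
  have h : (((Fintype.card K + 1 - 3 * X.e) * (Fintype.card K + 1 + 3 * X.e) : ℕ) : ℤ) = (NN X : ℤ) := by
    rw [NN_cast, Nat.cast_mul, Nat.cast_sub (by omega), q_eq X]
    push_cast
    ring
  exact_mod_cast h

theorem USet_order {A : Subgroup ↥X.G1} {g : ↥X.G1} (h : g ∈ USet X A) :
    orderOf g ∣ Nat.card A ∧ 1 < orderOf g := by
  obtain ⟨h1, x, hx⟩ := h
  refine ⟨?_, ?_⟩
  · rw [← orderOf_conj' X x g]; exact Subgroup.orderOf_dvd_natCard _ hx
  · have := orderOf_pos g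
    have : orderOf g ≠ 1 := fun e => h1 (orderOf_eq_one_iff.1 e)
    omega

theorem USet_le {A : Subgroup ↥X.G1} (hd : Nat.card A ∣ NN X) : USet X A ⊆ SSet X := fun _ h =>
  ⟨(USet_order X h).2, (USet_order X h).1.trans hd⟩

theorem disjoint_USet {A B : Subgroup ↥X.G1} (h : Nat.Coprime (Nat.card A) (Nat.card B)) :
    Disjoint (USet X A) (USet X B) := by
  rw [Set.disjoint_left]
  intro g ha hb
  have := Nat.eq_one_of_dvd_coprimes h (USet_order X ha).1 (USet_order X hb).1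
  have := (USet_order X ha).2
  omega

theorem cover (hm : 1 ≤ X.m) {A : Subgroup ↥X.G1} (hA : ∀ x ∈ A, x ≠ 1 → Subgroup.centralizer {x} = A)
    {g : ↥X.G1} (hg : g ∈ SSet X) {p : ℕ} (hp : p.Prime) (hpg : p ∣ orderOf g) (hpA : p ∣ Nat.card A) :
    g ∈ USet X A := by
  obtain ⟨h1, h2⟩ := hg
  obtain ⟨k, hk⟩ := exists_prime_pow g hp hpg
  obtain ⟨x, hx⟩ := conj_of_common X hm hp (hpg.trans h2) hk hA hpA
  refine ⟨fun e => by rw [e, orderOf_one] at h1; omega, x, ?_⟩
  rw [← hA _ hx (fun e => hp.ne_one (by rw [← hk, ← orderOf_conj' X x (g ^ k), e, orderOf_one])),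
    Subgroup.mem_centralizer_singleton_iff]
  exact commute_conj X ((Commute.refl g).pow_right k).eq

/-- A maximal cyclic subgroup of this kind through a given prime. -/
structure Raw (A : Subgroup ↥X.G1) (k : ℕ) : Prop where
  cyc : IsCyclic A
  dvd : Nat.card A ∣ NN X
  five : 5 ≤ Nat.card A
  k6 : k ∣ 6
  norm : Nat.card ↥(Subgroup.normalizer (A : Set ↥X.G1)) = k * Nat.card A
  cent : ∀ x ∈ A, x ≠ 1 → Subgroup.centralizer {x} = A
  hall : ∀ p, p.Prime → p ∣ Nat.card A → (Nat.card A).factorization p = (NN X).factorization p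

theorem exists_raw (hm : 1 ≤ X.m) {ℓ : ℕ} (hℓ : ℓ.Prime) (hN : ℓ ∣ NN X) :
    ∃ A k, Raw X A k ∧ ℓ ∣ Nat.card A := by
  haveI : Fact ℓ.Prime := ⟨hℓ⟩
  obtain ⟨z, hz⟩ := exists_prime_orderOf_dvd_card' (G := ↥X.G1) ℓ (hN.trans (by rw [card_G]; exact dvd_mul_left _ _))
  obtain ⟨hcyc, hdv, -⟩ := amb X hℓ hN hz
  obtain ⟨k, hk6, hk⟩ := card_norm X hℓ hN hz
  have hzA : z ∈ Subgroup.centralizer ({z} : Set ↥X.G1) := Subgroup.mem_centralizer_singleton_iff.2 rfl
  have hld : ℓ ∣ Nat.card ↥(Subgroup.centralizer ({z} : Set ↥X.G1)) := hz ▸ Subgroup.orderOf_dvd_natCard _ hzA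
  exact ⟨_, k, ⟨hcyc, hdv, (five_le X hℓ hN).trans (Nat.le_of_dvd Nat.card_pos hld), hk6, hk,
    fun x hx hx1 => cent_eq X hℓ hN hz hx hx1, fun p hp hpd => le_antisymm
      ((Nat.factorization_le_iff_dvd Nat.card_pos.ne' (NN_pos X).ne').2 hdv p) (fact_eq X hℓ hN hz hm hp hpd)⟩, hld⟩

theorem raw_count {A : Subgroup ↥X.G1} {k : ℕ} (h : Raw X A k) :
    Nat.card (USet X A) * (k * Nat.card A) = Nat.card ↥X.G1 * (Nat.card A - 1) := by
  rw [show Nat.card (USet X A) = _ from card_union X h.cent,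
    ← Subgroup.card_mul_index (Subgroup.normalizer (A : Set ↥X.G1)), h.norm]
  ring

theorem raw_coprime (hm : 1 ≤ X.m) {A B : Subgroup ↥X.G1} {k j : ℕ} (ha : Raw X A k) (hb : Raw X B j) {ℓ : ℕ}
    (hlB : ℓ ∣ Nat.card B) (hlA : ¬ ℓ ∣ Nat.card A) : Nat.Coprime (Nat.card A) (Nat.card B) := by
  refine Nat.coprime_of_dvd fun p hp hpA hpB => hlA ?_
  haveI : Fact p.Prime := ⟨hp⟩
  obtain ⟨⟨w, hwA⟩, hw⟩ := exists_prime_orderOf_dvd_card' (G := ↥A) p hpA
  rw [← Subgroup.orderOf_coe] at hw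
  obtain ⟨g, hg⟩ := conj_of_common X hm hp (hpA.trans ha.dvd) hw hb.cent hpB
  have hw1 : w ≠ 1 := fun e => hp.ne_one (hw.symm.trans (orderOf_eq_one_iff.2 e))
  have h1 := hb.cent _ hg fun e => hw1 (by
    calc w = g * (g⁻¹ * w * g) * g⁻¹ := by group
      _ = 1 := by rw [e]; group)
  have h2 := cent_conj X (g := g⁻¹) (ha.cent w hwA hw1)
  rw [inv_inv, h1] at h2
  rw [h2, Subgroup.card_map_of_injective (MulAut.conj g⁻¹).injective] at hlB
  exact hlB

theorem eq_of_cover {a : ℕ} (hd : a ∣ NN X) (hh : ∀ p, p.Prime → p ∣ a → a.factorization p = (NN X).factorization p)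
    (hall : ∀ p, p.Prime → p ∣ NN X → p ∣ a) : a = NN X := by
  have ha : a ≠ 0 := fun e => by rw [e] at hd; exact (NN_pos X).ne' (zero_dvd_iff.1 hd)
  refine Nat.eq_of_factorization_eq ha (NN_pos X).ne' fun p => ?_
  by_cases hp : p.Prime
  · by_cases hpa : p ∣ a
    · exact hh p hp hpa
    · rw [Nat.factorization_eq_zero_of_not_dvd hpa,
        Nat.factorization_eq_zero_of_not_dvd fun h => hpa (hall p hp h)]
  · rw [Nat.factorization_eq_zero_of_not_prime _ hp, Nat.factorization_eq_zero_of_not_prime _ hp]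

theorem raw_bound {A : Subgroup ↥X.G1} {k : ℕ} (h : Raw X A k) :
    4 * Nat.card ↥X.G1 ≤ 5 * (k * Nat.card (USet X A)) := by
  have e := raw_count X h
  have h5 := h.five
  obtain ⟨a, ha⟩ : ∃ a, Nat.card A = a + 1 := ⟨_, (Nat.sub_add_cancel (le_trans (by norm_num) h5)).symm⟩
  rw [ha, Nat.add_sub_cancel] at e
  nlinarith

/-- There are exactly two classes, of the expected orders. -/
theorem exists_tori (hm : 1 ≤ X.m) :
    ∃ A B : Subgroup ↥X.G1, IsTor X A (Fintype.card K + 1 - 3 * X.e) ∧ IsTor X B (Fintype.card K + 1 + 3 * X.e) ∧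
      Nat.Coprime (Fintype.card K + 1 - 3 * X.e) (Fintype.card K + 1 + 3 * X.e) ∧
      ∀ g : ↥X.G1, 1 < orderOf g → orderOf g ∣ NN X → ∃ x, x⁻¹ * g * x ∈ A ∨ x⁻¹ * g * x ∈ B := by
  classical
  set q := Fintype.card K with hq
  have h27 := NN_ge X hm
  have hS := count_S X hm
  change 3 * (Nat.card (SSet X) * NN X) + _ = _ at hS
  set G := Nat.card ↥X.G1 with hG
  rw [← hq] at hS h27
  have hG0 : 0 < G := Nat.card_pos
  have hNc := NN_cast X
  have hN0 := NN_pos X
  have hN1 : 1 < NN X := by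
    have : 27 * 27 ≤ q ^ 2 := by rw [sq]; exact Nat.mul_le_mul h27 h27
    have hle : q ≤ q ^ 2 := Nat.le_self_pow two_ne_zero q
    show 1 < q ^ 2 - q + 1
    have : q * 27 ≤ q ^ 2 := by rw [sq]; exact Nat.mul_le_mul_left q h27
    omega
  obtain ⟨ℓ₁, hℓ₁, hl1⟩ := Nat.exists_prime_and_dvd hN1.ne'
  obtain ⟨A, k, hA, hA1⟩ := exists_raw X hm hℓ₁ hl1
  have hsmall : 3 * Nat.card (SSet X) < G := by
    by_contra h
    push Not at h
    have h1 : G * NN X ≤ 3 * (Nat.card (SSet X) * NN X) := by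
      rw [← mul_assoc]; exact Nat.mul_le_mul_right _ h
    have : 0 < G * (q + 1) := Nat.mul_pos hG0 (Nat.succ_pos _)
    omega
  by_cases hone : ∀ p, p.Prime → p ∣ NN X → p ∣ Nat.card A
  · exfalso
    have ha := eq_of_cover X hA.dvd hA.hall hone
    have hU : SSet X = USet X A := by
      refine le_antisymm (fun g hg => ?_) (USet_le X hA.dvd)
      obtain ⟨p, hp, hpg⟩ := Nat.exists_prime_and_dvd hg.1.ne'
      exact cover X hm hA.cent hg hp hpg (hone p hp (hpg.trans hg.2))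
    have e := raw_count X hA
    rw [← hU, ← hG, ha] at e
    have e1 : (Nat.card (SSet X) : ℤ) * ((k : ℤ) * NN X) = (G : ℤ) * ((NN X : ℤ) - 1) := by
      have := congrArg (fun t : ℕ => (t : ℤ)) e
      simp only [Nat.cast_mul, Nat.cast_sub hN1.le, Nat.cast_one] at this
      exact this
    have e2 : 3 * ((Nat.card (SSet X) : ℤ) * NN X) + (G : ℤ) * ((q : ℤ) + 1) = (G : ℤ) * NN X := by exact_mod_cast hS
    have e3 : (k : ℤ) * ((NN X : ℤ) - q - 1) = 3 * ((NN X : ℤ) - 1) :=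
      mul_left_cancel₀ (show (G : ℤ) ≠ 0 by omega) (by linear_combination 3 * e1 - (k : ℤ) * e2)
    rw [hNc, ← hq] at e3
    have hk := hA.k6
    have hk' := Nat.le_of_dvd (by norm_num) hk
    have hq27 : (27 : ℤ) ≤ q := by exact_mod_cast h27
    interval_cases k <;> first | omega | (push_cast at e3; nlinarith [mul_le_mul_of_nonneg_left hq27 (show (0 : ℤ) ≤ q by positivity)])
  push Not at hone
  obtain ⟨ℓ₂, hℓ₂, hl2, hl2A⟩ := hone
  obtain ⟨B, j, hB, hB2⟩ := exists_raw X hm hℓ₂ hl2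
  have hAB := raw_coprime X hm hA hB hB2 hl2A
  have hcov : ∀ p, p.Prime → p ∣ NN X → p ∣ Nat.card A * Nat.card B := by
    by_contra hno
    push Not at hno
    obtain ⟨ℓ₃, hℓ₃, hl3, hl3AB⟩ := hno
    obtain ⟨C, i, hC, hC3⟩ := exists_raw X hm hℓ₃ hl3
    have hAC := raw_coprime X hm hA hC hC3 fun h => hl3AB (h.mul_right _)
    have hBC := raw_coprime X hm hB hC hC3 fun h => hl3AB (h.mul_left _)
    have hsum : Nat.card (USet X A) + Nat.card (USet X B) + Nat.card (USet X C) ≤ Nat.card (SSet X) := by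
      simp only [Nat.card_coe_set_eq]
      rw [← Set.ncard_union_eq (disjoint_USet X hAB), ← Set.ncard_union_eq
        (Set.disjoint_union_left.2 ⟨disjoint_USet X hAC, disjoint_USet X hBC⟩)]
      exact Set.ncard_le_ncard (Set.union_subset (Set.union_subset (USet_le X hA.dvd) (USet_le X hB.dvd))
        (USet_le X hC.dvd))
    have b1 := raw_bound X hA
    have b2 := raw_bound X hB
    have b3 := raw_bound X hC
    have k1 := Nat.mul_le_mul_right (Nat.card (USet X A)) (Nat.le_of_dvd (by norm_num) hA.k6)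
    have k2 := Nat.mul_le_mul_right (Nat.card (USet X B)) (Nat.le_of_dvd (by norm_num) hB.k6)
    have k3 := Nat.mul_le_mul_right (Nat.card (USet X C)) (Nat.le_of_dvd (by norm_num) hC.k6)
    rw [← hG] at b1 b2 b3
    omega
  have hU : SSet X = USet X A ∪ USet X B := by
    refine le_antisymm (fun g hg => ?_) (Set.union_subset (USet_le X hA.dvd) (USet_le X hB.dvd))
    obtain ⟨p, hp, hpg⟩ := Nat.exists_prime_and_dvd hg.1.ne'
    rcases hp.dvd_mul.1 (hcov p hp (hpg.trans hg.2)) with h | h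
    · exact Or.inl (cover X hm hA.cent hg hp hpg h)
    · exact Or.inr (cover X hm hB.cent hg hp hpg h)
  have hc : Nat.card (SSet X) = Nat.card (USet X A) + Nat.card (USet X B) := by
    simp only [Nat.card_coe_set_eq]
    rw [hU, Set.ncard_union_eq (disjoint_USet X hAB)]
  have hk6 : k = 6 ∧ j = 6 := by
    have b1 := raw_bound X hA
    have b2 := raw_bound X hB
    rw [← hG] at b1 b2
    have hk := Nat.le_of_dvd (by norm_num) hA.k6
    have hj := Nat.le_of_dvd (by norm_num) hB.k6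
    have h3 : ∀ t, t ∣ 6 → t = 6 ∨ t ≤ 3 := fun t ht => by
      have := Nat.le_of_dvd (by norm_num) ht
      interval_cases t <;> omega
    rcases h3 k hA.k6 with rfl | hk3 <;> rcases h3 j hB.k6 with rfl | hj3
    · exact ⟨rfl, rfl⟩
    · have := Nat.mul_le_mul_right (Nat.card (USet X B)) hj3; omega
    · have := Nat.mul_le_mul_right (Nat.card (USet X A)) hk3; omega
    · have := Nat.mul_le_mul_right (Nat.card (USet X A)) hk3
      have := Nat.mul_le_mul_right (Nat.card (USet X B)) hj3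
      omega
  obtain ⟨rfl, rfl⟩ := hk6
  have hmul : Nat.card A * Nat.card B = NN X := by
    refine eq_of_cover X (Nat.Coprime.mul_dvd_of_dvd_of_dvd hAB hA.dvd hB.dvd) (fun p hp hpd => ?_) hcov
    rw [Nat.factorization_mul Nat.card_pos.ne' Nat.card_pos.ne', Finsupp.add_apply]
    rcases hp.dvd_mul.1 hpd with h | h
    · rw [hA.hall p hp h, Nat.factorization_eq_zero_of_not_dvd fun h' => hp.ne_one (Nat.eq_one_of_dvd_coprimes hAB h h'),
        add_zero]
    · rw [hB.hall p hp h, Nat.factorization_eq_zero_of_not_dvd fun h' => hp.ne_one (Nat.eq_one_of_dvd_coprimes hAB h' h),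
        zero_add]
  have hsum : Nat.card A + Nat.card B = 2 * (q + 1) := by
    have eA := raw_count X hA
    have eB := raw_count X hB
    rw [← hG] at eA eB
    have pA : 1 ≤ Nat.card A := Nat.card_pos
    have pB : 1 ≤ Nat.card B := Nat.card_pos
    zify [pA, pB] at eA eB hc hS hmul ⊢
    refine mul_left_cancel₀ (show (G : ℤ) ≠ 0 by omega) ?_
    linear_combination (Nat.card B : ℤ) * eA + (Nat.card A : ℤ) * eB - 2 * hS
      + (2 * (G : ℤ) - 6 * (Nat.card (USet X A) : ℤ) - 6 * (Nat.card (USet X B) : ℤ)) * hmul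
      + (6 * (NN X : ℤ)) * hc
  have hfac := NN_factor X
  have hle := three_e_le X
  have he := X.e_pos
  rw [← hq] at hfac hle
  set lo := q + 1 - 3 * X.e with hlo
  set hi := q + 1 + 3 * X.e with hhi
  have hsum' : Nat.card A + Nat.card B = lo + hi := by omega
  have hcases : Nat.card A = lo ∧ Nat.card B = hi ∨ Nat.card A = hi ∧ Nat.card B = lo := by
    have h0 : ((Nat.card A : ℤ) - lo) * ((Nat.card A : ℤ) - hi) = 0 := by
      have e1 : (Nat.card A : ℤ) + Nat.card B = lo + hi := by exact_mod_cast hsum'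
      have e2 : (Nat.card A : ℤ) * Nat.card B = (lo : ℤ) * hi := by exact_mod_cast hmul.trans hfac.symm
      linear_combination (Nat.card A : ℤ) * e1 - e2
    rcases mul_eq_zero.1 h0 with h | h <;> [left; right] <;> constructor <;> omega
  have cvr : ∀ g : ↥X.G1, 1 < orderOf g → orderOf g ∣ NN X → ∃ x, x⁻¹ * g * x ∈ A ∨ x⁻¹ * g * x ∈ B := by
    intro g h1 h2
    have hg : g ∈ SSet X := ⟨h1, h2⟩
    rw [hU] at hg
    rcases hg with ⟨-, x, hx⟩ | ⟨-, x, hx⟩
    · exact ⟨x, Or.inl hx⟩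
    · exact ⟨x, Or.inr hx⟩
  rcases hcases with ⟨e1, e2⟩ | ⟨e1, e2⟩
  · exact ⟨A, B, ⟨hA.cyc, e1, hA.norm.trans (by rw [e1]), hA.cent⟩, ⟨hB.cyc, e2, hB.norm.trans (by rw [e2]), hB.cent⟩,
      e1 ▸ e2 ▸ hAB, cvr⟩
  · exact ⟨B, A, ⟨hB.cyc, e2, hB.norm.trans (by rw [e2]), hB.cent⟩, ⟨hA.cyc, e1, hA.norm.trans (by rw [e1]), hA.cent⟩,
      e1 ▸ e2 ▸ hAB.symm, fun g h1 h2 => (cvr g h1 h2).imp fun _ h => h.symm⟩

end Cfsg.Lib.ReeStruct
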